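/-
The certified coset table of Fi24 on its 306936 points.
-/
import Cfsg.Agent.Lib.CosetEnum.Fi24Table.Edges0
import Cfsg.Agent.Lib.CosetEnum.Fi24Table.Edges1
import Cfsg.Agent.Lib.CosetEnum.Fi24Table.Edges2
import Cfsg.Agent.Lib.CosetEnum.Fi24Table.Edges3
import Cfsg.Agent.Lib.CosetEnum.Fi24Table.Edges4
import Cfsg.Agent.Lib.CosetEnum.Fi24Table.Edges5
import Cfsg.Agent.Lib.CosetEnum.Fi24Table.Edges6
import Cfsg.Agent.Lib.CosetEnum.Fi24Table.Edges7
import Cfsg.Agent.Lib.CosetEnum.Fi24Table.Edges8
import Cfsg.Agent.Lib.CosetEnum.Fi24Table.Edges9
import Cfsg.Agent.Lib.CosetEnum.Fi24Table.Edges10
import Cfsg.Agent.Lib.CosetEnum.Fi24Table.Edges11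
import Cfsg.Agent.Lib.CosetEnum.Fi24Table.Edges12
import Cfsg.Agent.Lib.CosetEnum.Fi24Table.Edges13
import Cfsg.Agent.Lib.CosetEnum.Fi24Table.Edges14
import Cfsg.Agent.Lib.CosetEnum.Fi24Table.Edges15
import Cfsg.Agent.Lib.CosetEnum.Fi24Table.Edges16
import Cfsg.Agent.Lib.CosetEnum.Fi24Table.Edges17
import Cfsg.Agent.Lib.CosetEnum.Fi24Table.Edges18
import Cfsg.Agent.Lib.CosetEnum.Fi24Table.Edges19
import Cfsg.Agent.Lib.CosetEnum.Fi24Table.Edges20
import Cfsg.Agent.Lib.CosetEnum.Fi24Table.Edges21
import Cfsg.Agent.Lib.CosetEnum.Fi24Table.Edges22
import Cfsg.Agent.Lib.CosetEnum.Fi24Table.Edges23
import Cfsg.Agent.Lib.CosetEnum.Fi24Table.Edges24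
import Cfsg.Agent.Lib.CosetEnum.Fi24Table.Edges25
import Cfsg.Agent.Lib.CosetEnum.Fi24Table.Edges26
import Cfsg.Agent.Lib.CosetEnum.Fi24Table.Edges27
import Cfsg.Agent.Lib.CosetEnum.Fi24Table.Edges28
import Cfsg.Agent.Lib.CosetEnum.Fi24Table.Edges29
import Cfsg.Agent.Lib.CosetEnum.Fi24Table.Edges30
import Cfsg.Agent.Lib.CosetEnum.Fi24Table.Edges31
import Cfsg.Agent.Lib.CosetEnum.Fi24Table.Edges32
import Cfsg.Agent.Lib.CosetEnum.Fi24Table.Edges33
import Cfsg.Agent.Lib.CosetEnum.Fi24Table.Edges34
import Cfsg.Agent.Lib.CosetEnum.Fi24Table.Edges35
import Cfsg.Agent.Lib.CosetEnum.Fi24Table.Edges36
import Cfsg.Agent.Lib.CosetEnum.Fi24Table.Edges37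
import Cfsg.Agent.Lib.CosetEnum.Fi24Table.Edges38

set_option autoImplicit false
set_option maxRecDepth 1000000

namespace CfsgLib.CosetEnum.Fi24Table

open CfsgLib.CosetEnum

theorem edges0 : ∀ d < 500, Edge.EdgeOK data table rank seed d := fun d hd =>
  Edge.okERows_sound data table rank just0 0 just0_ok (fun d hd => absurd hd (Nat.not_lt_zero d)) d (by rw [just0_len]; exact hd)

theorem edges1 : ∀ d < 1000, Edge.EdgeOK data table rank seed d := fun d hd =>
  Edge.okERows_sound data table rank just1 500 just1_ok (edges0) d (by rw [just1_len]; exact hd)

theorem edges2 : ∀ d < 1500, Edge.EdgeOK data table rank seed d := fun d hd =>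
  Edge.okERows_sound data table rank just2 1000 just2_ok (edges1) d (by rw [just2_len]; exact hd)

theorem edges3 : ∀ d < 2000, Edge.EdgeOK data table rank seed d := fun d hd =>
  Edge.okERows_sound data table rank just3 1500 just3_ok (edges2) d (by rw [just3_len]; exact hd)

theorem edges4 : ∀ d < 2500, Edge.EdgeOK data table rank seed d := fun d hd =>
  Edge.okERows_sound data table rank just4 2000 just4_ok (edges3) d (by rw [just4_len]; exact hd)

theorem edges5 : ∀ d < 3000, Edge.EdgeOK data table rank seed d := fun d hd =>
  Edge.okERows_sound data table rank just5 2500 just5_ok (edges4) d (by rw [just5_len]; exact hd)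

theorem edges6 : ∀ d < 3500, Edge.EdgeOK data table rank seed d := fun d hd =>
  Edge.okERows_sound data table rank just6 3000 just6_ok (edges5) d (by rw [just6_len]; exact hd)

theorem edges7 : ∀ d < 4000, Edge.EdgeOK data table rank seed d := fun d hd =>
  Edge.okERows_sound data table rank just7 3500 just7_ok (edges6) d (by rw [just7_len]; exact hd)

theorem edges8 : ∀ d < 4500, Edge.EdgeOK data table rank seed d := fun d hd =>
  Edge.okERows_sound data table rank just8 4000 just8_ok (edges7) d (by rw [just8_len]; exact hd)

theorem edges9 : ∀ d < 5000, Edge.EdgeOK data table rank seed d := fun d hd =>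
  Edge.okERows_sound data table rank just9 4500 just9_ok (edges8) d (by rw [just9_len]; exact hd)

theorem edges10 : ∀ d < 5500, Edge.EdgeOK data table rank seed d := fun d hd =>
  Edge.okERows_sound data table rank just10 5000 just10_ok (edges9) d (by rw [just10_len]; exact hd)

theorem edges11 : ∀ d < 6000, Edge.EdgeOK data table rank seed d := fun d hd =>
  Edge.okERows_sound data table rank just11 5500 just11_ok (edges10) d (by rw [just11_len]; exact hd)

theorem edges12 : ∀ d < 6500, Edge.EdgeOK data table rank seed d := fun d hd =>
  Edge.okERows_sound data table rank just12 6000 just12_ok (edges11) d (by rw [just12_len]; exact hd)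

theorem edges13 : ∀ d < 7000, Edge.EdgeOK data table rank seed d := fun d hd =>
  Edge.okERows_sound data table rank just13 6500 just13_ok (edges12) d (by rw [just13_len]; exact hd)

theorem edges14 : ∀ d < 7500, Edge.EdgeOK data table rank seed d := fun d hd =>
  Edge.okERows_sound data table rank just14 7000 just14_ok (edges13) d (by rw [just14_len]; exact hd)

theorem edges15 : ∀ d < 8000, Edge.EdgeOK data table rank seed d := fun d hd =>
  Edge.okERows_sound data table rank just15 7500 just15_ok (edges14) d (by rw [just15_len]; exact hd)

theorem edges16 : ∀ d < 8500, Edge.EdgeOK data table rank seed d := fun d hd =>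
  Edge.okERows_sound data table rank just16 8000 just16_ok (edges15) d (by rw [just16_len]; exact hd)

theorem edges17 : ∀ d < 9000, Edge.EdgeOK data table rank seed d := fun d hd =>
  Edge.okERows_sound data table rank just17 8500 just17_ok (edges16) d (by rw [just17_len]; exact hd)

theorem edges18 : ∀ d < 9500, Edge.EdgeOK data table rank seed d := fun d hd =>
  Edge.okERows_sound data table rank just18 9000 just18_ok (edges17) d (by rw [just18_len]; exact hd)

theorem edges19 : ∀ d < 10000, Edge.EdgeOK data table rank seed d := fun d hd =>
  Edge.okERows_sound data table rank just19 9500 just19_ok (edges18) d (by rw [just19_len]; exact hd)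

theorem edges20 : ∀ d < 10500, Edge.EdgeOK data table rank seed d := fun d hd =>
  Edge.okERows_sound data table rank just20 10000 just20_ok (edges19) d (by rw [just20_len]; exact hd)

theorem edges21 : ∀ d < 11000, Edge.EdgeOK data table rank seed d := fun d hd =>
  Edge.okERows_sound data table rank just21 10500 just21_ok (edges20) d (by rw [just21_len]; exact hd)

theorem edges22 : ∀ d < 11500, Edge.EdgeOK data table rank seed d := fun d hd =>
  Edge.okERows_sound data table rank just22 11000 just22_ok (edges21) d (by rw [just22_len]; exact hd)

theorem edges23 : ∀ d < 12000, Edge.EdgeOK data table rank seed d := fun d hd =>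
  Edge.okERows_sound data table rank just23 11500 just23_ok (edges22) d (by rw [just23_len]; exact hd)

theorem edges24 : ∀ d < 12500, Edge.EdgeOK data table rank seed d := fun d hd =>
  Edge.okERows_sound data table rank just24 12000 just24_ok (edges23) d (by rw [just24_len]; exact hd)

theorem edges25 : ∀ d < 13000, Edge.EdgeOK data table rank seed d := fun d hd =>
  Edge.okERows_sound data table rank just25 12500 just25_ok (edges24) d (by rw [just25_len]; exact hd)

theorem edges26 : ∀ d < 13500, Edge.EdgeOK data table rank seed d := fun d hd =>
  Edge.okERows_sound data table rank just26 13000 just26_ok (edges25) d (by rw [just26_len]; exact hd)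

theorem edges27 : ∀ d < 14000, Edge.EdgeOK data table rank seed d := fun d hd =>
  Edge.okERows_sound data table rank just27 13500 just27_ok (edges26) d (by rw [just27_len]; exact hd)

theorem edges28 : ∀ d < 14500, Edge.EdgeOK data table rank seed d := fun d hd =>
  Edge.okERows_sound data table rank just28 14000 just28_ok (edges27) d (by rw [just28_len]; exact hd)

theorem edges29 : ∀ d < 15000, Edge.EdgeOK data table rank seed d := fun d hd =>
  Edge.okERows_sound data table rank just29 14500 just29_ok (edges28) d (by rw [just29_len]; exact hd)

theorem edges30 : ∀ d < 15500, Edge.EdgeOK data table rank seed d := fun d hd =>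
  Edge.okERows_sound data table rank just30 15000 just30_ok (edges29) d (by rw [just30_len]; exact hd)

theorem edges31 : ∀ d < 16000, Edge.EdgeOK data table rank seed d := fun d hd =>
  Edge.okERows_sound data table rank just31 15500 just31_ok (edges30) d (by rw [just31_len]; exact hd)

theorem edges32 : ∀ d < 16500, Edge.EdgeOK data table rank seed d := fun d hd =>
  Edge.okERows_sound data table rank just32 16000 just32_ok (edges31) d (by rw [just32_len]; exact hd)

theorem edges33 : ∀ d < 17000, Edge.EdgeOK data table rank seed d := fun d hd =>
  Edge.okERows_sound data table rank just33 16500 just33_ok (edges32) d (by rw [just33_len]; exact hd)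

theorem edges34 : ∀ d < 17500, Edge.EdgeOK data table rank seed d := fun d hd =>
  Edge.okERows_sound data table rank just34 17000 just34_ok (edges33) d (by rw [just34_len]; exact hd)

theorem edges35 : ∀ d < 18000, Edge.EdgeOK data table rank seed d := fun d hd =>
  Edge.okERows_sound data table rank just35 17500 just35_ok (edges34) d (by rw [just35_len]; exact hd)

theorem edges36 : ∀ d < 18500, Edge.EdgeOK data table rank seed d := fun d hd =>
  Edge.okERows_sound data table rank just36 18000 just36_ok (edges35) d (by rw [just36_len]; exact hd)

theorem edges37 : ∀ d < 19000, Edge.EdgeOK data table rank seed d := fun d hd =>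
  Edge.okERows_sound data table rank just37 18500 just37_ok (edges36) d (by rw [just37_len]; exact hd)

theorem edges38 : ∀ d < 19500, Edge.EdgeOK data table rank seed d := fun d hd =>
  Edge.okERows_sound data table rank just38 19000 just38_ok (edges37) d (by rw [just38_len]; exact hd)

theorem edges39 : ∀ d < 20000, Edge.EdgeOK data table rank seed d := fun d hd =>
  Edge.okERows_sound data table rank just39 19500 just39_ok (edges38) d (by rw [just39_len]; exact hd)

theorem edges40 : ∀ d < 20500, Edge.EdgeOK data table rank seed d := fun d hd =>
  Edge.okERows_sound data table rank just40 20000 just40_ok (edges39) d (by rw [just40_len]; exact hd)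

theorem edges41 : ∀ d < 21000, Edge.EdgeOK data table rank seed d := fun d hd =>
  Edge.okERows_sound data table rank just41 20500 just41_ok (edges40) d (by rw [just41_len]; exact hd)

theorem edges42 : ∀ d < 21500, Edge.EdgeOK data table rank seed d := fun d hd =>
  Edge.okERows_sound data table rank just42 21000 just42_ok (edges41) d (by rw [just42_len]; exact hd)

theorem edges43 : ∀ d < 22000, Edge.EdgeOK data table rank seed d := fun d hd =>
  Edge.okERows_sound data table rank just43 21500 just43_ok (edges42) d (by rw [just43_len]; exact hd)

theorem edges44 : ∀ d < 22500, Edge.EdgeOK data table rank seed d := fun d hd =>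
  Edge.okERows_sound data table rank just44 22000 just44_ok (edges43) d (by rw [just44_len]; exact hd)

theorem edges45 : ∀ d < 23000, Edge.EdgeOK data table rank seed d := fun d hd =>
  Edge.okERows_sound data table rank just45 22500 just45_ok (edges44) d (by rw [just45_len]; exact hd)

theorem edges46 : ∀ d < 23500, Edge.EdgeOK data table rank seed d := fun d hd =>
  Edge.okERows_sound data table rank just46 23000 just46_ok (edges45) d (by rw [just46_len]; exact hd)

theorem edges47 : ∀ d < 24000, Edge.EdgeOK data table rank seed d := fun d hd =>
  Edge.okERows_sound data table rank just47 23500 just47_ok (edges46) d (by rw [just47_len]; exact hd)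

theorem edges48 : ∀ d < 24500, Edge.EdgeOK data table rank seed d := fun d hd =>
  Edge.okERows_sound data table rank just48 24000 just48_ok (edges47) d (by rw [just48_len]; exact hd)

theorem edges49 : ∀ d < 25000, Edge.EdgeOK data table rank seed d := fun d hd =>
  Edge.okERows_sound data table rank just49 24500 just49_ok (edges48) d (by rw [just49_len]; exact hd)

theorem edges50 : ∀ d < 25500, Edge.EdgeOK data table rank seed d := fun d hd =>
  Edge.okERows_sound data table rank just50 25000 just50_ok (edges49) d (by rw [just50_len]; exact hd)

theorem edges51 : ∀ d < 26000, Edge.EdgeOK data table rank seed d := fun d hd =>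
  Edge.okERows_sound data table rank just51 25500 just51_ok (edges50) d (by rw [just51_len]; exact hd)

theorem edges52 : ∀ d < 26500, Edge.EdgeOK data table rank seed d := fun d hd =>
  Edge.okERows_sound data table rank just52 26000 just52_ok (edges51) d (by rw [just52_len]; exact hd)

theorem edges53 : ∀ d < 27000, Edge.EdgeOK data table rank seed d := fun d hd =>
  Edge.okERows_sound data table rank just53 26500 just53_ok (edges52) d (by rw [just53_len]; exact hd)

theorem edges54 : ∀ d < 27500, Edge.EdgeOK data table rank seed d := fun d hd =>
  Edge.okERows_sound data table rank just54 27000 just54_ok (edges53) d (by rw [just54_len]; exact hd)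

theorem edges55 : ∀ d < 28000, Edge.EdgeOK data table rank seed d := fun d hd =>
  Edge.okERows_sound data table rank just55 27500 just55_ok (edges54) d (by rw [just55_len]; exact hd)

theorem edges56 : ∀ d < 28500, Edge.EdgeOK data table rank seed d := fun d hd =>
  Edge.okERows_sound data table rank just56 28000 just56_ok (edges55) d (by rw [just56_len]; exact hd)

theorem edges57 : ∀ d < 29000, Edge.EdgeOK data table rank seed d := fun d hd =>
  Edge.okERows_sound data table rank just57 28500 just57_ok (edges56) d (by rw [just57_len]; exact hd)

theorem edges58 : ∀ d < 29500, Edge.EdgeOK data table rank seed d := fun d hd =>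
  Edge.okERows_sound data table rank just58 29000 just58_ok (edges57) d (by rw [just58_len]; exact hd)

theorem edges59 : ∀ d < 30000, Edge.EdgeOK data table rank seed d := fun d hd =>
  Edge.okERows_sound data table rank just59 29500 just59_ok (edges58) d (by rw [just59_len]; exact hd)

theorem edges60 : ∀ d < 30500, Edge.EdgeOK data table rank seed d := fun d hd =>
  Edge.okERows_sound data table rank just60 30000 just60_ok (edges59) d (by rw [just60_len]; exact hd)

theorem edges61 : ∀ d < 31000, Edge.EdgeOK data table rank seed d := fun d hd =>
  Edge.okERows_sound data table rank just61 30500 just61_ok (edges60) d (by rw [just61_len]; exact hd)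

theorem edges62 : ∀ d < 31500, Edge.EdgeOK data table rank seed d := fun d hd =>
  Edge.okERows_sound data table rank just62 31000 just62_ok (edges61) d (by rw [just62_len]; exact hd)

theorem edges63 : ∀ d < 32000, Edge.EdgeOK data table rank seed d := fun d hd =>
  Edge.okERows_sound data table rank just63 31500 just63_ok (edges62) d (by rw [just63_len]; exact hd)

theorem edges64 : ∀ d < 32500, Edge.EdgeOK data table rank seed d := fun d hd =>
  Edge.okERows_sound data table rank just64 32000 just64_ok (edges63) d (by rw [just64_len]; exact hd)

theorem edges65 : ∀ d < 33000, Edge.EdgeOK data table rank seed d := fun d hd =>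
  Edge.okERows_sound data table rank just65 32500 just65_ok (edges64) d (by rw [just65_len]; exact hd)

theorem edges66 : ∀ d < 33500, Edge.EdgeOK data table rank seed d := fun d hd =>
  Edge.okERows_sound data table rank just66 33000 just66_ok (edges65) d (by rw [just66_len]; exact hd)

theorem edges67 : ∀ d < 34000, Edge.EdgeOK data table rank seed d := fun d hd =>
  Edge.okERows_sound data table rank just67 33500 just67_ok (edges66) d (by rw [just67_len]; exact hd)

theorem edges68 : ∀ d < 34500, Edge.EdgeOK data table rank seed d := fun d hd =>
  Edge.okERows_sound data table rank just68 34000 just68_ok (edges67) d (by rw [just68_len]; exact hd)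

theorem edges69 : ∀ d < 35000, Edge.EdgeOK data table rank seed d := fun d hd =>
  Edge.okERows_sound data table rank just69 34500 just69_ok (edges68) d (by rw [just69_len]; exact hd)

theorem edges70 : ∀ d < 35500, Edge.EdgeOK data table rank seed d := fun d hd =>
  Edge.okERows_sound data table rank just70 35000 just70_ok (edges69) d (by rw [just70_len]; exact hd)

theorem edges71 : ∀ d < 36000, Edge.EdgeOK data table rank seed d := fun d hd =>
  Edge.okERows_sound data table rank just71 35500 just71_ok (edges70) d (by rw [just71_len]; exact hd)

theorem edges72 : ∀ d < 36500, Edge.EdgeOK data table rank seed d := fun d hd =>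
  Edge.okERows_sound data table rank just72 36000 just72_ok (edges71) d (by rw [just72_len]; exact hd)

theorem edges73 : ∀ d < 37000, Edge.EdgeOK data table rank seed d := fun d hd =>
  Edge.okERows_sound data table rank just73 36500 just73_ok (edges72) d (by rw [just73_len]; exact hd)

theorem edges74 : ∀ d < 37500, Edge.EdgeOK data table rank seed d := fun d hd =>
  Edge.okERows_sound data table rank just74 37000 just74_ok (edges73) d (by rw [just74_len]; exact hd)

theorem edges75 : ∀ d < 38000, Edge.EdgeOK data table rank seed d := fun d hd =>
  Edge.okERows_sound data table rank just75 37500 just75_ok (edges74) d (by rw [just75_len]; exact hd)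

theorem edges76 : ∀ d < 38500, Edge.EdgeOK data table rank seed d := fun d hd =>
  Edge.okERows_sound data table rank just76 38000 just76_ok (edges75) d (by rw [just76_len]; exact hd)

theorem edges77 : ∀ d < 39000, Edge.EdgeOK data table rank seed d := fun d hd =>
  Edge.okERows_sound data table rank just77 38500 just77_ok (edges76) d (by rw [just77_len]; exact hd)

theorem edges78 : ∀ d < 39500, Edge.EdgeOK data table rank seed d := fun d hd =>
  Edge.okERows_sound data table rank just78 39000 just78_ok (edges77) d (by rw [just78_len]; exact hd)

theorem edges79 : ∀ d < 40000, Edge.EdgeOK data table rank seed d := fun d hd =>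
  Edge.okERows_sound data table rank just79 39500 just79_ok (edges78) d (by rw [just79_len]; exact hd)

theorem edges80 : ∀ d < 40500, Edge.EdgeOK data table rank seed d := fun d hd =>
  Edge.okERows_sound data table rank just80 40000 just80_ok (edges79) d (by rw [just80_len]; exact hd)

theorem edges81 : ∀ d < 41000, Edge.EdgeOK data table rank seed d := fun d hd =>
  Edge.okERows_sound data table rank just81 40500 just81_ok (edges80) d (by rw [just81_len]; exact hd)

theorem edges82 : ∀ d < 41500, Edge.EdgeOK data table rank seed d := fun d hd =>
  Edge.okERows_sound data table rank just82 41000 just82_ok (edges81) d (by rw [just82_len]; exact hd)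

theorem edges83 : ∀ d < 42000, Edge.EdgeOK data table rank seed d := fun d hd =>
  Edge.okERows_sound data table rank just83 41500 just83_ok (edges82) d (by rw [just83_len]; exact hd)

theorem edges84 : ∀ d < 42500, Edge.EdgeOK data table rank seed d := fun d hd =>
  Edge.okERows_sound data table rank just84 42000 just84_ok (edges83) d (by rw [just84_len]; exact hd)

theorem edges85 : ∀ d < 43000, Edge.EdgeOK data table rank seed d := fun d hd =>
  Edge.okERows_sound data table rank just85 42500 just85_ok (edges84) d (by rw [just85_len]; exact hd)

theorem edges86 : ∀ d < 43500, Edge.EdgeOK data table rank seed d := fun d hd =>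
  Edge.okERows_sound data table rank just86 43000 just86_ok (edges85) d (by rw [just86_len]; exact hd)

theorem edges87 : ∀ d < 44000, Edge.EdgeOK data table rank seed d := fun d hd =>
  Edge.okERows_sound data table rank just87 43500 just87_ok (edges86) d (by rw [just87_len]; exact hd)

theorem edges88 : ∀ d < 44500, Edge.EdgeOK data table rank seed d := fun d hd =>
  Edge.okERows_sound data table rank just88 44000 just88_ok (edges87) d (by rw [just88_len]; exact hd)

theorem edges89 : ∀ d < 45000, Edge.EdgeOK data table rank seed d := fun d hd =>
  Edge.okERows_sound data table rank just89 44500 just89_ok (edges88) d (by rw [just89_len]; exact hd)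

theorem edges90 : ∀ d < 45500, Edge.EdgeOK data table rank seed d := fun d hd =>
  Edge.okERows_sound data table rank just90 45000 just90_ok (edges89) d (by rw [just90_len]; exact hd)

theorem edges91 : ∀ d < 46000, Edge.EdgeOK data table rank seed d := fun d hd =>
  Edge.okERows_sound data table rank just91 45500 just91_ok (edges90) d (by rw [just91_len]; exact hd)

theorem edges92 : ∀ d < 46500, Edge.EdgeOK data table rank seed d := fun d hd =>
  Edge.okERows_sound data table rank just92 46000 just92_ok (edges91) d (by rw [just92_len]; exact hd)

theorem edges93 : ∀ d < 47000, Edge.EdgeOK data table rank seed d := fun d hd =>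
  Edge.okERows_sound data table rank just93 46500 just93_ok (edges92) d (by rw [just93_len]; exact hd)

theorem edges94 : ∀ d < 47500, Edge.EdgeOK data table rank seed d := fun d hd =>
  Edge.okERows_sound data table rank just94 47000 just94_ok (edges93) d (by rw [just94_len]; exact hd)

theorem edges95 : ∀ d < 48000, Edge.EdgeOK data table rank seed d := fun d hd =>
  Edge.okERows_sound data table rank just95 47500 just95_ok (edges94) d (by rw [just95_len]; exact hd)

theorem edges96 : ∀ d < 48500, Edge.EdgeOK data table rank seed d := fun d hd =>
  Edge.okERows_sound data table rank just96 48000 just96_ok (edges95) d (by rw [just96_len]; exact hd)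

theorem edges97 : ∀ d < 49000, Edge.EdgeOK data table rank seed d := fun d hd =>
  Edge.okERows_sound data table rank just97 48500 just97_ok (edges96) d (by rw [just97_len]; exact hd)

theorem edges98 : ∀ d < 49500, Edge.EdgeOK data table rank seed d := fun d hd =>
  Edge.okERows_sound data table rank just98 49000 just98_ok (edges97) d (by rw [just98_len]; exact hd)

theorem edges99 : ∀ d < 50000, Edge.EdgeOK data table rank seed d := fun d hd =>
  Edge.okERows_sound data table rank just99 49500 just99_ok (edges98) d (by rw [just99_len]; exact hd)

theorem edges100 : ∀ d < 50500, Edge.EdgeOK data table rank seed d := fun d hd =>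
  Edge.okERows_sound data table rank just100 50000 just100_ok (edges99) d (by rw [just100_len]; exact hd)

theorem edges101 : ∀ d < 51000, Edge.EdgeOK data table rank seed d := fun d hd =>
  Edge.okERows_sound data table rank just101 50500 just101_ok (edges100) d (by rw [just101_len]; exact hd)

theorem edges102 : ∀ d < 51500, Edge.EdgeOK data table rank seed d := fun d hd =>
  Edge.okERows_sound data table rank just102 51000 just102_ok (edges101) d (by rw [just102_len]; exact hd)

theorem edges103 : ∀ d < 52000, Edge.EdgeOK data table rank seed d := fun d hd =>
  Edge.okERows_sound data table rank just103 51500 just103_ok (edges102) d (by rw [just103_len]; exact hd)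

theorem edges104 : ∀ d < 52500, Edge.EdgeOK data table rank seed d := fun d hd =>
  Edge.okERows_sound data table rank just104 52000 just104_ok (edges103) d (by rw [just104_len]; exact hd)

theorem edges105 : ∀ d < 53000, Edge.EdgeOK data table rank seed d := fun d hd =>
  Edge.okERows_sound data table rank just105 52500 just105_ok (edges104) d (by rw [just105_len]; exact hd)

theorem edges106 : ∀ d < 53500, Edge.EdgeOK data table rank seed d := fun d hd =>
  Edge.okERows_sound data table rank just106 53000 just106_ok (edges105) d (by rw [just106_len]; exact hd)

theorem edges107 : ∀ d < 54000, Edge.EdgeOK data table rank seed d := fun d hd =>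
  Edge.okERows_sound data table rank just107 53500 just107_ok (edges106) d (by rw [just107_len]; exact hd)

theorem edges108 : ∀ d < 54500, Edge.EdgeOK data table rank seed d := fun d hd =>
  Edge.okERows_sound data table rank just108 54000 just108_ok (edges107) d (by rw [just108_len]; exact hd)

theorem edges109 : ∀ d < 55000, Edge.EdgeOK data table rank seed d := fun d hd =>
  Edge.okERows_sound data table rank just109 54500 just109_ok (edges108) d (by rw [just109_len]; exact hd)

theorem edges110 : ∀ d < 55500, Edge.EdgeOK data table rank seed d := fun d hd =>
  Edge.okERows_sound data table rank just110 55000 just110_ok (edges109) d (by rw [just110_len]; exact hd)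

theorem edges111 : ∀ d < 56000, Edge.EdgeOK data table rank seed d := fun d hd =>
  Edge.okERows_sound data table rank just111 55500 just111_ok (edges110) d (by rw [just111_len]; exact hd)

theorem edges112 : ∀ d < 56500, Edge.EdgeOK data table rank seed d := fun d hd =>
  Edge.okERows_sound data table rank just112 56000 just112_ok (edges111) d (by rw [just112_len]; exact hd)

theorem edges113 : ∀ d < 57000, Edge.EdgeOK data table rank seed d := fun d hd =>
  Edge.okERows_sound data table rank just113 56500 just113_ok (edges112) d (by rw [just113_len]; exact hd)

theorem edges114 : ∀ d < 57500, Edge.EdgeOK data table rank seed d := fun d hd =>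
  Edge.okERows_sound data table rank just114 57000 just114_ok (edges113) d (by rw [just114_len]; exact hd)

theorem edges115 : ∀ d < 58000, Edge.EdgeOK data table rank seed d := fun d hd =>
  Edge.okERows_sound data table rank just115 57500 just115_ok (edges114) d (by rw [just115_len]; exact hd)

theorem edges116 : ∀ d < 58500, Edge.EdgeOK data table rank seed d := fun d hd =>
  Edge.okERows_sound data table rank just116 58000 just116_ok (edges115) d (by rw [just116_len]; exact hd)

theorem edges117 : ∀ d < 59000, Edge.EdgeOK data table rank seed d := fun d hd =>
  Edge.okERows_sound data table rank just117 58500 just117_ok (edges116) d (by rw [just117_len]; exact hd)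

theorem edges118 : ∀ d < 59500, Edge.EdgeOK data table rank seed d := fun d hd =>
  Edge.okERows_sound data table rank just118 59000 just118_ok (edges117) d (by rw [just118_len]; exact hd)

theorem edges119 : ∀ d < 60000, Edge.EdgeOK data table rank seed d := fun d hd =>
  Edge.okERows_sound data table rank just119 59500 just119_ok (edges118) d (by rw [just119_len]; exact hd)

theorem edges120 : ∀ d < 60500, Edge.EdgeOK data table rank seed d := fun d hd =>
  Edge.okERows_sound data table rank just120 60000 just120_ok (edges119) d (by rw [just120_len]; exact hd)

theorem edges121 : ∀ d < 61000, Edge.EdgeOK data table rank seed d := fun d hd =>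
  Edge.okERows_sound data table rank just121 60500 just121_ok (edges120) d (by rw [just121_len]; exact hd)

theorem edges122 : ∀ d < 61500, Edge.EdgeOK data table rank seed d := fun d hd =>
  Edge.okERows_sound data table rank just122 61000 just122_ok (edges121) d (by rw [just122_len]; exact hd)

theorem edges123 : ∀ d < 62000, Edge.EdgeOK data table rank seed d := fun d hd =>
  Edge.okERows_sound data table rank just123 61500 just123_ok (edges122) d (by rw [just123_len]; exact hd)

theorem edges124 : ∀ d < 62500, Edge.EdgeOK data table rank seed d := fun d hd =>
  Edge.okERows_sound data table rank just124 62000 just124_ok (edges123) d (by rw [just124_len]; exact hd)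

theorem edges125 : ∀ d < 63000, Edge.EdgeOK data table rank seed d := fun d hd =>
  Edge.okERows_sound data table rank just125 62500 just125_ok (edges124) d (by rw [just125_len]; exact hd)

theorem edges126 : ∀ d < 63500, Edge.EdgeOK data table rank seed d := fun d hd =>
  Edge.okERows_sound data table rank just126 63000 just126_ok (edges125) d (by rw [just126_len]; exact hd)

theorem edges127 : ∀ d < 64000, Edge.EdgeOK data table rank seed d := fun d hd =>
  Edge.okERows_sound data table rank just127 63500 just127_ok (edges126) d (by rw [just127_len]; exact hd)

theorem edges128 : ∀ d < 64500, Edge.EdgeOK data table rank seed d := fun d hd =>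
  Edge.okERows_sound data table rank just128 64000 just128_ok (edges127) d (by rw [just128_len]; exact hd)

theorem edges129 : ∀ d < 65000, Edge.EdgeOK data table rank seed d := fun d hd =>
  Edge.okERows_sound data table rank just129 64500 just129_ok (edges128) d (by rw [just129_len]; exact hd)

theorem edges130 : ∀ d < 65500, Edge.EdgeOK data table rank seed d := fun d hd =>
  Edge.okERows_sound data table rank just130 65000 just130_ok (edges129) d (by rw [just130_len]; exact hd)

theorem edges131 : ∀ d < 66000, Edge.EdgeOK data table rank seed d := fun d hd =>
  Edge.okERows_sound data table rank just131 65500 just131_ok (edges130) d (by rw [just131_len]; exact hd)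

theorem edges132 : ∀ d < 66500, Edge.EdgeOK data table rank seed d := fun d hd =>
  Edge.okERows_sound data table rank just132 66000 just132_ok (edges131) d (by rw [just132_len]; exact hd)

theorem edges133 : ∀ d < 67000, Edge.EdgeOK data table rank seed d := fun d hd =>
  Edge.okERows_sound data table rank just133 66500 just133_ok (edges132) d (by rw [just133_len]; exact hd)

theorem edges134 : ∀ d < 67500, Edge.EdgeOK data table rank seed d := fun d hd =>
  Edge.okERows_sound data table rank just134 67000 just134_ok (edges133) d (by rw [just134_len]; exact hd)

theorem edges135 : ∀ d < 68000, Edge.EdgeOK data table rank seed d := fun d hd =>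
  Edge.okERows_sound data table rank just135 67500 just135_ok (edges134) d (by rw [just135_len]; exact hd)

theorem edges136 : ∀ d < 68500, Edge.EdgeOK data table rank seed d := fun d hd =>
  Edge.okERows_sound data table rank just136 68000 just136_ok (edges135) d (by rw [just136_len]; exact hd)

theorem edges137 : ∀ d < 69000, Edge.EdgeOK data table rank seed d := fun d hd =>
  Edge.okERows_sound data table rank just137 68500 just137_ok (edges136) d (by rw [just137_len]; exact hd)

theorem edges138 : ∀ d < 69500, Edge.EdgeOK data table rank seed d := fun d hd =>
  Edge.okERows_sound data table rank just138 69000 just138_ok (edges137) d (by rw [just138_len]; exact hd)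

theorem edges139 : ∀ d < 70000, Edge.EdgeOK data table rank seed d := fun d hd =>
  Edge.okERows_sound data table rank just139 69500 just139_ok (edges138) d (by rw [just139_len]; exact hd)

theorem edges140 : ∀ d < 70500, Edge.EdgeOK data table rank seed d := fun d hd =>
  Edge.okERows_sound data table rank just140 70000 just140_ok (edges139) d (by rw [just140_len]; exact hd)

theorem edges141 : ∀ d < 71000, Edge.EdgeOK data table rank seed d := fun d hd =>
  Edge.okERows_sound data table rank just141 70500 just141_ok (edges140) d (by rw [just141_len]; exact hd)

theorem edges142 : ∀ d < 71500, Edge.EdgeOK data table rank seed d := fun d hd =>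
  Edge.okERows_sound data table rank just142 71000 just142_ok (edges141) d (by rw [just142_len]; exact hd)

theorem edges143 : ∀ d < 72000, Edge.EdgeOK data table rank seed d := fun d hd =>
  Edge.okERows_sound data table rank just143 71500 just143_ok (edges142) d (by rw [just143_len]; exact hd)

theorem edges144 : ∀ d < 72500, Edge.EdgeOK data table rank seed d := fun d hd =>
  Edge.okERows_sound data table rank just144 72000 just144_ok (edges143) d (by rw [just144_len]; exact hd)

theorem edges145 : ∀ d < 73000, Edge.EdgeOK data table rank seed d := fun d hd =>
  Edge.okERows_sound data table rank just145 72500 just145_ok (edges144) d (by rw [just145_len]; exact hd)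

theorem edges146 : ∀ d < 73500, Edge.EdgeOK data table rank seed d := fun d hd =>
  Edge.okERows_sound data table rank just146 73000 just146_ok (edges145) d (by rw [just146_len]; exact hd)

theorem edges147 : ∀ d < 74000, Edge.EdgeOK data table rank seed d := fun d hd =>
  Edge.okERows_sound data table rank just147 73500 just147_ok (edges146) d (by rw [just147_len]; exact hd)

theorem edges148 : ∀ d < 74500, Edge.EdgeOK data table rank seed d := fun d hd =>
  Edge.okERows_sound data table rank just148 74000 just148_ok (edges147) d (by rw [just148_len]; exact hd)

theorem edges149 : ∀ d < 75000, Edge.EdgeOK data table rank seed d := fun d hd =>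
  Edge.okERows_sound data table rank just149 74500 just149_ok (edges148) d (by rw [just149_len]; exact hd)

theorem edges150 : ∀ d < 75500, Edge.EdgeOK data table rank seed d := fun d hd =>
  Edge.okERows_sound data table rank just150 75000 just150_ok (edges149) d (by rw [just150_len]; exact hd)

theorem edges151 : ∀ d < 76000, Edge.EdgeOK data table rank seed d := fun d hd =>
  Edge.okERows_sound data table rank just151 75500 just151_ok (edges150) d (by rw [just151_len]; exact hd)

theorem edges152 : ∀ d < 76500, Edge.EdgeOK data table rank seed d := fun d hd =>
  Edge.okERows_sound data table rank just152 76000 just152_ok (edges151) d (by rw [just152_len]; exact hd)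

theorem edges153 : ∀ d < 77000, Edge.EdgeOK data table rank seed d := fun d hd =>
  Edge.okERows_sound data table rank just153 76500 just153_ok (edges152) d (by rw [just153_len]; exact hd)

theorem edges154 : ∀ d < 77500, Edge.EdgeOK data table rank seed d := fun d hd =>
  Edge.okERows_sound data table rank just154 77000 just154_ok (edges153) d (by rw [just154_len]; exact hd)

theorem edges155 : ∀ d < 78000, Edge.EdgeOK data table rank seed d := fun d hd =>
  Edge.okERows_sound data table rank just155 77500 just155_ok (edges154) d (by rw [just155_len]; exact hd)

theorem edges156 : ∀ d < 78500, Edge.EdgeOK data table rank seed d := fun d hd =>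
  Edge.okERows_sound data table rank just156 78000 just156_ok (edges155) d (by rw [just156_len]; exact hd)

theorem edges157 : ∀ d < 79000, Edge.EdgeOK data table rank seed d := fun d hd =>
  Edge.okERows_sound data table rank just157 78500 just157_ok (edges156) d (by rw [just157_len]; exact hd)

theorem edges158 : ∀ d < 79500, Edge.EdgeOK data table rank seed d := fun d hd =>
  Edge.okERows_sound data table rank just158 79000 just158_ok (edges157) d (by rw [just158_len]; exact hd)

theorem edges159 : ∀ d < 80000, Edge.EdgeOK data table rank seed d := fun d hd =>
  Edge.okERows_sound data table rank just159 79500 just159_ok (edges158) d (by rw [just159_len]; exact hd)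

theorem edges160 : ∀ d < 80500, Edge.EdgeOK data table rank seed d := fun d hd =>
  Edge.okERows_sound data table rank just160 80000 just160_ok (edges159) d (by rw [just160_len]; exact hd)

theorem edges161 : ∀ d < 81000, Edge.EdgeOK data table rank seed d := fun d hd =>
  Edge.okERows_sound data table rank just161 80500 just161_ok (edges160) d (by rw [just161_len]; exact hd)

theorem edges162 : ∀ d < 81500, Edge.EdgeOK data table rank seed d := fun d hd =>
  Edge.okERows_sound data table rank just162 81000 just162_ok (edges161) d (by rw [just162_len]; exact hd)

theorem edges163 : ∀ d < 82000, Edge.EdgeOK data table rank seed d := fun d hd =>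
  Edge.okERows_sound data table rank just163 81500 just163_ok (edges162) d (by rw [just163_len]; exact hd)

theorem edges164 : ∀ d < 82500, Edge.EdgeOK data table rank seed d := fun d hd =>
  Edge.okERows_sound data table rank just164 82000 just164_ok (edges163) d (by rw [just164_len]; exact hd)

theorem edges165 : ∀ d < 83000, Edge.EdgeOK data table rank seed d := fun d hd =>
  Edge.okERows_sound data table rank just165 82500 just165_ok (edges164) d (by rw [just165_len]; exact hd)

theorem edges166 : ∀ d < 83500, Edge.EdgeOK data table rank seed d := fun d hd =>
  Edge.okERows_sound data table rank just166 83000 just166_ok (edges165) d (by rw [just166_len]; exact hd)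

theorem edges167 : ∀ d < 84000, Edge.EdgeOK data table rank seed d := fun d hd =>
  Edge.okERows_sound data table rank just167 83500 just167_ok (edges166) d (by rw [just167_len]; exact hd)

theorem edges168 : ∀ d < 84500, Edge.EdgeOK data table rank seed d := fun d hd =>
  Edge.okERows_sound data table rank just168 84000 just168_ok (edges167) d (by rw [just168_len]; exact hd)

theorem edges169 : ∀ d < 85000, Edge.EdgeOK data table rank seed d := fun d hd =>
  Edge.okERows_sound data table rank just169 84500 just169_ok (edges168) d (by rw [just169_len]; exact hd)

theorem edges170 : ∀ d < 85500, Edge.EdgeOK data table rank seed d := fun d hd =>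
  Edge.okERows_sound data table rank just170 85000 just170_ok (edges169) d (by rw [just170_len]; exact hd)

theorem edges171 : ∀ d < 86000, Edge.EdgeOK data table rank seed d := fun d hd =>
  Edge.okERows_sound data table rank just171 85500 just171_ok (edges170) d (by rw [just171_len]; exact hd)

theorem edges172 : ∀ d < 86500, Edge.EdgeOK data table rank seed d := fun d hd =>
  Edge.okERows_sound data table rank just172 86000 just172_ok (edges171) d (by rw [just172_len]; exact hd)

theorem edges173 : ∀ d < 87000, Edge.EdgeOK data table rank seed d := fun d hd =>
  Edge.okERows_sound data table rank just173 86500 just173_ok (edges172) d (by rw [just173_len]; exact hd)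

theorem edges174 : ∀ d < 87500, Edge.EdgeOK data table rank seed d := fun d hd =>
  Edge.okERows_sound data table rank just174 87000 just174_ok (edges173) d (by rw [just174_len]; exact hd)

theorem edges175 : ∀ d < 88000, Edge.EdgeOK data table rank seed d := fun d hd =>
  Edge.okERows_sound data table rank just175 87500 just175_ok (edges174) d (by rw [just175_len]; exact hd)

theorem edges176 : ∀ d < 88500, Edge.EdgeOK data table rank seed d := fun d hd =>
  Edge.okERows_sound data table rank just176 88000 just176_ok (edges175) d (by rw [just176_len]; exact hd)

theorem edges177 : ∀ d < 89000, Edge.EdgeOK data table rank seed d := fun d hd =>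
  Edge.okERows_sound data table rank just177 88500 just177_ok (edges176) d (by rw [just177_len]; exact hd)

theorem edges178 : ∀ d < 89500, Edge.EdgeOK data table rank seed d := fun d hd =>
  Edge.okERows_sound data table rank just178 89000 just178_ok (edges177) d (by rw [just178_len]; exact hd)

theorem edges179 : ∀ d < 90000, Edge.EdgeOK data table rank seed d := fun d hd =>
  Edge.okERows_sound data table rank just179 89500 just179_ok (edges178) d (by rw [just179_len]; exact hd)

theorem edges180 : ∀ d < 90500, Edge.EdgeOK data table rank seed d := fun d hd =>
  Edge.okERows_sound data table rank just180 90000 just180_ok (edges179) d (by rw [just180_len]; exact hd)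

theorem edges181 : ∀ d < 91000, Edge.EdgeOK data table rank seed d := fun d hd =>
  Edge.okERows_sound data table rank just181 90500 just181_ok (edges180) d (by rw [just181_len]; exact hd)

theorem edges182 : ∀ d < 91500, Edge.EdgeOK data table rank seed d := fun d hd =>
  Edge.okERows_sound data table rank just182 91000 just182_ok (edges181) d (by rw [just182_len]; exact hd)

theorem edges183 : ∀ d < 92000, Edge.EdgeOK data table rank seed d := fun d hd =>
  Edge.okERows_sound data table rank just183 91500 just183_ok (edges182) d (by rw [just183_len]; exact hd)

theorem edges184 : ∀ d < 92500, Edge.EdgeOK data table rank seed d := fun d hd =>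
  Edge.okERows_sound data table rank just184 92000 just184_ok (edges183) d (by rw [just184_len]; exact hd)

theorem edges185 : ∀ d < 93000, Edge.EdgeOK data table rank seed d := fun d hd =>
  Edge.okERows_sound data table rank just185 92500 just185_ok (edges184) d (by rw [just185_len]; exact hd)

theorem edges186 : ∀ d < 93500, Edge.EdgeOK data table rank seed d := fun d hd =>
  Edge.okERows_sound data table rank just186 93000 just186_ok (edges185) d (by rw [just186_len]; exact hd)

theorem edges187 : ∀ d < 94000, Edge.EdgeOK data table rank seed d := fun d hd =>
  Edge.okERows_sound data table rank just187 93500 just187_ok (edges186) d (by rw [just187_len]; exact hd)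

theorem edges188 : ∀ d < 94500, Edge.EdgeOK data table rank seed d := fun d hd =>
  Edge.okERows_sound data table rank just188 94000 just188_ok (edges187) d (by rw [just188_len]; exact hd)

theorem edges189 : ∀ d < 95000, Edge.EdgeOK data table rank seed d := fun d hd =>
  Edge.okERows_sound data table rank just189 94500 just189_ok (edges188) d (by rw [just189_len]; exact hd)

theorem edges190 : ∀ d < 95500, Edge.EdgeOK data table rank seed d := fun d hd =>
  Edge.okERows_sound data table rank just190 95000 just190_ok (edges189) d (by rw [just190_len]; exact hd)

theorem edges191 : ∀ d < 96000, Edge.EdgeOK data table rank seed d := fun d hd =>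
  Edge.okERows_sound data table rank just191 95500 just191_ok (edges190) d (by rw [just191_len]; exact hd)

theorem edges192 : ∀ d < 96500, Edge.EdgeOK data table rank seed d := fun d hd =>
  Edge.okERows_sound data table rank just192 96000 just192_ok (edges191) d (by rw [just192_len]; exact hd)

theorem edges193 : ∀ d < 97000, Edge.EdgeOK data table rank seed d := fun d hd =>
  Edge.okERows_sound data table rank just193 96500 just193_ok (edges192) d (by rw [just193_len]; exact hd)

theorem edges194 : ∀ d < 97500, Edge.EdgeOK data table rank seed d := fun d hd =>
  Edge.okERows_sound data table rank just194 97000 just194_ok (edges193) d (by rw [just194_len]; exact hd)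

theorem edges195 : ∀ d < 98000, Edge.EdgeOK data table rank seed d := fun d hd =>
  Edge.okERows_sound data table rank just195 97500 just195_ok (edges194) d (by rw [just195_len]; exact hd)

theorem edges196 : ∀ d < 98500, Edge.EdgeOK data table rank seed d := fun d hd =>
  Edge.okERows_sound data table rank just196 98000 just196_ok (edges195) d (by rw [just196_len]; exact hd)

theorem edges197 : ∀ d < 99000, Edge.EdgeOK data table rank seed d := fun d hd =>
  Edge.okERows_sound data table rank just197 98500 just197_ok (edges196) d (by rw [just197_len]; exact hd)

theorem edges198 : ∀ d < 99500, Edge.EdgeOK data table rank seed d := fun d hd =>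
  Edge.okERows_sound data table rank just198 99000 just198_ok (edges197) d (by rw [just198_len]; exact hd)

theorem edges199 : ∀ d < 100000, Edge.EdgeOK data table rank seed d := fun d hd =>
  Edge.okERows_sound data table rank just199 99500 just199_ok (edges198) d (by rw [just199_len]; exact hd)

theorem edges200 : ∀ d < 100500, Edge.EdgeOK data table rank seed d := fun d hd =>
  Edge.okERows_sound data table rank just200 100000 just200_ok (edges199) d (by rw [just200_len]; exact hd)

theorem edges201 : ∀ d < 101000, Edge.EdgeOK data table rank seed d := fun d hd =>
  Edge.okERows_sound data table rank just201 100500 just201_ok (edges200) d (by rw [just201_len]; exact hd)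

theorem edges202 : ∀ d < 101500, Edge.EdgeOK data table rank seed d := fun d hd =>
  Edge.okERows_sound data table rank just202 101000 just202_ok (edges201) d (by rw [just202_len]; exact hd)

theorem edges203 : ∀ d < 102000, Edge.EdgeOK data table rank seed d := fun d hd =>
  Edge.okERows_sound data table rank just203 101500 just203_ok (edges202) d (by rw [just203_len]; exact hd)

theorem edges204 : ∀ d < 102500, Edge.EdgeOK data table rank seed d := fun d hd =>
  Edge.okERows_sound data table rank just204 102000 just204_ok (edges203) d (by rw [just204_len]; exact hd)

theorem edges205 : ∀ d < 103000, Edge.EdgeOK data table rank seed d := fun d hd =>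
  Edge.okERows_sound data table rank just205 102500 just205_ok (edges204) d (by rw [just205_len]; exact hd)

theorem edges206 : ∀ d < 103500, Edge.EdgeOK data table rank seed d := fun d hd =>
  Edge.okERows_sound data table rank just206 103000 just206_ok (edges205) d (by rw [just206_len]; exact hd)

theorem edges207 : ∀ d < 104000, Edge.EdgeOK data table rank seed d := fun d hd =>
  Edge.okERows_sound data table rank just207 103500 just207_ok (edges206) d (by rw [just207_len]; exact hd)

theorem edges208 : ∀ d < 104500, Edge.EdgeOK data table rank seed d := fun d hd =>
  Edge.okERows_sound data table rank just208 104000 just208_ok (edges207) d (by rw [just208_len]; exact hd)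

theorem edges209 : ∀ d < 105000, Edge.EdgeOK data table rank seed d := fun d hd =>
  Edge.okERows_sound data table rank just209 104500 just209_ok (edges208) d (by rw [just209_len]; exact hd)

theorem edges210 : ∀ d < 105500, Edge.EdgeOK data table rank seed d := fun d hd =>
  Edge.okERows_sound data table rank just210 105000 just210_ok (edges209) d (by rw [just210_len]; exact hd)

theorem edges211 : ∀ d < 106000, Edge.EdgeOK data table rank seed d := fun d hd =>
  Edge.okERows_sound data table rank just211 105500 just211_ok (edges210) d (by rw [just211_len]; exact hd)

theorem edges212 : ∀ d < 106500, Edge.EdgeOK data table rank seed d := fun d hd =>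
  Edge.okERows_sound data table rank just212 106000 just212_ok (edges211) d (by rw [just212_len]; exact hd)

theorem edges213 : ∀ d < 107000, Edge.EdgeOK data table rank seed d := fun d hd =>
  Edge.okERows_sound data table rank just213 106500 just213_ok (edges212) d (by rw [just213_len]; exact hd)

theorem edges214 : ∀ d < 107500, Edge.EdgeOK data table rank seed d := fun d hd =>
  Edge.okERows_sound data table rank just214 107000 just214_ok (edges213) d (by rw [just214_len]; exact hd)

theorem edges215 : ∀ d < 108000, Edge.EdgeOK data table rank seed d := fun d hd =>
  Edge.okERows_sound data table rank just215 107500 just215_ok (edges214) d (by rw [just215_len]; exact hd)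

theorem edges216 : ∀ d < 108500, Edge.EdgeOK data table rank seed d := fun d hd =>
  Edge.okERows_sound data table rank just216 108000 just216_ok (edges215) d (by rw [just216_len]; exact hd)

theorem edges217 : ∀ d < 109000, Edge.EdgeOK data table rank seed d := fun d hd =>
  Edge.okERows_sound data table rank just217 108500 just217_ok (edges216) d (by rw [just217_len]; exact hd)

theorem edges218 : ∀ d < 109500, Edge.EdgeOK data table rank seed d := fun d hd =>
  Edge.okERows_sound data table rank just218 109000 just218_ok (edges217) d (by rw [just218_len]; exact hd)

theorem edges219 : ∀ d < 110000, Edge.EdgeOK data table rank seed d := fun d hd =>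
  Edge.okERows_sound data table rank just219 109500 just219_ok (edges218) d (by rw [just219_len]; exact hd)

theorem edges220 : ∀ d < 110500, Edge.EdgeOK data table rank seed d := fun d hd =>
  Edge.okERows_sound data table rank just220 110000 just220_ok (edges219) d (by rw [just220_len]; exact hd)

theorem edges221 : ∀ d < 111000, Edge.EdgeOK data table rank seed d := fun d hd =>
  Edge.okERows_sound data table rank just221 110500 just221_ok (edges220) d (by rw [just221_len]; exact hd)

theorem edges222 : ∀ d < 111500, Edge.EdgeOK data table rank seed d := fun d hd =>
  Edge.okERows_sound data table rank just222 111000 just222_ok (edges221) d (by rw [just222_len]; exact hd)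

theorem edges223 : ∀ d < 112000, Edge.EdgeOK data table rank seed d := fun d hd =>
  Edge.okERows_sound data table rank just223 111500 just223_ok (edges222) d (by rw [just223_len]; exact hd)

theorem edges224 : ∀ d < 112500, Edge.EdgeOK data table rank seed d := fun d hd =>
  Edge.okERows_sound data table rank just224 112000 just224_ok (edges223) d (by rw [just224_len]; exact hd)

theorem edges225 : ∀ d < 113000, Edge.EdgeOK data table rank seed d := fun d hd =>
  Edge.okERows_sound data table rank just225 112500 just225_ok (edges224) d (by rw [just225_len]; exact hd)

theorem edges226 : ∀ d < 113500, Edge.EdgeOK data table rank seed d := fun d hd =>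
  Edge.okERows_sound data table rank just226 113000 just226_ok (edges225) d (by rw [just226_len]; exact hd)

theorem edges227 : ∀ d < 114000, Edge.EdgeOK data table rank seed d := fun d hd =>
  Edge.okERows_sound data table rank just227 113500 just227_ok (edges226) d (by rw [just227_len]; exact hd)

theorem edges228 : ∀ d < 114500, Edge.EdgeOK data table rank seed d := fun d hd =>
  Edge.okERows_sound data table rank just228 114000 just228_ok (edges227) d (by rw [just228_len]; exact hd)

theorem edges229 : ∀ d < 115000, Edge.EdgeOK data table rank seed d := fun d hd =>
  Edge.okERows_sound data table rank just229 114500 just229_ok (edges228) d (by rw [just229_len]; exact hd)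

theorem edges230 : ∀ d < 115500, Edge.EdgeOK data table rank seed d := fun d hd =>
  Edge.okERows_sound data table rank just230 115000 just230_ok (edges229) d (by rw [just230_len]; exact hd)

theorem edges231 : ∀ d < 116000, Edge.EdgeOK data table rank seed d := fun d hd =>
  Edge.okERows_sound data table rank just231 115500 just231_ok (edges230) d (by rw [just231_len]; exact hd)

theorem edges232 : ∀ d < 116500, Edge.EdgeOK data table rank seed d := fun d hd =>
  Edge.okERows_sound data table rank just232 116000 just232_ok (edges231) d (by rw [just232_len]; exact hd)

theorem edges233 : ∀ d < 117000, Edge.EdgeOK data table rank seed d := fun d hd =>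
  Edge.okERows_sound data table rank just233 116500 just233_ok (edges232) d (by rw [just233_len]; exact hd)

theorem edges234 : ∀ d < 117500, Edge.EdgeOK data table rank seed d := fun d hd =>
  Edge.okERows_sound data table rank just234 117000 just234_ok (edges233) d (by rw [just234_len]; exact hd)

theorem edges235 : ∀ d < 118000, Edge.EdgeOK data table rank seed d := fun d hd =>
  Edge.okERows_sound data table rank just235 117500 just235_ok (edges234) d (by rw [just235_len]; exact hd)

theorem edges236 : ∀ d < 118500, Edge.EdgeOK data table rank seed d := fun d hd =>
  Edge.okERows_sound data table rank just236 118000 just236_ok (edges235) d (by rw [just236_len]; exact hd)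

theorem edges237 : ∀ d < 119000, Edge.EdgeOK data table rank seed d := fun d hd =>
  Edge.okERows_sound data table rank just237 118500 just237_ok (edges236) d (by rw [just237_len]; exact hd)

theorem edges238 : ∀ d < 119500, Edge.EdgeOK data table rank seed d := fun d hd =>
  Edge.okERows_sound data table rank just238 119000 just238_ok (edges237) d (by rw [just238_len]; exact hd)

theorem edges239 : ∀ d < 120000, Edge.EdgeOK data table rank seed d := fun d hd =>
  Edge.okERows_sound data table rank just239 119500 just239_ok (edges238) d (by rw [just239_len]; exact hd)

theorem edges240 : ∀ d < 120500, Edge.EdgeOK data table rank seed d := fun d hd =>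
  Edge.okERows_sound data table rank just240 120000 just240_ok (edges239) d (by rw [just240_len]; exact hd)

theorem edges241 : ∀ d < 121000, Edge.EdgeOK data table rank seed d := fun d hd =>
  Edge.okERows_sound data table rank just241 120500 just241_ok (edges240) d (by rw [just241_len]; exact hd)

theorem edges242 : ∀ d < 121500, Edge.EdgeOK data table rank seed d := fun d hd =>
  Edge.okERows_sound data table rank just242 121000 just242_ok (edges241) d (by rw [just242_len]; exact hd)

theorem edges243 : ∀ d < 122000, Edge.EdgeOK data table rank seed d := fun d hd =>
  Edge.okERows_sound data table rank just243 121500 just243_ok (edges242) d (by rw [just243_len]; exact hd)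

theorem edges244 : ∀ d < 122500, Edge.EdgeOK data table rank seed d := fun d hd =>
  Edge.okERows_sound data table rank just244 122000 just244_ok (edges243) d (by rw [just244_len]; exact hd)

theorem edges245 : ∀ d < 123000, Edge.EdgeOK data table rank seed d := fun d hd =>
  Edge.okERows_sound data table rank just245 122500 just245_ok (edges244) d (by rw [just245_len]; exact hd)

theorem edges246 : ∀ d < 123500, Edge.EdgeOK data table rank seed d := fun d hd =>
  Edge.okERows_sound data table rank just246 123000 just246_ok (edges245) d (by rw [just246_len]; exact hd)

theorem edges247 : ∀ d < 124000, Edge.EdgeOK data table rank seed d := fun d hd =>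
  Edge.okERows_sound data table rank just247 123500 just247_ok (edges246) d (by rw [just247_len]; exact hd)

theorem edges248 : ∀ d < 124500, Edge.EdgeOK data table rank seed d := fun d hd =>
  Edge.okERows_sound data table rank just248 124000 just248_ok (edges247) d (by rw [just248_len]; exact hd)

theorem edges249 : ∀ d < 125000, Edge.EdgeOK data table rank seed d := fun d hd =>
  Edge.okERows_sound data table rank just249 124500 just249_ok (edges248) d (by rw [just249_len]; exact hd)

theorem edges250 : ∀ d < 125500, Edge.EdgeOK data table rank seed d := fun d hd =>
  Edge.okERows_sound data table rank just250 125000 just250_ok (edges249) d (by rw [just250_len]; exact hd)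

theorem edges251 : ∀ d < 126000, Edge.EdgeOK data table rank seed d := fun d hd =>
  Edge.okERows_sound data table rank just251 125500 just251_ok (edges250) d (by rw [just251_len]; exact hd)

theorem edges252 : ∀ d < 126500, Edge.EdgeOK data table rank seed d := fun d hd =>
  Edge.okERows_sound data table rank just252 126000 just252_ok (edges251) d (by rw [just252_len]; exact hd)

theorem edges253 : ∀ d < 127000, Edge.EdgeOK data table rank seed d := fun d hd =>
  Edge.okERows_sound data table rank just253 126500 just253_ok (edges252) d (by rw [just253_len]; exact hd)

theorem edges254 : ∀ d < 127500, Edge.EdgeOK data table rank seed d := fun d hd =>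
  Edge.okERows_sound data table rank just254 127000 just254_ok (edges253) d (by rw [just254_len]; exact hd)

theorem edges255 : ∀ d < 128000, Edge.EdgeOK data table rank seed d := fun d hd =>
  Edge.okERows_sound data table rank just255 127500 just255_ok (edges254) d (by rw [just255_len]; exact hd)

theorem edges256 : ∀ d < 128500, Edge.EdgeOK data table rank seed d := fun d hd =>
  Edge.okERows_sound data table rank just256 128000 just256_ok (edges255) d (by rw [just256_len]; exact hd)

theorem edges257 : ∀ d < 129000, Edge.EdgeOK data table rank seed d := fun d hd =>
  Edge.okERows_sound data table rank just257 128500 just257_ok (edges256) d (by rw [just257_len]; exact hd)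

theorem edges258 : ∀ d < 129500, Edge.EdgeOK data table rank seed d := fun d hd =>
  Edge.okERows_sound data table rank just258 129000 just258_ok (edges257) d (by rw [just258_len]; exact hd)

theorem edges259 : ∀ d < 130000, Edge.EdgeOK data table rank seed d := fun d hd =>
  Edge.okERows_sound data table rank just259 129500 just259_ok (edges258) d (by rw [just259_len]; exact hd)

theorem edges260 : ∀ d < 130500, Edge.EdgeOK data table rank seed d := fun d hd =>
  Edge.okERows_sound data table rank just260 130000 just260_ok (edges259) d (by rw [just260_len]; exact hd)

theorem edges261 : ∀ d < 131000, Edge.EdgeOK data table rank seed d := fun d hd =>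
  Edge.okERows_sound data table rank just261 130500 just261_ok (edges260) d (by rw [just261_len]; exact hd)

theorem edges262 : ∀ d < 131500, Edge.EdgeOK data table rank seed d := fun d hd =>
  Edge.okERows_sound data table rank just262 131000 just262_ok (edges261) d (by rw [just262_len]; exact hd)

theorem edges263 : ∀ d < 132000, Edge.EdgeOK data table rank seed d := fun d hd =>
  Edge.okERows_sound data table rank just263 131500 just263_ok (edges262) d (by rw [just263_len]; exact hd)

theorem edges264 : ∀ d < 132500, Edge.EdgeOK data table rank seed d := fun d hd =>
  Edge.okERows_sound data table rank just264 132000 just264_ok (edges263) d (by rw [just264_len]; exact hd)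

theorem edges265 : ∀ d < 133000, Edge.EdgeOK data table rank seed d := fun d hd =>
  Edge.okERows_sound data table rank just265 132500 just265_ok (edges264) d (by rw [just265_len]; exact hd)

theorem edges266 : ∀ d < 133500, Edge.EdgeOK data table rank seed d := fun d hd =>
  Edge.okERows_sound data table rank just266 133000 just266_ok (edges265) d (by rw [just266_len]; exact hd)

theorem edges267 : ∀ d < 134000, Edge.EdgeOK data table rank seed d := fun d hd =>
  Edge.okERows_sound data table rank just267 133500 just267_ok (edges266) d (by rw [just267_len]; exact hd)

theorem edges268 : ∀ d < 134500, Edge.EdgeOK data table rank seed d := fun d hd =>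
  Edge.okERows_sound data table rank just268 134000 just268_ok (edges267) d (by rw [just268_len]; exact hd)

theorem edges269 : ∀ d < 135000, Edge.EdgeOK data table rank seed d := fun d hd =>
  Edge.okERows_sound data table rank just269 134500 just269_ok (edges268) d (by rw [just269_len]; exact hd)

theorem edges270 : ∀ d < 135500, Edge.EdgeOK data table rank seed d := fun d hd =>
  Edge.okERows_sound data table rank just270 135000 just270_ok (edges269) d (by rw [just270_len]; exact hd)

theorem edges271 : ∀ d < 136000, Edge.EdgeOK data table rank seed d := fun d hd =>
  Edge.okERows_sound data table rank just271 135500 just271_ok (edges270) d (by rw [just271_len]; exact hd)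

theorem edges272 : ∀ d < 136500, Edge.EdgeOK data table rank seed d := fun d hd =>
  Edge.okERows_sound data table rank just272 136000 just272_ok (edges271) d (by rw [just272_len]; exact hd)

theorem edges273 : ∀ d < 137000, Edge.EdgeOK data table rank seed d := fun d hd =>
  Edge.okERows_sound data table rank just273 136500 just273_ok (edges272) d (by rw [just273_len]; exact hd)

theorem edges274 : ∀ d < 137500, Edge.EdgeOK data table rank seed d := fun d hd =>
  Edge.okERows_sound data table rank just274 137000 just274_ok (edges273) d (by rw [just274_len]; exact hd)

theorem edges275 : ∀ d < 138000, Edge.EdgeOK data table rank seed d := fun d hd =>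
  Edge.okERows_sound data table rank just275 137500 just275_ok (edges274) d (by rw [just275_len]; exact hd)

theorem edges276 : ∀ d < 138500, Edge.EdgeOK data table rank seed d := fun d hd =>
  Edge.okERows_sound data table rank just276 138000 just276_ok (edges275) d (by rw [just276_len]; exact hd)

theorem edges277 : ∀ d < 139000, Edge.EdgeOK data table rank seed d := fun d hd =>
  Edge.okERows_sound data table rank just277 138500 just277_ok (edges276) d (by rw [just277_len]; exact hd)

theorem edges278 : ∀ d < 139500, Edge.EdgeOK data table rank seed d := fun d hd =>
  Edge.okERows_sound data table rank just278 139000 just278_ok (edges277) d (by rw [just278_len]; exact hd)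

theorem edges279 : ∀ d < 140000, Edge.EdgeOK data table rank seed d := fun d hd =>
  Edge.okERows_sound data table rank just279 139500 just279_ok (edges278) d (by rw [just279_len]; exact hd)

theorem edges280 : ∀ d < 140500, Edge.EdgeOK data table rank seed d := fun d hd =>
  Edge.okERows_sound data table rank just280 140000 just280_ok (edges279) d (by rw [just280_len]; exact hd)

theorem edges281 : ∀ d < 141000, Edge.EdgeOK data table rank seed d := fun d hd =>
  Edge.okERows_sound data table rank just281 140500 just281_ok (edges280) d (by rw [just281_len]; exact hd)

theorem edges282 : ∀ d < 141500, Edge.EdgeOK data table rank seed d := fun d hd =>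
  Edge.okERows_sound data table rank just282 141000 just282_ok (edges281) d (by rw [just282_len]; exact hd)

theorem edges283 : ∀ d < 142000, Edge.EdgeOK data table rank seed d := fun d hd =>
  Edge.okERows_sound data table rank just283 141500 just283_ok (edges282) d (by rw [just283_len]; exact hd)

theorem edges284 : ∀ d < 142500, Edge.EdgeOK data table rank seed d := fun d hd =>
  Edge.okERows_sound data table rank just284 142000 just284_ok (edges283) d (by rw [just284_len]; exact hd)

theorem edges285 : ∀ d < 143000, Edge.EdgeOK data table rank seed d := fun d hd =>
  Edge.okERows_sound data table rank just285 142500 just285_ok (edges284) d (by rw [just285_len]; exact hd)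

theorem edges286 : ∀ d < 143500, Edge.EdgeOK data table rank seed d := fun d hd =>
  Edge.okERows_sound data table rank just286 143000 just286_ok (edges285) d (by rw [just286_len]; exact hd)

theorem edges287 : ∀ d < 144000, Edge.EdgeOK data table rank seed d := fun d hd =>
  Edge.okERows_sound data table rank just287 143500 just287_ok (edges286) d (by rw [just287_len]; exact hd)

theorem edges288 : ∀ d < 144500, Edge.EdgeOK data table rank seed d := fun d hd =>
  Edge.okERows_sound data table rank just288 144000 just288_ok (edges287) d (by rw [just288_len]; exact hd)

theorem edges289 : ∀ d < 145000, Edge.EdgeOK data table rank seed d := fun d hd =>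
  Edge.okERows_sound data table rank just289 144500 just289_ok (edges288) d (by rw [just289_len]; exact hd)

theorem edges290 : ∀ d < 145500, Edge.EdgeOK data table rank seed d := fun d hd =>
  Edge.okERows_sound data table rank just290 145000 just290_ok (edges289) d (by rw [just290_len]; exact hd)

theorem edges291 : ∀ d < 146000, Edge.EdgeOK data table rank seed d := fun d hd =>
  Edge.okERows_sound data table rank just291 145500 just291_ok (edges290) d (by rw [just291_len]; exact hd)

theorem edges292 : ∀ d < 146500, Edge.EdgeOK data table rank seed d := fun d hd =>
  Edge.okERows_sound data table rank just292 146000 just292_ok (edges291) d (by rw [just292_len]; exact hd)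

theorem edges293 : ∀ d < 147000, Edge.EdgeOK data table rank seed d := fun d hd =>
  Edge.okERows_sound data table rank just293 146500 just293_ok (edges292) d (by rw [just293_len]; exact hd)

theorem edges294 : ∀ d < 147500, Edge.EdgeOK data table rank seed d := fun d hd =>
  Edge.okERows_sound data table rank just294 147000 just294_ok (edges293) d (by rw [just294_len]; exact hd)

theorem edges295 : ∀ d < 148000, Edge.EdgeOK data table rank seed d := fun d hd =>
  Edge.okERows_sound data table rank just295 147500 just295_ok (edges294) d (by rw [just295_len]; exact hd)

theorem edges296 : ∀ d < 148500, Edge.EdgeOK data table rank seed d := fun d hd =>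
  Edge.okERows_sound data table rank just296 148000 just296_ok (edges295) d (by rw [just296_len]; exact hd)

theorem edges297 : ∀ d < 149000, Edge.EdgeOK data table rank seed d := fun d hd =>
  Edge.okERows_sound data table rank just297 148500 just297_ok (edges296) d (by rw [just297_len]; exact hd)

theorem edges298 : ∀ d < 149500, Edge.EdgeOK data table rank seed d := fun d hd =>
  Edge.okERows_sound data table rank just298 149000 just298_ok (edges297) d (by rw [just298_len]; exact hd)

theorem edges299 : ∀ d < 150000, Edge.EdgeOK data table rank seed d := fun d hd =>
  Edge.okERows_sound data table rank just299 149500 just299_ok (edges298) d (by rw [just299_len]; exact hd)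

theorem edges300 : ∀ d < 150500, Edge.EdgeOK data table rank seed d := fun d hd =>
  Edge.okERows_sound data table rank just300 150000 just300_ok (edges299) d (by rw [just300_len]; exact hd)

theorem edges301 : ∀ d < 151000, Edge.EdgeOK data table rank seed d := fun d hd =>
  Edge.okERows_sound data table rank just301 150500 just301_ok (edges300) d (by rw [just301_len]; exact hd)

theorem edges302 : ∀ d < 151500, Edge.EdgeOK data table rank seed d := fun d hd =>
  Edge.okERows_sound data table rank just302 151000 just302_ok (edges301) d (by rw [just302_len]; exact hd)

theorem edges303 : ∀ d < 152000, Edge.EdgeOK data table rank seed d := fun d hd =>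
  Edge.okERows_sound data table rank just303 151500 just303_ok (edges302) d (by rw [just303_len]; exact hd)

theorem edges304 : ∀ d < 152500, Edge.EdgeOK data table rank seed d := fun d hd =>
  Edge.okERows_sound data table rank just304 152000 just304_ok (edges303) d (by rw [just304_len]; exact hd)

theorem edges305 : ∀ d < 153000, Edge.EdgeOK data table rank seed d := fun d hd =>
  Edge.okERows_sound data table rank just305 152500 just305_ok (edges304) d (by rw [just305_len]; exact hd)

theorem edges306 : ∀ d < 153500, Edge.EdgeOK data table rank seed d := fun d hd =>
  Edge.okERows_sound data table rank just306 153000 just306_ok (edges305) d (by rw [just306_len]; exact hd)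

theorem edges307 : ∀ d < 154000, Edge.EdgeOK data table rank seed d := fun d hd =>
  Edge.okERows_sound data table rank just307 153500 just307_ok (edges306) d (by rw [just307_len]; exact hd)

theorem edges308 : ∀ d < 154500, Edge.EdgeOK data table rank seed d := fun d hd =>
  Edge.okERows_sound data table rank just308 154000 just308_ok (edges307) d (by rw [just308_len]; exact hd)

theorem edges309 : ∀ d < 155000, Edge.EdgeOK data table rank seed d := fun d hd =>
  Edge.okERows_sound data table rank just309 154500 just309_ok (edges308) d (by rw [just309_len]; exact hd)

theorem edges310 : ∀ d < 155500, Edge.EdgeOK data table rank seed d := fun d hd =>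
  Edge.okERows_sound data table rank just310 155000 just310_ok (edges309) d (by rw [just310_len]; exact hd)

theorem edges311 : ∀ d < 156000, Edge.EdgeOK data table rank seed d := fun d hd =>
  Edge.okERows_sound data table rank just311 155500 just311_ok (edges310) d (by rw [just311_len]; exact hd)

theorem edges312 : ∀ d < 156500, Edge.EdgeOK data table rank seed d := fun d hd =>
  Edge.okERows_sound data table rank just312 156000 just312_ok (edges311) d (by rw [just312_len]; exact hd)

theorem edges313 : ∀ d < 157000, Edge.EdgeOK data table rank seed d := fun d hd =>
  Edge.okERows_sound data table rank just313 156500 just313_ok (edges312) d (by rw [just313_len]; exact hd)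

theorem edges314 : ∀ d < 157500, Edge.EdgeOK data table rank seed d := fun d hd =>
  Edge.okERows_sound data table rank just314 157000 just314_ok (edges313) d (by rw [just314_len]; exact hd)

theorem edges315 : ∀ d < 158000, Edge.EdgeOK data table rank seed d := fun d hd =>
  Edge.okERows_sound data table rank just315 157500 just315_ok (edges314) d (by rw [just315_len]; exact hd)

theorem edges316 : ∀ d < 158500, Edge.EdgeOK data table rank seed d := fun d hd =>
  Edge.okERows_sound data table rank just316 158000 just316_ok (edges315) d (by rw [just316_len]; exact hd)

theorem edges317 : ∀ d < 159000, Edge.EdgeOK data table rank seed d := fun d hd =>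
  Edge.okERows_sound data table rank just317 158500 just317_ok (edges316) d (by rw [just317_len]; exact hd)

theorem edges318 : ∀ d < 159500, Edge.EdgeOK data table rank seed d := fun d hd =>
  Edge.okERows_sound data table rank just318 159000 just318_ok (edges317) d (by rw [just318_len]; exact hd)

theorem edges319 : ∀ d < 160000, Edge.EdgeOK data table rank seed d := fun d hd =>
  Edge.okERows_sound data table rank just319 159500 just319_ok (edges318) d (by rw [just319_len]; exact hd)

theorem edges320 : ∀ d < 160500, Edge.EdgeOK data table rank seed d := fun d hd =>
  Edge.okERows_sound data table rank just320 160000 just320_ok (edges319) d (by rw [just320_len]; exact hd)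

theorem edges321 : ∀ d < 161000, Edge.EdgeOK data table rank seed d := fun d hd =>
  Edge.okERows_sound data table rank just321 160500 just321_ok (edges320) d (by rw [just321_len]; exact hd)

theorem edges322 : ∀ d < 161500, Edge.EdgeOK data table rank seed d := fun d hd =>
  Edge.okERows_sound data table rank just322 161000 just322_ok (edges321) d (by rw [just322_len]; exact hd)

theorem edges323 : ∀ d < 162000, Edge.EdgeOK data table rank seed d := fun d hd =>
  Edge.okERows_sound data table rank just323 161500 just323_ok (edges322) d (by rw [just323_len]; exact hd)

theorem edges324 : ∀ d < 162500, Edge.EdgeOK data table rank seed d := fun d hd =>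
  Edge.okERows_sound data table rank just324 162000 just324_ok (edges323) d (by rw [just324_len]; exact hd)

theorem edges325 : ∀ d < 163000, Edge.EdgeOK data table rank seed d := fun d hd =>
  Edge.okERows_sound data table rank just325 162500 just325_ok (edges324) d (by rw [just325_len]; exact hd)

theorem edges326 : ∀ d < 163500, Edge.EdgeOK data table rank seed d := fun d hd =>
  Edge.okERows_sound data table rank just326 163000 just326_ok (edges325) d (by rw [just326_len]; exact hd)

theorem edges327 : ∀ d < 164000, Edge.EdgeOK data table rank seed d := fun d hd =>
  Edge.okERows_sound data table rank just327 163500 just327_ok (edges326) d (by rw [just327_len]; exact hd)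

theorem edges328 : ∀ d < 164500, Edge.EdgeOK data table rank seed d := fun d hd =>
  Edge.okERows_sound data table rank just328 164000 just328_ok (edges327) d (by rw [just328_len]; exact hd)

theorem edges329 : ∀ d < 165000, Edge.EdgeOK data table rank seed d := fun d hd =>
  Edge.okERows_sound data table rank just329 164500 just329_ok (edges328) d (by rw [just329_len]; exact hd)

theorem edges330 : ∀ d < 165500, Edge.EdgeOK data table rank seed d := fun d hd =>
  Edge.okERows_sound data table rank just330 165000 just330_ok (edges329) d (by rw [just330_len]; exact hd)

theorem edges331 : ∀ d < 166000, Edge.EdgeOK data table rank seed d := fun d hd =>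
  Edge.okERows_sound data table rank just331 165500 just331_ok (edges330) d (by rw [just331_len]; exact hd)

theorem edges332 : ∀ d < 166500, Edge.EdgeOK data table rank seed d := fun d hd =>
  Edge.okERows_sound data table rank just332 166000 just332_ok (edges331) d (by rw [just332_len]; exact hd)

theorem edges333 : ∀ d < 167000, Edge.EdgeOK data table rank seed d := fun d hd =>
  Edge.okERows_sound data table rank just333 166500 just333_ok (edges332) d (by rw [just333_len]; exact hd)

theorem edges334 : ∀ d < 167500, Edge.EdgeOK data table rank seed d := fun d hd =>
  Edge.okERows_sound data table rank just334 167000 just334_ok (edges333) d (by rw [just334_len]; exact hd)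

theorem edges335 : ∀ d < 168000, Edge.EdgeOK data table rank seed d := fun d hd =>
  Edge.okERows_sound data table rank just335 167500 just335_ok (edges334) d (by rw [just335_len]; exact hd)

theorem edges336 : ∀ d < 168500, Edge.EdgeOK data table rank seed d := fun d hd =>
  Edge.okERows_sound data table rank just336 168000 just336_ok (edges335) d (by rw [just336_len]; exact hd)

theorem edges337 : ∀ d < 169000, Edge.EdgeOK data table rank seed d := fun d hd =>
  Edge.okERows_sound data table rank just337 168500 just337_ok (edges336) d (by rw [just337_len]; exact hd)

theorem edges338 : ∀ d < 169500, Edge.EdgeOK data table rank seed d := fun d hd =>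
  Edge.okERows_sound data table rank just338 169000 just338_ok (edges337) d (by rw [just338_len]; exact hd)

theorem edges339 : ∀ d < 170000, Edge.EdgeOK data table rank seed d := fun d hd =>
  Edge.okERows_sound data table rank just339 169500 just339_ok (edges338) d (by rw [just339_len]; exact hd)

theorem edges340 : ∀ d < 170500, Edge.EdgeOK data table rank seed d := fun d hd =>
  Edge.okERows_sound data table rank just340 170000 just340_ok (edges339) d (by rw [just340_len]; exact hd)

theorem edges341 : ∀ d < 171000, Edge.EdgeOK data table rank seed d := fun d hd =>
  Edge.okERows_sound data table rank just341 170500 just341_ok (edges340) d (by rw [just341_len]; exact hd)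

theorem edges342 : ∀ d < 171500, Edge.EdgeOK data table rank seed d := fun d hd =>
  Edge.okERows_sound data table rank just342 171000 just342_ok (edges341) d (by rw [just342_len]; exact hd)

theorem edges343 : ∀ d < 172000, Edge.EdgeOK data table rank seed d := fun d hd =>
  Edge.okERows_sound data table rank just343 171500 just343_ok (edges342) d (by rw [just343_len]; exact hd)

theorem edges344 : ∀ d < 172500, Edge.EdgeOK data table rank seed d := fun d hd =>
  Edge.okERows_sound data table rank just344 172000 just344_ok (edges343) d (by rw [just344_len]; exact hd)

theorem edges345 : ∀ d < 173000, Edge.EdgeOK data table rank seed d := fun d hd =>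
  Edge.okERows_sound data table rank just345 172500 just345_ok (edges344) d (by rw [just345_len]; exact hd)

theorem edges346 : ∀ d < 173500, Edge.EdgeOK data table rank seed d := fun d hd =>
  Edge.okERows_sound data table rank just346 173000 just346_ok (edges345) d (by rw [just346_len]; exact hd)

theorem edges347 : ∀ d < 174000, Edge.EdgeOK data table rank seed d := fun d hd =>
  Edge.okERows_sound data table rank just347 173500 just347_ok (edges346) d (by rw [just347_len]; exact hd)

theorem edges348 : ∀ d < 174500, Edge.EdgeOK data table rank seed d := fun d hd =>
  Edge.okERows_sound data table rank just348 174000 just348_ok (edges347) d (by rw [just348_len]; exact hd)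

theorem edges349 : ∀ d < 175000, Edge.EdgeOK data table rank seed d := fun d hd =>
  Edge.okERows_sound data table rank just349 174500 just349_ok (edges348) d (by rw [just349_len]; exact hd)

theorem edges350 : ∀ d < 175500, Edge.EdgeOK data table rank seed d := fun d hd =>
  Edge.okERows_sound data table rank just350 175000 just350_ok (edges349) d (by rw [just350_len]; exact hd)

theorem edges351 : ∀ d < 176000, Edge.EdgeOK data table rank seed d := fun d hd =>
  Edge.okERows_sound data table rank just351 175500 just351_ok (edges350) d (by rw [just351_len]; exact hd)

theorem edges352 : ∀ d < 176500, Edge.EdgeOK data table rank seed d := fun d hd =>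
  Edge.okERows_sound data table rank just352 176000 just352_ok (edges351) d (by rw [just352_len]; exact hd)

theorem edges353 : ∀ d < 177000, Edge.EdgeOK data table rank seed d := fun d hd =>
  Edge.okERows_sound data table rank just353 176500 just353_ok (edges352) d (by rw [just353_len]; exact hd)

theorem edges354 : ∀ d < 177500, Edge.EdgeOK data table rank seed d := fun d hd =>
  Edge.okERows_sound data table rank just354 177000 just354_ok (edges353) d (by rw [just354_len]; exact hd)

theorem edges355 : ∀ d < 178000, Edge.EdgeOK data table rank seed d := fun d hd =>
  Edge.okERows_sound data table rank just355 177500 just355_ok (edges354) d (by rw [just355_len]; exact hd)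

theorem edges356 : ∀ d < 178500, Edge.EdgeOK data table rank seed d := fun d hd =>
  Edge.okERows_sound data table rank just356 178000 just356_ok (edges355) d (by rw [just356_len]; exact hd)

theorem edges357 : ∀ d < 179000, Edge.EdgeOK data table rank seed d := fun d hd =>
  Edge.okERows_sound data table rank just357 178500 just357_ok (edges356) d (by rw [just357_len]; exact hd)

theorem edges358 : ∀ d < 179500, Edge.EdgeOK data table rank seed d := fun d hd =>
  Edge.okERows_sound data table rank just358 179000 just358_ok (edges357) d (by rw [just358_len]; exact hd)

theorem edges359 : ∀ d < 180000, Edge.EdgeOK data table rank seed d := fun d hd =>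
  Edge.okERows_sound data table rank just359 179500 just359_ok (edges358) d (by rw [just359_len]; exact hd)

theorem edges360 : ∀ d < 180500, Edge.EdgeOK data table rank seed d := fun d hd =>
  Edge.okERows_sound data table rank just360 180000 just360_ok (edges359) d (by rw [just360_len]; exact hd)

theorem edges361 : ∀ d < 181000, Edge.EdgeOK data table rank seed d := fun d hd =>
  Edge.okERows_sound data table rank just361 180500 just361_ok (edges360) d (by rw [just361_len]; exact hd)

theorem edges362 : ∀ d < 181500, Edge.EdgeOK data table rank seed d := fun d hd =>
  Edge.okERows_sound data table rank just362 181000 just362_ok (edges361) d (by rw [just362_len]; exact hd)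

theorem edges363 : ∀ d < 182000, Edge.EdgeOK data table rank seed d := fun d hd =>
  Edge.okERows_sound data table rank just363 181500 just363_ok (edges362) d (by rw [just363_len]; exact hd)

theorem edges364 : ∀ d < 182500, Edge.EdgeOK data table rank seed d := fun d hd =>
  Edge.okERows_sound data table rank just364 182000 just364_ok (edges363) d (by rw [just364_len]; exact hd)

theorem edges365 : ∀ d < 183000, Edge.EdgeOK data table rank seed d := fun d hd =>
  Edge.okERows_sound data table rank just365 182500 just365_ok (edges364) d (by rw [just365_len]; exact hd)

theorem edges366 : ∀ d < 183500, Edge.EdgeOK data table rank seed d := fun d hd =>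
  Edge.okERows_sound data table rank just366 183000 just366_ok (edges365) d (by rw [just366_len]; exact hd)

theorem edges367 : ∀ d < 184000, Edge.EdgeOK data table rank seed d := fun d hd =>
  Edge.okERows_sound data table rank just367 183500 just367_ok (edges366) d (by rw [just367_len]; exact hd)

theorem edges368 : ∀ d < 184500, Edge.EdgeOK data table rank seed d := fun d hd =>
  Edge.okERows_sound data table rank just368 184000 just368_ok (edges367) d (by rw [just368_len]; exact hd)

theorem edges369 : ∀ d < 185000, Edge.EdgeOK data table rank seed d := fun d hd =>
  Edge.okERows_sound data table rank just369 184500 just369_ok (edges368) d (by rw [just369_len]; exact hd)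

theorem edges370 : ∀ d < 185500, Edge.EdgeOK data table rank seed d := fun d hd =>
  Edge.okERows_sound data table rank just370 185000 just370_ok (edges369) d (by rw [just370_len]; exact hd)

theorem edges371 : ∀ d < 186000, Edge.EdgeOK data table rank seed d := fun d hd =>
  Edge.okERows_sound data table rank just371 185500 just371_ok (edges370) d (by rw [just371_len]; exact hd)

theorem edges372 : ∀ d < 186500, Edge.EdgeOK data table rank seed d := fun d hd =>
  Edge.okERows_sound data table rank just372 186000 just372_ok (edges371) d (by rw [just372_len]; exact hd)

theorem edges373 : ∀ d < 187000, Edge.EdgeOK data table rank seed d := fun d hd =>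
  Edge.okERows_sound data table rank just373 186500 just373_ok (edges372) d (by rw [just373_len]; exact hd)

theorem edges374 : ∀ d < 187500, Edge.EdgeOK data table rank seed d := fun d hd =>
  Edge.okERows_sound data table rank just374 187000 just374_ok (edges373) d (by rw [just374_len]; exact hd)

theorem edges375 : ∀ d < 188000, Edge.EdgeOK data table rank seed d := fun d hd =>
  Edge.okERows_sound data table rank just375 187500 just375_ok (edges374) d (by rw [just375_len]; exact hd)

theorem edges376 : ∀ d < 188500, Edge.EdgeOK data table rank seed d := fun d hd =>
  Edge.okERows_sound data table rank just376 188000 just376_ok (edges375) d (by rw [just376_len]; exact hd)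

theorem edges377 : ∀ d < 189000, Edge.EdgeOK data table rank seed d := fun d hd =>
  Edge.okERows_sound data table rank just377 188500 just377_ok (edges376) d (by rw [just377_len]; exact hd)

theorem edges378 : ∀ d < 189500, Edge.EdgeOK data table rank seed d := fun d hd =>
  Edge.okERows_sound data table rank just378 189000 just378_ok (edges377) d (by rw [just378_len]; exact hd)

theorem edges379 : ∀ d < 190000, Edge.EdgeOK data table rank seed d := fun d hd =>
  Edge.okERows_sound data table rank just379 189500 just379_ok (edges378) d (by rw [just379_len]; exact hd)

theorem edges380 : ∀ d < 190500, Edge.EdgeOK data table rank seed d := fun d hd =>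
  Edge.okERows_sound data table rank just380 190000 just380_ok (edges379) d (by rw [just380_len]; exact hd)

theorem edges381 : ∀ d < 191000, Edge.EdgeOK data table rank seed d := fun d hd =>
  Edge.okERows_sound data table rank just381 190500 just381_ok (edges380) d (by rw [just381_len]; exact hd)

theorem edges382 : ∀ d < 191500, Edge.EdgeOK data table rank seed d := fun d hd =>
  Edge.okERows_sound data table rank just382 191000 just382_ok (edges381) d (by rw [just382_len]; exact hd)

theorem edges383 : ∀ d < 192000, Edge.EdgeOK data table rank seed d := fun d hd =>
  Edge.okERows_sound data table rank just383 191500 just383_ok (edges382) d (by rw [just383_len]; exact hd)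

theorem edges384 : ∀ d < 192500, Edge.EdgeOK data table rank seed d := fun d hd =>
  Edge.okERows_sound data table rank just384 192000 just384_ok (edges383) d (by rw [just384_len]; exact hd)

theorem edges385 : ∀ d < 193000, Edge.EdgeOK data table rank seed d := fun d hd =>
  Edge.okERows_sound data table rank just385 192500 just385_ok (edges384) d (by rw [just385_len]; exact hd)

theorem edges386 : ∀ d < 193500, Edge.EdgeOK data table rank seed d := fun d hd =>
  Edge.okERows_sound data table rank just386 193000 just386_ok (edges385) d (by rw [just386_len]; exact hd)

theorem edges387 : ∀ d < 194000, Edge.EdgeOK data table rank seed d := fun d hd =>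
  Edge.okERows_sound data table rank just387 193500 just387_ok (edges386) d (by rw [just387_len]; exact hd)

theorem edges388 : ∀ d < 194500, Edge.EdgeOK data table rank seed d := fun d hd =>
  Edge.okERows_sound data table rank just388 194000 just388_ok (edges387) d (by rw [just388_len]; exact hd)

theorem edges389 : ∀ d < 195000, Edge.EdgeOK data table rank seed d := fun d hd =>
  Edge.okERows_sound data table rank just389 194500 just389_ok (edges388) d (by rw [just389_len]; exact hd)

theorem edges390 : ∀ d < 195500, Edge.EdgeOK data table rank seed d := fun d hd =>
  Edge.okERows_sound data table rank just390 195000 just390_ok (edges389) d (by rw [just390_len]; exact hd)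

theorem edges391 : ∀ d < 196000, Edge.EdgeOK data table rank seed d := fun d hd =>
  Edge.okERows_sound data table rank just391 195500 just391_ok (edges390) d (by rw [just391_len]; exact hd)

theorem edges392 : ∀ d < 196500, Edge.EdgeOK data table rank seed d := fun d hd =>
  Edge.okERows_sound data table rank just392 196000 just392_ok (edges391) d (by rw [just392_len]; exact hd)

theorem edges393 : ∀ d < 197000, Edge.EdgeOK data table rank seed d := fun d hd =>
  Edge.okERows_sound data table rank just393 196500 just393_ok (edges392) d (by rw [just393_len]; exact hd)

theorem edges394 : ∀ d < 197500, Edge.EdgeOK data table rank seed d := fun d hd =>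
  Edge.okERows_sound data table rank just394 197000 just394_ok (edges393) d (by rw [just394_len]; exact hd)

theorem edges395 : ∀ d < 198000, Edge.EdgeOK data table rank seed d := fun d hd =>
  Edge.okERows_sound data table rank just395 197500 just395_ok (edges394) d (by rw [just395_len]; exact hd)

theorem edges396 : ∀ d < 198500, Edge.EdgeOK data table rank seed d := fun d hd =>
  Edge.okERows_sound data table rank just396 198000 just396_ok (edges395) d (by rw [just396_len]; exact hd)

theorem edges397 : ∀ d < 199000, Edge.EdgeOK data table rank seed d := fun d hd =>
  Edge.okERows_sound data table rank just397 198500 just397_ok (edges396) d (by rw [just397_len]; exact hd)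

theorem edges398 : ∀ d < 199500, Edge.EdgeOK data table rank seed d := fun d hd =>
  Edge.okERows_sound data table rank just398 199000 just398_ok (edges397) d (by rw [just398_len]; exact hd)

theorem edges399 : ∀ d < 200000, Edge.EdgeOK data table rank seed d := fun d hd =>
  Edge.okERows_sound data table rank just399 199500 just399_ok (edges398) d (by rw [just399_len]; exact hd)

theorem edges400 : ∀ d < 200500, Edge.EdgeOK data table rank seed d := fun d hd =>
  Edge.okERows_sound data table rank just400 200000 just400_ok (edges399) d (by rw [just400_len]; exact hd)

theorem edges401 : ∀ d < 201000, Edge.EdgeOK data table rank seed d := fun d hd =>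
  Edge.okERows_sound data table rank just401 200500 just401_ok (edges400) d (by rw [just401_len]; exact hd)

theorem edges402 : ∀ d < 201500, Edge.EdgeOK data table rank seed d := fun d hd =>
  Edge.okERows_sound data table rank just402 201000 just402_ok (edges401) d (by rw [just402_len]; exact hd)

theorem edges403 : ∀ d < 202000, Edge.EdgeOK data table rank seed d := fun d hd =>
  Edge.okERows_sound data table rank just403 201500 just403_ok (edges402) d (by rw [just403_len]; exact hd)

theorem edges404 : ∀ d < 202500, Edge.EdgeOK data table rank seed d := fun d hd =>
  Edge.okERows_sound data table rank just404 202000 just404_ok (edges403) d (by rw [just404_len]; exact hd)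

theorem edges405 : ∀ d < 203000, Edge.EdgeOK data table rank seed d := fun d hd =>
  Edge.okERows_sound data table rank just405 202500 just405_ok (edges404) d (by rw [just405_len]; exact hd)

theorem edges406 : ∀ d < 203500, Edge.EdgeOK data table rank seed d := fun d hd =>
  Edge.okERows_sound data table rank just406 203000 just406_ok (edges405) d (by rw [just406_len]; exact hd)

theorem edges407 : ∀ d < 204000, Edge.EdgeOK data table rank seed d := fun d hd =>
  Edge.okERows_sound data table rank just407 203500 just407_ok (edges406) d (by rw [just407_len]; exact hd)

theorem edges408 : ∀ d < 204500, Edge.EdgeOK data table rank seed d := fun d hd =>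
  Edge.okERows_sound data table rank just408 204000 just408_ok (edges407) d (by rw [just408_len]; exact hd)

theorem edges409 : ∀ d < 205000, Edge.EdgeOK data table rank seed d := fun d hd =>
  Edge.okERows_sound data table rank just409 204500 just409_ok (edges408) d (by rw [just409_len]; exact hd)

theorem edges410 : ∀ d < 205500, Edge.EdgeOK data table rank seed d := fun d hd =>
  Edge.okERows_sound data table rank just410 205000 just410_ok (edges409) d (by rw [just410_len]; exact hd)

theorem edges411 : ∀ d < 206000, Edge.EdgeOK data table rank seed d := fun d hd =>
  Edge.okERows_sound data table rank just411 205500 just411_ok (edges410) d (by rw [just411_len]; exact hd)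

theorem edges412 : ∀ d < 206500, Edge.EdgeOK data table rank seed d := fun d hd =>
  Edge.okERows_sound data table rank just412 206000 just412_ok (edges411) d (by rw [just412_len]; exact hd)

theorem edges413 : ∀ d < 207000, Edge.EdgeOK data table rank seed d := fun d hd =>
  Edge.okERows_sound data table rank just413 206500 just413_ok (edges412) d (by rw [just413_len]; exact hd)

theorem edges414 : ∀ d < 207500, Edge.EdgeOK data table rank seed d := fun d hd =>
  Edge.okERows_sound data table rank just414 207000 just414_ok (edges413) d (by rw [just414_len]; exact hd)

theorem edges415 : ∀ d < 208000, Edge.EdgeOK data table rank seed d := fun d hd =>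
  Edge.okERows_sound data table rank just415 207500 just415_ok (edges414) d (by rw [just415_len]; exact hd)

theorem edges416 : ∀ d < 208500, Edge.EdgeOK data table rank seed d := fun d hd =>
  Edge.okERows_sound data table rank just416 208000 just416_ok (edges415) d (by rw [just416_len]; exact hd)

theorem edges417 : ∀ d < 209000, Edge.EdgeOK data table rank seed d := fun d hd =>
  Edge.okERows_sound data table rank just417 208500 just417_ok (edges416) d (by rw [just417_len]; exact hd)

theorem edges418 : ∀ d < 209500, Edge.EdgeOK data table rank seed d := fun d hd =>
  Edge.okERows_sound data table rank just418 209000 just418_ok (edges417) d (by rw [just418_len]; exact hd)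

theorem edges419 : ∀ d < 210000, Edge.EdgeOK data table rank seed d := fun d hd =>
  Edge.okERows_sound data table rank just419 209500 just419_ok (edges418) d (by rw [just419_len]; exact hd)

theorem edges420 : ∀ d < 210500, Edge.EdgeOK data table rank seed d := fun d hd =>
  Edge.okERows_sound data table rank just420 210000 just420_ok (edges419) d (by rw [just420_len]; exact hd)

theorem edges421 : ∀ d < 211000, Edge.EdgeOK data table rank seed d := fun d hd =>
  Edge.okERows_sound data table rank just421 210500 just421_ok (edges420) d (by rw [just421_len]; exact hd)

theorem edges422 : ∀ d < 211500, Edge.EdgeOK data table rank seed d := fun d hd =>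
  Edge.okERows_sound data table rank just422 211000 just422_ok (edges421) d (by rw [just422_len]; exact hd)

theorem edges423 : ∀ d < 212000, Edge.EdgeOK data table rank seed d := fun d hd =>
  Edge.okERows_sound data table rank just423 211500 just423_ok (edges422) d (by rw [just423_len]; exact hd)

theorem edges424 : ∀ d < 212500, Edge.EdgeOK data table rank seed d := fun d hd =>
  Edge.okERows_sound data table rank just424 212000 just424_ok (edges423) d (by rw [just424_len]; exact hd)

theorem edges425 : ∀ d < 213000, Edge.EdgeOK data table rank seed d := fun d hd =>
  Edge.okERows_sound data table rank just425 212500 just425_ok (edges424) d (by rw [just425_len]; exact hd)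

theorem edges426 : ∀ d < 213500, Edge.EdgeOK data table rank seed d := fun d hd =>
  Edge.okERows_sound data table rank just426 213000 just426_ok (edges425) d (by rw [just426_len]; exact hd)

theorem edges427 : ∀ d < 214000, Edge.EdgeOK data table rank seed d := fun d hd =>
  Edge.okERows_sound data table rank just427 213500 just427_ok (edges426) d (by rw [just427_len]; exact hd)

theorem edges428 : ∀ d < 214500, Edge.EdgeOK data table rank seed d := fun d hd =>
  Edge.okERows_sound data table rank just428 214000 just428_ok (edges427) d (by rw [just428_len]; exact hd)

theorem edges429 : ∀ d < 215000, Edge.EdgeOK data table rank seed d := fun d hd =>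
  Edge.okERows_sound data table rank just429 214500 just429_ok (edges428) d (by rw [just429_len]; exact hd)

theorem edges430 : ∀ d < 215500, Edge.EdgeOK data table rank seed d := fun d hd =>
  Edge.okERows_sound data table rank just430 215000 just430_ok (edges429) d (by rw [just430_len]; exact hd)

theorem edges431 : ∀ d < 216000, Edge.EdgeOK data table rank seed d := fun d hd =>
  Edge.okERows_sound data table rank just431 215500 just431_ok (edges430) d (by rw [just431_len]; exact hd)

theorem edges432 : ∀ d < 216500, Edge.EdgeOK data table rank seed d := fun d hd =>
  Edge.okERows_sound data table rank just432 216000 just432_ok (edges431) d (by rw [just432_len]; exact hd)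

theorem edges433 : ∀ d < 217000, Edge.EdgeOK data table rank seed d := fun d hd =>
  Edge.okERows_sound data table rank just433 216500 just433_ok (edges432) d (by rw [just433_len]; exact hd)

theorem edges434 : ∀ d < 217500, Edge.EdgeOK data table rank seed d := fun d hd =>
  Edge.okERows_sound data table rank just434 217000 just434_ok (edges433) d (by rw [just434_len]; exact hd)

theorem edges435 : ∀ d < 218000, Edge.EdgeOK data table rank seed d := fun d hd =>
  Edge.okERows_sound data table rank just435 217500 just435_ok (edges434) d (by rw [just435_len]; exact hd)

theorem edges436 : ∀ d < 218500, Edge.EdgeOK data table rank seed d := fun d hd =>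
  Edge.okERows_sound data table rank just436 218000 just436_ok (edges435) d (by rw [just436_len]; exact hd)

theorem edges437 : ∀ d < 219000, Edge.EdgeOK data table rank seed d := fun d hd =>
  Edge.okERows_sound data table rank just437 218500 just437_ok (edges436) d (by rw [just437_len]; exact hd)

theorem edges438 : ∀ d < 219500, Edge.EdgeOK data table rank seed d := fun d hd =>
  Edge.okERows_sound data table rank just438 219000 just438_ok (edges437) d (by rw [just438_len]; exact hd)

theorem edges439 : ∀ d < 220000, Edge.EdgeOK data table rank seed d := fun d hd =>
  Edge.okERows_sound data table rank just439 219500 just439_ok (edges438) d (by rw [just439_len]; exact hd)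

theorem edges440 : ∀ d < 220500, Edge.EdgeOK data table rank seed d := fun d hd =>
  Edge.okERows_sound data table rank just440 220000 just440_ok (edges439) d (by rw [just440_len]; exact hd)

theorem edges441 : ∀ d < 221000, Edge.EdgeOK data table rank seed d := fun d hd =>
  Edge.okERows_sound data table rank just441 220500 just441_ok (edges440) d (by rw [just441_len]; exact hd)

theorem edges442 : ∀ d < 221500, Edge.EdgeOK data table rank seed d := fun d hd =>
  Edge.okERows_sound data table rank just442 221000 just442_ok (edges441) d (by rw [just442_len]; exact hd)

theorem edges443 : ∀ d < 222000, Edge.EdgeOK data table rank seed d := fun d hd =>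
  Edge.okERows_sound data table rank just443 221500 just443_ok (edges442) d (by rw [just443_len]; exact hd)

theorem edges444 : ∀ d < 222500, Edge.EdgeOK data table rank seed d := fun d hd =>
  Edge.okERows_sound data table rank just444 222000 just444_ok (edges443) d (by rw [just444_len]; exact hd)

theorem edges445 : ∀ d < 223000, Edge.EdgeOK data table rank seed d := fun d hd =>
  Edge.okERows_sound data table rank just445 222500 just445_ok (edges444) d (by rw [just445_len]; exact hd)

theorem edges446 : ∀ d < 223500, Edge.EdgeOK data table rank seed d := fun d hd =>
  Edge.okERows_sound data table rank just446 223000 just446_ok (edges445) d (by rw [just446_len]; exact hd)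

theorem edges447 : ∀ d < 224000, Edge.EdgeOK data table rank seed d := fun d hd =>
  Edge.okERows_sound data table rank just447 223500 just447_ok (edges446) d (by rw [just447_len]; exact hd)

theorem edges448 : ∀ d < 224500, Edge.EdgeOK data table rank seed d := fun d hd =>
  Edge.okERows_sound data table rank just448 224000 just448_ok (edges447) d (by rw [just448_len]; exact hd)

theorem edges449 : ∀ d < 225000, Edge.EdgeOK data table rank seed d := fun d hd =>
  Edge.okERows_sound data table rank just449 224500 just449_ok (edges448) d (by rw [just449_len]; exact hd)

theorem edges450 : ∀ d < 225500, Edge.EdgeOK data table rank seed d := fun d hd =>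
  Edge.okERows_sound data table rank just450 225000 just450_ok (edges449) d (by rw [just450_len]; exact hd)

theorem edges451 : ∀ d < 226000, Edge.EdgeOK data table rank seed d := fun d hd =>
  Edge.okERows_sound data table rank just451 225500 just451_ok (edges450) d (by rw [just451_len]; exact hd)

theorem edges452 : ∀ d < 226500, Edge.EdgeOK data table rank seed d := fun d hd =>
  Edge.okERows_sound data table rank just452 226000 just452_ok (edges451) d (by rw [just452_len]; exact hd)

theorem edges453 : ∀ d < 227000, Edge.EdgeOK data table rank seed d := fun d hd =>
  Edge.okERows_sound data table rank just453 226500 just453_ok (edges452) d (by rw [just453_len]; exact hd)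

theorem edges454 : ∀ d < 227500, Edge.EdgeOK data table rank seed d := fun d hd =>
  Edge.okERows_sound data table rank just454 227000 just454_ok (edges453) d (by rw [just454_len]; exact hd)

theorem edges455 : ∀ d < 228000, Edge.EdgeOK data table rank seed d := fun d hd =>
  Edge.okERows_sound data table rank just455 227500 just455_ok (edges454) d (by rw [just455_len]; exact hd)

theorem edges456 : ∀ d < 228500, Edge.EdgeOK data table rank seed d := fun d hd =>
  Edge.okERows_sound data table rank just456 228000 just456_ok (edges455) d (by rw [just456_len]; exact hd)

theorem edges457 : ∀ d < 229000, Edge.EdgeOK data table rank seed d := fun d hd =>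
  Edge.okERows_sound data table rank just457 228500 just457_ok (edges456) d (by rw [just457_len]; exact hd)

theorem edges458 : ∀ d < 229500, Edge.EdgeOK data table rank seed d := fun d hd =>
  Edge.okERows_sound data table rank just458 229000 just458_ok (edges457) d (by rw [just458_len]; exact hd)

theorem edges459 : ∀ d < 230000, Edge.EdgeOK data table rank seed d := fun d hd =>
  Edge.okERows_sound data table rank just459 229500 just459_ok (edges458) d (by rw [just459_len]; exact hd)

theorem edges460 : ∀ d < 230500, Edge.EdgeOK data table rank seed d := fun d hd =>
  Edge.okERows_sound data table rank just460 230000 just460_ok (edges459) d (by rw [just460_len]; exact hd)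

theorem edges461 : ∀ d < 231000, Edge.EdgeOK data table rank seed d := fun d hd =>
  Edge.okERows_sound data table rank just461 230500 just461_ok (edges460) d (by rw [just461_len]; exact hd)

theorem edges462 : ∀ d < 231500, Edge.EdgeOK data table rank seed d := fun d hd =>
  Edge.okERows_sound data table rank just462 231000 just462_ok (edges461) d (by rw [just462_len]; exact hd)

theorem edges463 : ∀ d < 232000, Edge.EdgeOK data table rank seed d := fun d hd =>
  Edge.okERows_sound data table rank just463 231500 just463_ok (edges462) d (by rw [just463_len]; exact hd)

theorem edges464 : ∀ d < 232500, Edge.EdgeOK data table rank seed d := fun d hd =>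
  Edge.okERows_sound data table rank just464 232000 just464_ok (edges463) d (by rw [just464_len]; exact hd)

theorem edges465 : ∀ d < 233000, Edge.EdgeOK data table rank seed d := fun d hd =>
  Edge.okERows_sound data table rank just465 232500 just465_ok (edges464) d (by rw [just465_len]; exact hd)

theorem edges466 : ∀ d < 233500, Edge.EdgeOK data table rank seed d := fun d hd =>
  Edge.okERows_sound data table rank just466 233000 just466_ok (edges465) d (by rw [just466_len]; exact hd)

theorem edges467 : ∀ d < 234000, Edge.EdgeOK data table rank seed d := fun d hd =>
  Edge.okERows_sound data table rank just467 233500 just467_ok (edges466) d (by rw [just467_len]; exact hd)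

theorem edges468 : ∀ d < 234500, Edge.EdgeOK data table rank seed d := fun d hd =>
  Edge.okERows_sound data table rank just468 234000 just468_ok (edges467) d (by rw [just468_len]; exact hd)

theorem edges469 : ∀ d < 235000, Edge.EdgeOK data table rank seed d := fun d hd =>
  Edge.okERows_sound data table rank just469 234500 just469_ok (edges468) d (by rw [just469_len]; exact hd)

theorem edges470 : ∀ d < 235500, Edge.EdgeOK data table rank seed d := fun d hd =>
  Edge.okERows_sound data table rank just470 235000 just470_ok (edges469) d (by rw [just470_len]; exact hd)

theorem edges471 : ∀ d < 236000, Edge.EdgeOK data table rank seed d := fun d hd =>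
  Edge.okERows_sound data table rank just471 235500 just471_ok (edges470) d (by rw [just471_len]; exact hd)

theorem edges472 : ∀ d < 236500, Edge.EdgeOK data table rank seed d := fun d hd =>
  Edge.okERows_sound data table rank just472 236000 just472_ok (edges471) d (by rw [just472_len]; exact hd)

theorem edges473 : ∀ d < 237000, Edge.EdgeOK data table rank seed d := fun d hd =>
  Edge.okERows_sound data table rank just473 236500 just473_ok (edges472) d (by rw [just473_len]; exact hd)

theorem edges474 : ∀ d < 237500, Edge.EdgeOK data table rank seed d := fun d hd =>
  Edge.okERows_sound data table rank just474 237000 just474_ok (edges473) d (by rw [just474_len]; exact hd)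

theorem edges475 : ∀ d < 238000, Edge.EdgeOK data table rank seed d := fun d hd =>
  Edge.okERows_sound data table rank just475 237500 just475_ok (edges474) d (by rw [just475_len]; exact hd)

theorem edges476 : ∀ d < 238500, Edge.EdgeOK data table rank seed d := fun d hd =>
  Edge.okERows_sound data table rank just476 238000 just476_ok (edges475) d (by rw [just476_len]; exact hd)

theorem edges477 : ∀ d < 239000, Edge.EdgeOK data table rank seed d := fun d hd =>
  Edge.okERows_sound data table rank just477 238500 just477_ok (edges476) d (by rw [just477_len]; exact hd)

theorem edges478 : ∀ d < 239500, Edge.EdgeOK data table rank seed d := fun d hd =>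
  Edge.okERows_sound data table rank just478 239000 just478_ok (edges477) d (by rw [just478_len]; exact hd)

theorem edges479 : ∀ d < 240000, Edge.EdgeOK data table rank seed d := fun d hd =>
  Edge.okERows_sound data table rank just479 239500 just479_ok (edges478) d (by rw [just479_len]; exact hd)

theorem edges480 : ∀ d < 240500, Edge.EdgeOK data table rank seed d := fun d hd =>
  Edge.okERows_sound data table rank just480 240000 just480_ok (edges479) d (by rw [just480_len]; exact hd)

theorem edges481 : ∀ d < 241000, Edge.EdgeOK data table rank seed d := fun d hd =>
  Edge.okERows_sound data table rank just481 240500 just481_ok (edges480) d (by rw [just481_len]; exact hd)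

theorem edges482 : ∀ d < 241500, Edge.EdgeOK data table rank seed d := fun d hd =>
  Edge.okERows_sound data table rank just482 241000 just482_ok (edges481) d (by rw [just482_len]; exact hd)

theorem edges483 : ∀ d < 242000, Edge.EdgeOK data table rank seed d := fun d hd =>
  Edge.okERows_sound data table rank just483 241500 just483_ok (edges482) d (by rw [just483_len]; exact hd)

theorem edges484 : ∀ d < 242500, Edge.EdgeOK data table rank seed d := fun d hd =>
  Edge.okERows_sound data table rank just484 242000 just484_ok (edges483) d (by rw [just484_len]; exact hd)

theorem edges485 : ∀ d < 243000, Edge.EdgeOK data table rank seed d := fun d hd =>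
  Edge.okERows_sound data table rank just485 242500 just485_ok (edges484) d (by rw [just485_len]; exact hd)

theorem edges486 : ∀ d < 243500, Edge.EdgeOK data table rank seed d := fun d hd =>
  Edge.okERows_sound data table rank just486 243000 just486_ok (edges485) d (by rw [just486_len]; exact hd)

theorem edges487 : ∀ d < 244000, Edge.EdgeOK data table rank seed d := fun d hd =>
  Edge.okERows_sound data table rank just487 243500 just487_ok (edges486) d (by rw [just487_len]; exact hd)

theorem edges488 : ∀ d < 244500, Edge.EdgeOK data table rank seed d := fun d hd =>
  Edge.okERows_sound data table rank just488 244000 just488_ok (edges487) d (by rw [just488_len]; exact hd)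

theorem edges489 : ∀ d < 245000, Edge.EdgeOK data table rank seed d := fun d hd =>
  Edge.okERows_sound data table rank just489 244500 just489_ok (edges488) d (by rw [just489_len]; exact hd)

theorem edges490 : ∀ d < 245500, Edge.EdgeOK data table rank seed d := fun d hd =>
  Edge.okERows_sound data table rank just490 245000 just490_ok (edges489) d (by rw [just490_len]; exact hd)

theorem edges491 : ∀ d < 246000, Edge.EdgeOK data table rank seed d := fun d hd =>
  Edge.okERows_sound data table rank just491 245500 just491_ok (edges490) d (by rw [just491_len]; exact hd)

theorem edges492 : ∀ d < 246500, Edge.EdgeOK data table rank seed d := fun d hd =>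
  Edge.okERows_sound data table rank just492 246000 just492_ok (edges491) d (by rw [just492_len]; exact hd)

theorem edges493 : ∀ d < 247000, Edge.EdgeOK data table rank seed d := fun d hd =>
  Edge.okERows_sound data table rank just493 246500 just493_ok (edges492) d (by rw [just493_len]; exact hd)

theorem edges494 : ∀ d < 247500, Edge.EdgeOK data table rank seed d := fun d hd =>
  Edge.okERows_sound data table rank just494 247000 just494_ok (edges493) d (by rw [just494_len]; exact hd)

theorem edges495 : ∀ d < 248000, Edge.EdgeOK data table rank seed d := fun d hd =>
  Edge.okERows_sound data table rank just495 247500 just495_ok (edges494) d (by rw [just495_len]; exact hd)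

theorem edges496 : ∀ d < 248500, Edge.EdgeOK data table rank seed d := fun d hd =>
  Edge.okERows_sound data table rank just496 248000 just496_ok (edges495) d (by rw [just496_len]; exact hd)

theorem edges497 : ∀ d < 249000, Edge.EdgeOK data table rank seed d := fun d hd =>
  Edge.okERows_sound data table rank just497 248500 just497_ok (edges496) d (by rw [just497_len]; exact hd)

theorem edges498 : ∀ d < 249500, Edge.EdgeOK data table rank seed d := fun d hd =>
  Edge.okERows_sound data table rank just498 249000 just498_ok (edges497) d (by rw [just498_len]; exact hd)

theorem edges499 : ∀ d < 250000, Edge.EdgeOK data table rank seed d := fun d hd =>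
  Edge.okERows_sound data table rank just499 249500 just499_ok (edges498) d (by rw [just499_len]; exact hd)

theorem edges500 : ∀ d < 250500, Edge.EdgeOK data table rank seed d := fun d hd =>
  Edge.okERows_sound data table rank just500 250000 just500_ok (edges499) d (by rw [just500_len]; exact hd)

theorem edges501 : ∀ d < 251000, Edge.EdgeOK data table rank seed d := fun d hd =>
  Edge.okERows_sound data table rank just501 250500 just501_ok (edges500) d (by rw [just501_len]; exact hd)

theorem edges502 : ∀ d < 251500, Edge.EdgeOK data table rank seed d := fun d hd =>
  Edge.okERows_sound data table rank just502 251000 just502_ok (edges501) d (by rw [just502_len]; exact hd)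

theorem edges503 : ∀ d < 252000, Edge.EdgeOK data table rank seed d := fun d hd =>
  Edge.okERows_sound data table rank just503 251500 just503_ok (edges502) d (by rw [just503_len]; exact hd)

theorem edges504 : ∀ d < 252500, Edge.EdgeOK data table rank seed d := fun d hd =>
  Edge.okERows_sound data table rank just504 252000 just504_ok (edges503) d (by rw [just504_len]; exact hd)

theorem edges505 : ∀ d < 253000, Edge.EdgeOK data table rank seed d := fun d hd =>
  Edge.okERows_sound data table rank just505 252500 just505_ok (edges504) d (by rw [just505_len]; exact hd)

theorem edges506 : ∀ d < 253500, Edge.EdgeOK data table rank seed d := fun d hd =>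
  Edge.okERows_sound data table rank just506 253000 just506_ok (edges505) d (by rw [just506_len]; exact hd)

theorem edges507 : ∀ d < 254000, Edge.EdgeOK data table rank seed d := fun d hd =>
  Edge.okERows_sound data table rank just507 253500 just507_ok (edges506) d (by rw [just507_len]; exact hd)

theorem edges508 : ∀ d < 254500, Edge.EdgeOK data table rank seed d := fun d hd =>
  Edge.okERows_sound data table rank just508 254000 just508_ok (edges507) d (by rw [just508_len]; exact hd)

theorem edges509 : ∀ d < 255000, Edge.EdgeOK data table rank seed d := fun d hd =>
  Edge.okERows_sound data table rank just509 254500 just509_ok (edges508) d (by rw [just509_len]; exact hd)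

theorem edges510 : ∀ d < 255500, Edge.EdgeOK data table rank seed d := fun d hd =>
  Edge.okERows_sound data table rank just510 255000 just510_ok (edges509) d (by rw [just510_len]; exact hd)

theorem edges511 : ∀ d < 256000, Edge.EdgeOK data table rank seed d := fun d hd =>
  Edge.okERows_sound data table rank just511 255500 just511_ok (edges510) d (by rw [just511_len]; exact hd)

theorem edges512 : ∀ d < 256500, Edge.EdgeOK data table rank seed d := fun d hd =>
  Edge.okERows_sound data table rank just512 256000 just512_ok (edges511) d (by rw [just512_len]; exact hd)

theorem edges513 : ∀ d < 257000, Edge.EdgeOK data table rank seed d := fun d hd =>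
  Edge.okERows_sound data table rank just513 256500 just513_ok (edges512) d (by rw [just513_len]; exact hd)

theorem edges514 : ∀ d < 257500, Edge.EdgeOK data table rank seed d := fun d hd =>
  Edge.okERows_sound data table rank just514 257000 just514_ok (edges513) d (by rw [just514_len]; exact hd)

theorem edges515 : ∀ d < 258000, Edge.EdgeOK data table rank seed d := fun d hd =>
  Edge.okERows_sound data table rank just515 257500 just515_ok (edges514) d (by rw [just515_len]; exact hd)

theorem edges516 : ∀ d < 258500, Edge.EdgeOK data table rank seed d := fun d hd =>
  Edge.okERows_sound data table rank just516 258000 just516_ok (edges515) d (by rw [just516_len]; exact hd)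

theorem edges517 : ∀ d < 259000, Edge.EdgeOK data table rank seed d := fun d hd =>
  Edge.okERows_sound data table rank just517 258500 just517_ok (edges516) d (by rw [just517_len]; exact hd)

theorem edges518 : ∀ d < 259500, Edge.EdgeOK data table rank seed d := fun d hd =>
  Edge.okERows_sound data table rank just518 259000 just518_ok (edges517) d (by rw [just518_len]; exact hd)

theorem edges519 : ∀ d < 260000, Edge.EdgeOK data table rank seed d := fun d hd =>
  Edge.okERows_sound data table rank just519 259500 just519_ok (edges518) d (by rw [just519_len]; exact hd)

theorem edges520 : ∀ d < 260500, Edge.EdgeOK data table rank seed d := fun d hd =>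
  Edge.okERows_sound data table rank just520 260000 just520_ok (edges519) d (by rw [just520_len]; exact hd)

theorem edges521 : ∀ d < 261000, Edge.EdgeOK data table rank seed d := fun d hd =>
  Edge.okERows_sound data table rank just521 260500 just521_ok (edges520) d (by rw [just521_len]; exact hd)

theorem edges522 : ∀ d < 261500, Edge.EdgeOK data table rank seed d := fun d hd =>
  Edge.okERows_sound data table rank just522 261000 just522_ok (edges521) d (by rw [just522_len]; exact hd)

theorem edges523 : ∀ d < 262000, Edge.EdgeOK data table rank seed d := fun d hd =>
  Edge.okERows_sound data table rank just523 261500 just523_ok (edges522) d (by rw [just523_len]; exact hd)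

theorem edges524 : ∀ d < 262500, Edge.EdgeOK data table rank seed d := fun d hd =>
  Edge.okERows_sound data table rank just524 262000 just524_ok (edges523) d (by rw [just524_len]; exact hd)

theorem edges525 : ∀ d < 263000, Edge.EdgeOK data table rank seed d := fun d hd =>
  Edge.okERows_sound data table rank just525 262500 just525_ok (edges524) d (by rw [just525_len]; exact hd)

theorem edges526 : ∀ d < 263500, Edge.EdgeOK data table rank seed d := fun d hd =>
  Edge.okERows_sound data table rank just526 263000 just526_ok (edges525) d (by rw [just526_len]; exact hd)

theorem edges527 : ∀ d < 264000, Edge.EdgeOK data table rank seed d := fun d hd =>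
  Edge.okERows_sound data table rank just527 263500 just527_ok (edges526) d (by rw [just527_len]; exact hd)

theorem edges528 : ∀ d < 264500, Edge.EdgeOK data table rank seed d := fun d hd =>
  Edge.okERows_sound data table rank just528 264000 just528_ok (edges527) d (by rw [just528_len]; exact hd)

theorem edges529 : ∀ d < 265000, Edge.EdgeOK data table rank seed d := fun d hd =>
  Edge.okERows_sound data table rank just529 264500 just529_ok (edges528) d (by rw [just529_len]; exact hd)

theorem edges530 : ∀ d < 265500, Edge.EdgeOK data table rank seed d := fun d hd =>
  Edge.okERows_sound data table rank just530 265000 just530_ok (edges529) d (by rw [just530_len]; exact hd)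

theorem edges531 : ∀ d < 266000, Edge.EdgeOK data table rank seed d := fun d hd =>
  Edge.okERows_sound data table rank just531 265500 just531_ok (edges530) d (by rw [just531_len]; exact hd)

theorem edges532 : ∀ d < 266500, Edge.EdgeOK data table rank seed d := fun d hd =>
  Edge.okERows_sound data table rank just532 266000 just532_ok (edges531) d (by rw [just532_len]; exact hd)

theorem edges533 : ∀ d < 267000, Edge.EdgeOK data table rank seed d := fun d hd =>
  Edge.okERows_sound data table rank just533 266500 just533_ok (edges532) d (by rw [just533_len]; exact hd)

theorem edges534 : ∀ d < 267500, Edge.EdgeOK data table rank seed d := fun d hd =>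
  Edge.okERows_sound data table rank just534 267000 just534_ok (edges533) d (by rw [just534_len]; exact hd)

theorem edges535 : ∀ d < 268000, Edge.EdgeOK data table rank seed d := fun d hd =>
  Edge.okERows_sound data table rank just535 267500 just535_ok (edges534) d (by rw [just535_len]; exact hd)

theorem edges536 : ∀ d < 268500, Edge.EdgeOK data table rank seed d := fun d hd =>
  Edge.okERows_sound data table rank just536 268000 just536_ok (edges535) d (by rw [just536_len]; exact hd)

theorem edges537 : ∀ d < 269000, Edge.EdgeOK data table rank seed d := fun d hd =>
  Edge.okERows_sound data table rank just537 268500 just537_ok (edges536) d (by rw [just537_len]; exact hd)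

theorem edges538 : ∀ d < 269500, Edge.EdgeOK data table rank seed d := fun d hd =>
  Edge.okERows_sound data table rank just538 269000 just538_ok (edges537) d (by rw [just538_len]; exact hd)

theorem edges539 : ∀ d < 270000, Edge.EdgeOK data table rank seed d := fun d hd =>
  Edge.okERows_sound data table rank just539 269500 just539_ok (edges538) d (by rw [just539_len]; exact hd)

theorem edges540 : ∀ d < 270500, Edge.EdgeOK data table rank seed d := fun d hd =>
  Edge.okERows_sound data table rank just540 270000 just540_ok (edges539) d (by rw [just540_len]; exact hd)

theorem edges541 : ∀ d < 271000, Edge.EdgeOK data table rank seed d := fun d hd =>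
  Edge.okERows_sound data table rank just541 270500 just541_ok (edges540) d (by rw [just541_len]; exact hd)

theorem edges542 : ∀ d < 271500, Edge.EdgeOK data table rank seed d := fun d hd =>
  Edge.okERows_sound data table rank just542 271000 just542_ok (edges541) d (by rw [just542_len]; exact hd)

theorem edges543 : ∀ d < 272000, Edge.EdgeOK data table rank seed d := fun d hd =>
  Edge.okERows_sound data table rank just543 271500 just543_ok (edges542) d (by rw [just543_len]; exact hd)

theorem edges544 : ∀ d < 272500, Edge.EdgeOK data table rank seed d := fun d hd =>
  Edge.okERows_sound data table rank just544 272000 just544_ok (edges543) d (by rw [just544_len]; exact hd)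

theorem edges545 : ∀ d < 273000, Edge.EdgeOK data table rank seed d := fun d hd =>
  Edge.okERows_sound data table rank just545 272500 just545_ok (edges544) d (by rw [just545_len]; exact hd)

theorem edges546 : ∀ d < 273500, Edge.EdgeOK data table rank seed d := fun d hd =>
  Edge.okERows_sound data table rank just546 273000 just546_ok (edges545) d (by rw [just546_len]; exact hd)

theorem edges547 : ∀ d < 274000, Edge.EdgeOK data table rank seed d := fun d hd =>
  Edge.okERows_sound data table rank just547 273500 just547_ok (edges546) d (by rw [just547_len]; exact hd)

theorem edges548 : ∀ d < 274500, Edge.EdgeOK data table rank seed d := fun d hd =>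
  Edge.okERows_sound data table rank just548 274000 just548_ok (edges547) d (by rw [just548_len]; exact hd)

theorem edges549 : ∀ d < 275000, Edge.EdgeOK data table rank seed d := fun d hd =>
  Edge.okERows_sound data table rank just549 274500 just549_ok (edges548) d (by rw [just549_len]; exact hd)

theorem edges550 : ∀ d < 275500, Edge.EdgeOK data table rank seed d := fun d hd =>
  Edge.okERows_sound data table rank just550 275000 just550_ok (edges549) d (by rw [just550_len]; exact hd)

theorem edges551 : ∀ d < 276000, Edge.EdgeOK data table rank seed d := fun d hd =>
  Edge.okERows_sound data table rank just551 275500 just551_ok (edges550) d (by rw [just551_len]; exact hd)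

theorem edges552 : ∀ d < 276500, Edge.EdgeOK data table rank seed d := fun d hd =>
  Edge.okERows_sound data table rank just552 276000 just552_ok (edges551) d (by rw [just552_len]; exact hd)

theorem edges553 : ∀ d < 277000, Edge.EdgeOK data table rank seed d := fun d hd =>
  Edge.okERows_sound data table rank just553 276500 just553_ok (edges552) d (by rw [just553_len]; exact hd)

theorem edges554 : ∀ d < 277500, Edge.EdgeOK data table rank seed d := fun d hd =>
  Edge.okERows_sound data table rank just554 277000 just554_ok (edges553) d (by rw [just554_len]; exact hd)

theorem edges555 : ∀ d < 278000, Edge.EdgeOK data table rank seed d := fun d hd =>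
  Edge.okERows_sound data table rank just555 277500 just555_ok (edges554) d (by rw [just555_len]; exact hd)

theorem edges556 : ∀ d < 278500, Edge.EdgeOK data table rank seed d := fun d hd =>
  Edge.okERows_sound data table rank just556 278000 just556_ok (edges555) d (by rw [just556_len]; exact hd)

theorem edges557 : ∀ d < 279000, Edge.EdgeOK data table rank seed d := fun d hd =>
  Edge.okERows_sound data table rank just557 278500 just557_ok (edges556) d (by rw [just557_len]; exact hd)

theorem edges558 : ∀ d < 279500, Edge.EdgeOK data table rank seed d := fun d hd =>
  Edge.okERows_sound data table rank just558 279000 just558_ok (edges557) d (by rw [just558_len]; exact hd)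

theorem edges559 : ∀ d < 280000, Edge.EdgeOK data table rank seed d := fun d hd =>
  Edge.okERows_sound data table rank just559 279500 just559_ok (edges558) d (by rw [just559_len]; exact hd)

theorem edges560 : ∀ d < 280500, Edge.EdgeOK data table rank seed d := fun d hd =>
  Edge.okERows_sound data table rank just560 280000 just560_ok (edges559) d (by rw [just560_len]; exact hd)

theorem edges561 : ∀ d < 281000, Edge.EdgeOK data table rank seed d := fun d hd =>
  Edge.okERows_sound data table rank just561 280500 just561_ok (edges560) d (by rw [just561_len]; exact hd)

theorem edges562 : ∀ d < 281500, Edge.EdgeOK data table rank seed d := fun d hd =>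
  Edge.okERows_sound data table rank just562 281000 just562_ok (edges561) d (by rw [just562_len]; exact hd)

theorem edges563 : ∀ d < 282000, Edge.EdgeOK data table rank seed d := fun d hd =>
  Edge.okERows_sound data table rank just563 281500 just563_ok (edges562) d (by rw [just563_len]; exact hd)

theorem edges564 : ∀ d < 282500, Edge.EdgeOK data table rank seed d := fun d hd =>
  Edge.okERows_sound data table rank just564 282000 just564_ok (edges563) d (by rw [just564_len]; exact hd)

theorem edges565 : ∀ d < 283000, Edge.EdgeOK data table rank seed d := fun d hd =>
  Edge.okERows_sound data table rank just565 282500 just565_ok (edges564) d (by rw [just565_len]; exact hd)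

theorem edges566 : ∀ d < 283500, Edge.EdgeOK data table rank seed d := fun d hd =>
  Edge.okERows_sound data table rank just566 283000 just566_ok (edges565) d (by rw [just566_len]; exact hd)

theorem edges567 : ∀ d < 284000, Edge.EdgeOK data table rank seed d := fun d hd =>
  Edge.okERows_sound data table rank just567 283500 just567_ok (edges566) d (by rw [just567_len]; exact hd)

theorem edges568 : ∀ d < 284500, Edge.EdgeOK data table rank seed d := fun d hd =>
  Edge.okERows_sound data table rank just568 284000 just568_ok (edges567) d (by rw [just568_len]; exact hd)

theorem edges569 : ∀ d < 285000, Edge.EdgeOK data table rank seed d := fun d hd =>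
  Edge.okERows_sound data table rank just569 284500 just569_ok (edges568) d (by rw [just569_len]; exact hd)

theorem edges570 : ∀ d < 285500, Edge.EdgeOK data table rank seed d := fun d hd =>
  Edge.okERows_sound data table rank just570 285000 just570_ok (edges569) d (by rw [just570_len]; exact hd)

theorem edges571 : ∀ d < 286000, Edge.EdgeOK data table rank seed d := fun d hd =>
  Edge.okERows_sound data table rank just571 285500 just571_ok (edges570) d (by rw [just571_len]; exact hd)

theorem edges572 : ∀ d < 286500, Edge.EdgeOK data table rank seed d := fun d hd =>
  Edge.okERows_sound data table rank just572 286000 just572_ok (edges571) d (by rw [just572_len]; exact hd)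

theorem edges573 : ∀ d < 287000, Edge.EdgeOK data table rank seed d := fun d hd =>
  Edge.okERows_sound data table rank just573 286500 just573_ok (edges572) d (by rw [just573_len]; exact hd)

theorem edges574 : ∀ d < 287500, Edge.EdgeOK data table rank seed d := fun d hd =>
  Edge.okERows_sound data table rank just574 287000 just574_ok (edges573) d (by rw [just574_len]; exact hd)

theorem edges575 : ∀ d < 288000, Edge.EdgeOK data table rank seed d := fun d hd =>
  Edge.okERows_sound data table rank just575 287500 just575_ok (edges574) d (by rw [just575_len]; exact hd)

theorem edges576 : ∀ d < 288500, Edge.EdgeOK data table rank seed d := fun d hd =>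
  Edge.okERows_sound data table rank just576 288000 just576_ok (edges575) d (by rw [just576_len]; exact hd)

theorem edges577 : ∀ d < 289000, Edge.EdgeOK data table rank seed d := fun d hd =>
  Edge.okERows_sound data table rank just577 288500 just577_ok (edges576) d (by rw [just577_len]; exact hd)

theorem edges578 : ∀ d < 289500, Edge.EdgeOK data table rank seed d := fun d hd =>
  Edge.okERows_sound data table rank just578 289000 just578_ok (edges577) d (by rw [just578_len]; exact hd)

theorem edges579 : ∀ d < 290000, Edge.EdgeOK data table rank seed d := fun d hd =>
  Edge.okERows_sound data table rank just579 289500 just579_ok (edges578) d (by rw [just579_len]; exact hd)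

theorem edges580 : ∀ d < 290500, Edge.EdgeOK data table rank seed d := fun d hd =>
  Edge.okERows_sound data table rank just580 290000 just580_ok (edges579) d (by rw [just580_len]; exact hd)

theorem edges581 : ∀ d < 291000, Edge.EdgeOK data table rank seed d := fun d hd =>
  Edge.okERows_sound data table rank just581 290500 just581_ok (edges580) d (by rw [just581_len]; exact hd)

theorem edges582 : ∀ d < 291500, Edge.EdgeOK data table rank seed d := fun d hd =>
  Edge.okERows_sound data table rank just582 291000 just582_ok (edges581) d (by rw [just582_len]; exact hd)

theorem edges583 : ∀ d < 292000, Edge.EdgeOK data table rank seed d := fun d hd =>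
  Edge.okERows_sound data table rank just583 291500 just583_ok (edges582) d (by rw [just583_len]; exact hd)

theorem edges584 : ∀ d < 292500, Edge.EdgeOK data table rank seed d := fun d hd =>
  Edge.okERows_sound data table rank just584 292000 just584_ok (edges583) d (by rw [just584_len]; exact hd)

theorem edges585 : ∀ d < 293000, Edge.EdgeOK data table rank seed d := fun d hd =>
  Edge.okERows_sound data table rank just585 292500 just585_ok (edges584) d (by rw [just585_len]; exact hd)

theorem edges586 : ∀ d < 293500, Edge.EdgeOK data table rank seed d := fun d hd =>
  Edge.okERows_sound data table rank just586 293000 just586_ok (edges585) d (by rw [just586_len]; exact hd)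

theorem edges587 : ∀ d < 294000, Edge.EdgeOK data table rank seed d := fun d hd =>
  Edge.okERows_sound data table rank just587 293500 just587_ok (edges586) d (by rw [just587_len]; exact hd)

theorem edges588 : ∀ d < 294500, Edge.EdgeOK data table rank seed d := fun d hd =>
  Edge.okERows_sound data table rank just588 294000 just588_ok (edges587) d (by rw [just588_len]; exact hd)

theorem edges589 : ∀ d < 295000, Edge.EdgeOK data table rank seed d := fun d hd =>
  Edge.okERows_sound data table rank just589 294500 just589_ok (edges588) d (by rw [just589_len]; exact hd)

theorem edges590 : ∀ d < 295500, Edge.EdgeOK data table rank seed d := fun d hd =>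
  Edge.okERows_sound data table rank just590 295000 just590_ok (edges589) d (by rw [just590_len]; exact hd)

theorem edges591 : ∀ d < 296000, Edge.EdgeOK data table rank seed d := fun d hd =>
  Edge.okERows_sound data table rank just591 295500 just591_ok (edges590) d (by rw [just591_len]; exact hd)

theorem edges592 : ∀ d < 296500, Edge.EdgeOK data table rank seed d := fun d hd =>
  Edge.okERows_sound data table rank just592 296000 just592_ok (edges591) d (by rw [just592_len]; exact hd)

theorem edges593 : ∀ d < 297000, Edge.EdgeOK data table rank seed d := fun d hd =>
  Edge.okERows_sound data table rank just593 296500 just593_ok (edges592) d (by rw [just593_len]; exact hd)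

theorem edges594 : ∀ d < 297500, Edge.EdgeOK data table rank seed d := fun d hd =>
  Edge.okERows_sound data table rank just594 297000 just594_ok (edges593) d (by rw [just594_len]; exact hd)

theorem edges595 : ∀ d < 298000, Edge.EdgeOK data table rank seed d := fun d hd =>
  Edge.okERows_sound data table rank just595 297500 just595_ok (edges594) d (by rw [just595_len]; exact hd)

theorem edges596 : ∀ d < 298500, Edge.EdgeOK data table rank seed d := fun d hd =>
  Edge.okERows_sound data table rank just596 298000 just596_ok (edges595) d (by rw [just596_len]; exact hd)

theorem edges597 : ∀ d < 299000, Edge.EdgeOK data table rank seed d := fun d hd =>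
  Edge.okERows_sound data table rank just597 298500 just597_ok (edges596) d (by rw [just597_len]; exact hd)

theorem edges598 : ∀ d < 299500, Edge.EdgeOK data table rank seed d := fun d hd =>
  Edge.okERows_sound data table rank just598 299000 just598_ok (edges597) d (by rw [just598_len]; exact hd)

theorem edges599 : ∀ d < 300000, Edge.EdgeOK data table rank seed d := fun d hd =>
  Edge.okERows_sound data table rank just599 299500 just599_ok (edges598) d (by rw [just599_len]; exact hd)

theorem edges600 : ∀ d < 300500, Edge.EdgeOK data table rank seed d := fun d hd =>
  Edge.okERows_sound data table rank just600 300000 just600_ok (edges599) d (by rw [just600_len]; exact hd)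

theorem edges601 : ∀ d < 301000, Edge.EdgeOK data table rank seed d := fun d hd =>
  Edge.okERows_sound data table rank just601 300500 just601_ok (edges600) d (by rw [just601_len]; exact hd)

theorem edges602 : ∀ d < 301500, Edge.EdgeOK data table rank seed d := fun d hd =>
  Edge.okERows_sound data table rank just602 301000 just602_ok (edges601) d (by rw [just602_len]; exact hd)

theorem edges603 : ∀ d < 302000, Edge.EdgeOK data table rank seed d := fun d hd =>
  Edge.okERows_sound data table rank just603 301500 just603_ok (edges602) d (by rw [just603_len]; exact hd)

theorem edges604 : ∀ d < 302500, Edge.EdgeOK data table rank seed d := fun d hd =>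
  Edge.okERows_sound data table rank just604 302000 just604_ok (edges603) d (by rw [just604_len]; exact hd)

theorem edges605 : ∀ d < 303000, Edge.EdgeOK data table rank seed d := fun d hd =>
  Edge.okERows_sound data table rank just605 302500 just605_ok (edges604) d (by rw [just605_len]; exact hd)

theorem edges606 : ∀ d < 303500, Edge.EdgeOK data table rank seed d := fun d hd =>
  Edge.okERows_sound data table rank just606 303000 just606_ok (edges605) d (by rw [just606_len]; exact hd)

theorem edges607 : ∀ d < 304000, Edge.EdgeOK data table rank seed d := fun d hd =>
  Edge.okERows_sound data table rank just607 303500 just607_ok (edges606) d (by rw [just607_len]; exact hd)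

theorem edges608 : ∀ d < 304500, Edge.EdgeOK data table rank seed d := fun d hd =>
  Edge.okERows_sound data table rank just608 304000 just608_ok (edges607) d (by rw [just608_len]; exact hd)

theorem edges609 : ∀ d < 305000, Edge.EdgeOK data table rank seed d := fun d hd =>
  Edge.okERows_sound data table rank just609 304500 just609_ok (edges608) d (by rw [just609_len]; exact hd)

theorem edges610 : ∀ d < 305500, Edge.EdgeOK data table rank seed d := fun d hd =>
  Edge.okERows_sound data table rank just610 305000 just610_ok (edges609) d (by rw [just610_len]; exact hd)

theorem edges611 : ∀ d < 306000, Edge.EdgeOK data table rank seed d := fun d hd =>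
  Edge.okERows_sound data table rank just611 305500 just611_ok (edges610) d (by rw [just611_len]; exact hd)

theorem edges612 : ∀ d < 306500, Edge.EdgeOK data table rank seed d := fun d hd =>
  Edge.okERows_sound data table rank just612 306000 just612_ok (edges611) d (by rw [just612_len]; exact hd)

theorem edges613 : ∀ d < 306936, Edge.EdgeOK data table rank seed d := fun d hd =>
  Edge.okERows_sound data table rank just613 306500 just613_ok (edges612) d (by rw [just613_len]; exact hd)

theorem edge_ok : ∀ d < table.n, Edge.EdgeOK data table rank seed d := edges613

end CfsgLib.CosetEnum.Fi24Table
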