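/-
Certificate data of the coset table of Fi24.
-/
import Cfsg.Agent.Lib.CosetEnum.PresFi24
import Cfsg.Agent.Lib.CosetEnum.EdgePoints
import Cfsg.Agent.Lib.CosetEnum.Edge
import Cfsg.Agent.Lib.CosetEnum.Fi24Table.Tab0
import Cfsg.Agent.Lib.CosetEnum.Fi24Table.Tab8
import Cfsg.Agent.Lib.CosetEnum.Fi24Table.Tab4
import Cfsg.Agent.Lib.CosetEnum.Fi24Table.Tab12
import Cfsg.Agent.Lib.CosetEnum.Fi24Table.Tab2
import Cfsg.Agent.Lib.CosetEnum.Fi24Table.Tab10
import Cfsg.Agent.Lib.CosetEnum.Fi24Table.Tab6
import Cfsg.Agent.Lib.CosetEnum.Fi24Table.Tab14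
import Cfsg.Agent.Lib.CosetEnum.Fi24Table.Tab1
import Cfsg.Agent.Lib.CosetEnum.Fi24Table.Tab9
import Cfsg.Agent.Lib.CosetEnum.Fi24Table.Tab5
import Cfsg.Agent.Lib.CosetEnum.Fi24Table.Tab13
import Cfsg.Agent.Lib.CosetEnum.Fi24Table.Tab3
import Cfsg.Agent.Lib.CosetEnum.Fi24Table.Tab11
import Cfsg.Agent.Lib.CosetEnum.Fi24Table.Tab7
import Cfsg.Agent.Lib.CosetEnum.Fi24Table.Tab15
import Cfsg.Agent.Lib.CosetEnum.Fi24Table.Rank0
import Cfsg.Agent.Lib.CosetEnum.Fi24Table.Rank8
import Cfsg.Agent.Lib.CosetEnum.Fi24Table.Rank4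
import Cfsg.Agent.Lib.CosetEnum.Fi24Table.Rank12
import Cfsg.Agent.Lib.CosetEnum.Fi24Table.Rank2
import Cfsg.Agent.Lib.CosetEnum.Fi24Table.Rank10
import Cfsg.Agent.Lib.CosetEnum.Fi24Table.Rank6
import Cfsg.Agent.Lib.CosetEnum.Fi24Table.Rank14
import Cfsg.Agent.Lib.CosetEnum.Fi24Table.Rank1
import Cfsg.Agent.Lib.CosetEnum.Fi24Table.Rank9
import Cfsg.Agent.Lib.CosetEnum.Fi24Table.Rank5
import Cfsg.Agent.Lib.CosetEnum.Fi24Table.Rank13
import Cfsg.Agent.Lib.CosetEnum.Fi24Table.Rank3
import Cfsg.Agent.Lib.CosetEnum.Fi24Table.Rank11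
import Cfsg.Agent.Lib.CosetEnum.Fi24Table.Rank7
import Cfsg.Agent.Lib.CosetEnum.Fi24Table.Rank15
import Cfsg.Agent.Lib.CosetEnum.Fi24Table.Par0
import Cfsg.Agent.Lib.CosetEnum.Fi24Table.Par2
import Cfsg.Agent.Lib.CosetEnum.Fi24Table.Par1
import Cfsg.Agent.Lib.CosetEnum.Fi24Table.Par3
import Cfsg.Agent.Lib.CosetEnum.Fi24Table.Idn0
import Cfsg.Agent.Lib.CosetEnum.Fi24Table.Idn2
import Cfsg.Agent.Lib.CosetEnum.Fi24Table.Idn1
import Cfsg.Agent.Lib.CosetEnum.Fi24Table.Idn3
import Cfsg.Agent.Lib.CosetEnum.Fi24Table.E7p0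
import Cfsg.Agent.Lib.CosetEnum.Fi24Table.E7p2
import Cfsg.Agent.Lib.CosetEnum.Fi24Table.E7p1
import Cfsg.Agent.Lib.CosetEnum.Fi24Table.E7p3
import Cfsg.Agent.Lib.CosetEnum.Fi24Table.Zp0
import Cfsg.Agent.Lib.CosetEnum.Fi24Table.Zp2
import Cfsg.Agent.Lib.CosetEnum.Fi24Table.Zp1
import Cfsg.Agent.Lib.CosetEnum.Fi24Table.Zp3

set_option autoImplicit false
set_option Elab.async false
set_option maxRecDepth 1000000

namespace CfsgLib.CosetEnum.Fi24Table

open CfsgLib.CosetEnum

/-- The rows of the table. -/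
noncomputable def tab : Tree :=
  (.node (.node (.node (.node tab0 tab8) (.node tab4 tab12)) (.node (.node tab2 tab10) (.node tab6 tab14))) (.node (.node (.node tab1 tab9) (.node tab5 tab13)) (.node (.node tab3 tab11) (.node tab7 tab15))))

/-- The ranks of the edges. -/
noncomputable def rank : Tree :=
  (.node (.node (.node (.node rank0 rank8) (.node rank4 rank12)) (.node (.node rank2 rank10) (.node rank6 rank14))) (.node (.node (.node rank1 rank9) (.node rank5 rank13)) (.node (.node rank3 rank11) (.node rank7 rank15))))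

/-- The parents. -/
noncomputable def par : Tree :=
  (.node (.node par0 par2) (.node par1 par3))

/-- The representatives. -/
noncomputable def idn : Tree :=
  (.node (.node idn0 idn2) (.node idn1 idn3))

/-- The packed words. -/
noncomputable def words : Tree :=
  (.node (.node (.node (.node (.node (.node (.node (.node (.leaf 0x1) (.leaf 0xa7a7004)) (.node (.leaf 0x8282004) (.leaf 0x4567a234567a234567a234567a234567a234567a234567a0234567a234567a23040))) (.node (.node (.leaf 0xb0b0004) (.leaf 0xa234567a234567a0234567a234567a234567a234567a234567a234567a234567040)) (.leaf 0x9494004))) (.node (.node (.node (.leaf 0x3030004) (.leaf 0x234567a234567a234567a234567a234567a234567a234567a234567a234567a0040)) (.leaf 0x8383004)) (.node (.node (.leaf 0x9191004) (.leaf 0x67a234567a234567a234567a234567a0234567a234567a234567a234567a2345040)) (.leaf 0xb5b5004)))) (.node (.node (.node (.node (.leaf 0x9001) (.leaf 0xb8b8004)) (.node (.leaf 0x434343006) (.leaf 0x34567a234567a234567a234567a234567a234567a234567a234567a0234567a2040)))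 (.node (.node (.leaf 0x5151004) (.leaf 0x7a234567a234567a234567a0234567a234567a234567a234567a234567a23456040)) (.leaf 0x7575004))) (.node (.node (.node (.leaf 0x7070004) (.leaf 0x234567a0234567a234567a234567a234567a234567a234567a234567a234567a040)) (.leaf 0x545454006)) (.node (.node (.leaf 0x4242004) (.leaf 0x567a234567a234567a234567a234567a234567a0234567a234567a234567a234040)) (.leaf 0xa6a6004))))) (.node (.node (.node (.node (.node (.leaf 0x5001) (.leaf 0x989898006)) (.node (.leaf 0xa2a2004) (.leaf 0x7a234567a234567a234567a234567a234567a234567a234567a0234567a23456040))) (.node (.node (.leaf 0x3131004) (.leaf 0x4567a234567a234567a0234567a234567a234567a234567a234567a234567a23040)) (.leaf 0xb4b4004))) (.node (.node (.node (.leaf 0x5050004) (.leaf 0x67a0234567a234567a234567a234567a234567a234567a234567a234567a2345040)) (.leaf 0xa3a3004)) (.node (.node (.leaf 0xb1b1004) (.leaf 0x234567a234567a234567a234567a234567a0234567a234567a234567a234567a040)) (.leaf 0x8686004)))) (.node (.node (.node (.node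 (.leaf 0x101010006) (.leaf 0xb9b9004)) (.node (.leaf 0x6363004) (.leaf 0x67a234567a234567a234567a234567a234567a234567a234567a234567a02345040))) (.node (.node (.leaf 0x7171004) (.leaf 0x34567a234567a234567a234567a0234567a234567a234567a234567a234567a2040)) (.leaf 0x9595004))) (.node (.node (.node (.leaf 0x9090004) (.leaf 0x567a234567a0234567a234567a234567a234567a234567a234567a234567a234040)) (.leaf 0x7474004)) (.node (.node (.leaf 0x6262004) (.leaf 0xa234567a234567a234567a234567a234567a234567a0234567a234567a234567040)) (.leaf 0x878787006)))))) (.node (.node (.node (.node (.node (.node (.leaf 0x3001) (.leaf 0xb7b7004)) (.node (.leaf 0x9292004) (.leaf 0x234567a234567a234567a234567a234567a234567a234567a0234567a234567a040))) (.node (.node (.leaf 0x212121006) (.leaf 0x67a234567a234567a0234567a234567a234567a234567a234567a234567a2345040)) (.leaf 0xa4a4004))) (.node (.node (.node (.leaf 0x4040004) (.leaf 0xa0234567a234567a234567a234567a234567a234567a234567a234567a234567040)) (.leaf 0x9393004)) (.node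 (.node (.leaf 0xa1a1004) (.leaf 0x4567a234567a234567a234567a234567a0234567a234567a234567a234567a23040)) (.leaf 0x767676006)))) (.node (.node (.node (.node (.leaf 0xb001) (.leaf 0xa9a9004)) (.node (.leaf 0x5353004) (.leaf 0xa234567a234567a234567a234567a234567a234567a234567a234567a0234567040))) (.node (.node (.leaf 0x6161004) (.leaf 0x567a234567a234567a234567a0234567a234567a234567a234567a234567a234040)) (.leaf 0x8585004))) (.node (.node (.node (.leaf 0x8080004) (.leaf 0x7a234567a0234567a234567a234567a234567a234567a234567a234567a23456040)) (.leaf 0x6464004)) (.node (.node (.leaf 0x5252004) (.leaf 0x34567a234567a234567a234567a234567a234567a0234567a234567a234567a2040)) (.leaf 0xb6b6004))))) (.node (.node (.node (.node (.node (.leaf 0x7001) (.leaf 0xa8a8004)) (.node (.leaf 0xb2b2004) (.leaf 0x567a234567a234567a234567a234567a234567a234567a234567a0234567a234040))) (.node (.node (.leaf 0x4141004) (.leaf 0x234567a234567a234567a0234567a234567a234567a234567a234567a234567a040)) (.leaf 0x656565006))) (.node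 (.node (.node (.leaf 0x6060004) (.leaf 0x4567a0234567a234567a234567a234567a234567a234567a234567a234567a23040)) (.leaf 0xb3b3004)) (.node (.node (.leaf 0x323232006) (.leaf 0x7a234567a234567a234567a234567a234567a0234567a234567a234567a23456040)) (.leaf 0x9696004)))) (.node (.node (.node (.node (.leaf 0x2020004) (.leaf 0xbababa006)) (.node (.leaf 0x7373004) (.leaf 0x4567a234567a234567a234567a234567a234567a234567a234567a234567a023040))) (.node (.node (.leaf 0x8181004) (.leaf 0xa234567a234567a234567a234567a0234567a234567a234567a234567a234567040)) (.leaf 0xa5a5a5006))) (.node (.node (.node (.leaf 0xa0a0004) (.leaf 0x34567a234567a0234567a234567a234567a234567a234567a234567a234567a2040)) (.leaf 0x8484004)) (.node (.node (.leaf 0x7272004) (.leaf 0x67a234567a234567a234567a234567a234567a234567a0234567a234567a2345040)) (.leaf 0x9797004))))))) (.node (.node (.node (.node (.node (.node (.node (.leaf 0x2001) (.leaf 0x7a7a004)) (.node (.leaf 0x2828004) (.leaf 0x34567a234567a234567a234567a234567a234567a234567a0234567a234567a2040)))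 (.node (.node (.leaf 0xb0b004) (.leaf 0x7a234567a234567a0234567a234567a234567a234567a234567a234567a23456040)) (.leaf 0x4949004))) (.node (.node (.node (.leaf 0x303004) (.leaf 0x234567a234567a234567a234567a234567a234567a234567a234567a234567a040)) (.leaf 0x3838004)) (.node (.node (.leaf 0x1919004) (.leaf 0x567a234567a234567a234567a234567a0234567a234567a234567a234567a234040)) (.leaf 0x5b5b004)))) (.node (.node (.node (.node (.leaf 0xa001) (.leaf 0x8b8b004)) (.node (.leaf 0x343434006) (.leaf 0x234567a234567a234567a234567a234567a234567a234567a234567a0234567a040))) (.node (.node (.leaf 0x1515004) (.leaf 0x67a234567a234567a234567a0234567a234567a234567a234567a234567a2345040)) (.leaf 0x5757004))) (.node (.node (.node (.leaf 0x707004) (.leaf 0xa234567a0234567a234567a234567a234567a234567a234567a234567a234567040)) (.leaf 0x454545006)) (.node (.node (.leaf 0x2424004) (.leaf 0x4567a234567a234567a234567a234567a234567a0234567a234567a234567a23040)) (.leaf 0x6a6a004))))) (.node (.node (.node (.node (.node (.leaf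 0x6001) (.leaf 0x898989006)) (.node (.leaf 0x2a2a004) (.leaf 0x67a234567a234567a234567a234567a234567a234567a234567a0234567a2345040))) (.node (.node (.leaf 0x1313004) (.leaf 0x34567a234567a234567a0234567a234567a234567a234567a234567a234567a2040)) (.leaf 0x4b4b004))) (.node (.node (.node (.leaf 0x505004) (.leaf 0x567a0234567a234567a234567a234567a234567a234567a234567a234567a234040)) (.leaf 0x3a3a004)) (.node (.node (.leaf 0x1b1b004) (.leaf 0xa234567a234567a234567a234567a234567a0234567a234567a234567a234567040)) (.leaf 0x6868004)))) (.node (.node (.node (.node (.leaf 0x10101006) (.leaf 0x9b9b004)) (.node (.leaf 0x3636004) (.leaf 0x567a234567a234567a234567a234567a234567a234567a234567a234567a0234040))) (.node (.node (.leaf 0x1717004) (.leaf 0x234567a234567a234567a234567a0234567a234567a234567a234567a234567a040)) (.leaf 0x5959004))) (.node (.node (.node (.leaf 0x909004) (.leaf 0x4567a234567a0234567a234567a234567a234567a234567a234567a234567a23040)) (.leaf 0x4747004)) (.node (.node (.leaf 0x2626004) (.leaf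 0x7a234567a234567a234567a234567a234567a234567a0234567a234567a23456040)) (.leaf 0x787878006)))))) (.node (.node (.node (.node (.node (.node (.leaf 0x4001) (.leaf 0x7b7b004)) (.node (.leaf 0x2929004) (.leaf 0xa234567a234567a234567a234567a234567a234567a234567a0234567a234567040))) (.node (.node (.leaf 0x121212006) (.leaf 0x567a234567a234567a0234567a234567a234567a234567a234567a234567a234040)) (.leaf 0x4a4a004))) (.node (.node (.node (.leaf 0x404004) (.leaf 0x7a0234567a234567a234567a234567a234567a234567a234567a234567a23456040)) (.leaf 0x3939004)) (.node (.node (.leaf 0x1a1a004) (.leaf 0x34567a234567a234567a234567a234567a0234567a234567a234567a234567a2040)) (.leaf 0x676767006)))) (.node (.node (.node (.node (.leaf 0xba598765012345ba598765012345ba598765012345ba598765012345ba598765012345ba598765012345ba598765012345ba598765012345ba598765012345ba598765012345ba598765012345ba598765012345ba598765012345ba598765012345ba598765012345ba598765012345ba5987650123450ee) (.leaf 0x9a9a004)) (.node (.leaf 0x3535004)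 (.leaf 0x7a234567a234567a234567a234567a234567a234567a234567a234567a023456040))) (.node (.node (.leaf 0x1616004) (.leaf 0x4567a234567a234567a234567a0234567a234567a234567a234567a234567a23040)) (.leaf 0x5858004))) (.node (.node (.node (.leaf 0x808004) (.leaf 0x67a234567a0234567a234567a234567a234567a234567a234567a234567a2345040)) (.leaf 0x4646004)) (.node (.node (.leaf 0x2525004) (.leaf 0x234567a234567a234567a234567a234567a234567a0234567a234567a234567a040)) (.leaf 0x6b6b004))))) (.node (.node (.node (.node (.node (.leaf 0x8001) (.leaf 0x8a8a004)) (.node (.leaf 0x2b2b004) (.leaf 0x4567a234567a234567a234567a234567a234567a234567a234567a0234567a23040))) (.node (.node (.leaf 0x1414004) (.leaf 0xa234567a234567a234567a0234567a234567a234567a234567a234567a234567040)) (.leaf 0x565656006))) (.node (.node (.node (.leaf 0x606004) (.leaf 0x34567a0234567a234567a234567a234567a234567a234567a234567a234567a2040)) (.leaf 0x3b3b004)) (.node (.node (.leaf 0x232323006) (.leaf 0x67a234567a234567a234567a234567a234567a0234567a234567a234567a2345040))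 (.leaf 0x6969004)))) (.node (.node (.node (.node (.leaf 0x202004) (.leaf 0xababab006)) (.node (.leaf 0x3737004) (.leaf 0x34567a234567a234567a234567a234567a234567a234567a234567a234567a02040))) (.node (.node (.leaf 0x1818004) (.leaf 0x7a234567a234567a234567a234567a0234567a234567a234567a234567a23456040)) (.leaf 0x5a5a5a006))) (.node (.node (.node (.leaf 0xa0a004) (.leaf 0x234567a234567a0234567a234567a234567a234567a234567a234567a234567a040)) (.leaf 0x4848004)) (.node (.node (.leaf 0x2727004) (.leaf 0x567a234567a234567a234567a234567a234567a234567a0234567a234567a234040)) (.leaf 0x7979004))))))))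

/-- The certificate. -/
noncomputable def data : Data := ⟨12, .leaf 0, par, words, 12, 208⟩

/-- The table. -/
noncomputable def table : Table := ⟨306936, idn, tab, par⟩

/-- The words generating the subgroup. -/
noncomputable def hw : List (List ℕ) := [[0], [2], [3], [4], [5], [6], [7], [8], [9], [10], [11]] ++ [(List.replicate 17 zWFi24).flatten]

/-- The relators used. -/
noncomputable def rels0 : List (List ℕ) := [[0, 0], [0, 1, 0, 1, 0, 1], [0, 2, 0, 2], [0, 3, 0, 3], [0, 4, 0, 4], [0, 5, 0, 5], [0, 6, 0, 6], [0, 7, 0, 7], [0, 8, 0, 8], [0, 9, 0, 9], [0, 10, 0, 10], [0, 11, 0, 11], [1, 1], [1, 2, 1, 2, 1, 2], [1, 3, 1, 3], [1, 4, 1, 4], [1, 5, 1, 5], [1, 6, 1, 6], [1, 7, 1, 7], [1, 8, 1, 8], [1, 9, 1, 9], [1, 10, 1, 10], [1, 11, 1, 11], [2, 2], [2, 3, 2, 3, 2, 3], [2, 4, 2, 4], [2, 5, 2, 5], [2, 6, 2, 6], [2, 7, 2, 7], [2, 8, 2, 8], [2, 9, 2, 9], [2, 10, 2, 10], [2, 11, 2, 11], [3, 3], [3, 4, 3, 4, 3, 4], [3, 5, 3, 5], [3, 6, 3, 6], [3, 7, 3, 7], [3, 8, 3, 8], [3, 9, 3, 9], [3, 10, 3,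 10], [3, 11, 3, 11], [4, 4], [4, 5, 4, 5, 4, 5], [4, 6, 4, 6], [4, 7, 4, 7], [4, 8, 4, 8], [4, 9, 4, 9], [4, 10, 4, 10], [4, 11, 4, 11], [5, 5], [5, 6, 5, 6, 5, 6], [5, 7, 5, 7], [5, 8, 5, 8], [5, 9, 5, 9], [5, 10, 5, 10, 5, 10], [5, 11, 5, 11], [6, 6], [6, 7, 6, 7, 6, 7], [6, 8, 6, 8], [6, 9, 6, 9], [6, 10, 6, 10], [6, 11, 6, 11], [7, 7], [7, 8, 7, 8, 7, 8], [7, 9, 7, 9], [7, 10, 7, 10], [7, 11, 7, 11], [8, 8], [8, 9, 8, 9, 8, 9], [8, 10, 8, 10], [8, 11, 8, 11], [9, 9], [9, 10, 9, 10], [9, 11, 9, 11], [10, 10], [10, 11, 10, 11, 10, 11], [11, 11]] ++ [[0] ++ (List.replicate 9 e7Fi24).flatten.reverse]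

/-- The origin of the words. -/
noncomputable def rots : List (ℕ × ℕ) := [(0, 0), (1, 0), (2, 0), (3, 0), (4, 0), (5, 0), (6, 0), (7, 0), (8, 0), (9, 0), (10, 0), (11, 0), (1, 0), (1, 1), (2, 0), (2, 1), (3, 0), (3, 1), (4, 0), (4, 1), (5, 0), (5, 1), (6, 0), (6, 1), (7, 0), (7, 1), (8, 0), (8, 1), (9, 0), (9, 1), (10, 0), (10, 1), (11, 0), (11, 1), (13, 0), (13, 1), (14, 0), (14, 1), (15, 0), (15, 1), (16, 0), (16, 1), (17, 0), (17, 1), (18, 0), (18, 1), (19, 0), (19, 1), (20, 0), (20, 1), (21, 0), (21, 1), (22, 0), (22, 1), (24, 0), (24, 1), (25, 0), (25, 1), (26, 0), (26, 1), (27, 0), (27, 1), (28, 0), (28, 1), (29, 0), (29, 1), (30, 0), (30, 1), (31, 0), (31, 1), (32, 0), (32, 1), (34, 0), (34, 1), (35, 0), (35, 1), (36, 0), (36, 1), (37, 0), (37, 1), (38, 0), (38, 1), (39, 0), (39, 1), (40, 0), (40, 1), (41, 0), (41, 1), (43, 0), (43, 1), (44, 0), (44, 1), (45, 0), (45, 1), (46, 0), (46, 1), (47, 0), (47, 1), (48, 0), (48, 1), (49, 0), (49, 1), (51, 0), (51, 1), (52, 0), (52, 1), (53,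 0), (53, 1), (54, 0), (54, 1), (55, 0), (55, 1), (56, 0), (56, 1), (58, 0), (58, 1), (59, 0), (59, 1), (60, 0), (60, 1), (61, 0), (61, 1), (62, 0), (62, 1), (64, 0), (64, 1), (65, 0), (65, 1), (66, 0), (66, 1), (67, 0), (67, 1), (69, 0), (69, 1), (70, 0), (70, 1), (71, 0), (71, 1), (73, 0), (73, 1), (74, 0), (74, 1), (76, 0), (76, 1), (78, 0), (78, 1), (78, 2), (78, 3), (78, 4), (78, 5), (78, 6), (78, 7), (78, 8), (78, 9), (78, 10), (78, 11), (78, 12), (78, 13), (78, 14), (78, 15), (78, 16), (78, 17), (78, 18), (78, 19), (78, 20), (78, 21), (78, 22), (78, 23), (78, 24), (78, 25), (78, 26), (78, 27), (78, 28), (78, 29), (78, 30), (78, 31), (78, 32), (78, 33), (78, 34), (78, 35), (78, 36), (78, 37), (78, 38), (78, 39), (78, 40), (78, 41), (78, 42), (78, 43), (78, 44), (78, 45), (78, 46), (78, 47), (78, 48), (78, 49), (78, 50), (78, 51), (78, 52), (78, 53), (78, 54), (78, 55), (78, 56), (78, 57), (78, 58), (78, 59), (78, 60), (78, 61), (78, 62), (78, 63)]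

/-- The seed edge. -/
noncomputable def seed : ℕ := 4997

/-- The checked relations. -/
noncomputable def fast : FastPoints.Rel where
  cps := [2, 3, 4, 5, 6, 7, 8, 9, 10, 11, 19, 20, 21, 22, 23, 24, 25, 26, 27, 36, 37, 38, 39, 40, 41, 42, 43, 53, 54, 55, 56, 57, 58, 59, 70, 71, 72, 73, 74, 75, 87, 88, 89, 91, 104, 105, 106, 107, 121, 122, 123, 138, 139, 154, 155]
  bps := [1, 18, 35, 52, 69, 86, 90, 103, 120, 137, 171]
  w₁ := e7Fi24
  P₁ := (.node (.node e7p0 e7p2) (.node e7p1 e7p3))
  e₁ := 9
  l₁ := 0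
  w₂ := zWFi24
  P₂ := (.node (.node zp0 zp2) (.node zp1 zp3))
  e₂ := 17

end CfsgLib.CosetEnum.Fi24Table
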