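/-
The representatives of the certified coset table of Fi24 are the identity.
-/
import Cfsg.Agent.Lib.CosetEnum.Fi24Table.Data

set_option autoImplicit false
set_option Elab.async false
set_option maxRecDepth 1000000

namespace CfsgLib.CosetEnum.Fi24Table

open CfsgLib.CosetEnum

/-- The representatives from `lo` on are the points themselves. -/
noncomputable def okId (lo m : ℕ) : Bool :=
  allN m fun i => force (Nat.add lo i) fun d => Nat.beq (table.repr d) d

theorem okId_sound {lo m : ℕ} (h : okId lo m = true) (hlo : ∀ d < lo, table.repr d = d) :
    ∀ d < lo + m, table.repr d = d := by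
  intro d hd
  by_cases hd' : d < lo
  · exact hlo d hd'
  · have := allN_spec (f := fun i => force (Nat.add lo i) fun d => Nat.beq (table.repr d) d) h (d - lo) (by omega)
    rw [force_eq, show Nat.add lo (d - lo) = d by show lo + (d - lo) = d; omega] at this
    exact Nat.eq_of_beq_eq_true this

theorem ids0 : ∀ d < 20000, table.repr d = d :=
  okId_sound (lo := 0) (m := 20000) (by decide +kernel) (fun d hd => absurd hd (Nat.not_lt_zero d))

theorem ids1 : ∀ d < 40000, table.repr d = d :=
  okId_sound (lo := 20000) (m := 20000) (by decide +kernel) (ids0)

theorem ids2 : ∀ d < 60000, table.repr d = d :=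
  okId_sound (lo := 40000) (m := 20000) (by decide +kernel) (ids1)

theorem ids3 : ∀ d < 80000, table.repr d = d :=
  okId_sound (lo := 60000) (m := 20000) (by decide +kernel) (ids2)

theorem ids4 : ∀ d < 100000, table.repr d = d :=
  okId_sound (lo := 80000) (m := 20000) (by decide +kernel) (ids3)

theorem ids5 : ∀ d < 120000, table.repr d = d :=
  okId_sound (lo := 100000) (m := 20000) (by decide +kernel) (ids4)

theorem ids6 : ∀ d < 140000, table.repr d = d :=
  okId_sound (lo := 120000) (m := 20000) (by decide +kernel) (ids5)

theorem ids7 : ∀ d < 160000, table.repr d = d :=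
  okId_sound (lo := 140000) (m := 20000) (by decide +kernel) (ids6)

theorem ids8 : ∀ d < 180000, table.repr d = d :=
  okId_sound (lo := 160000) (m := 20000) (by decide +kernel) (ids7)

theorem ids9 : ∀ d < 200000, table.repr d = d :=
  okId_sound (lo := 180000) (m := 20000) (by decide +kernel) (ids8)

theorem ids10 : ∀ d < 220000, table.repr d = d :=
  okId_sound (lo := 200000) (m := 20000) (by decide +kernel) (ids9)

theorem ids11 : ∀ d < 240000, table.repr d = d :=
  okId_sound (lo := 220000) (m := 20000) (by decide +kernel) (ids10)

theorem ids12 : ∀ d < 260000, table.repr d = d :=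
  okId_sound (lo := 240000) (m := 20000) (by decide +kernel) (ids11)

theorem ids13 : ∀ d < 280000, table.repr d = d :=
  okId_sound (lo := 260000) (m := 20000) (by decide +kernel) (ids12)

theorem ids14 : ∀ d < 300000, table.repr d = d :=
  okId_sound (lo := 280000) (m := 20000) (by decide +kernel) (ids13)

theorem ids15 : ∀ d < 306936, table.repr d = d :=
  okId_sound (lo := 300000) (m := 6936) (by decide +kernel) (ids14)

theorem repr_id : ∀ d < table.n, table.repr d = d := ids15

end CfsgLib.CosetEnum.Fi24Table
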