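/-
Certificate data of the coset table of Fi24.
-/
import Cfsg.Agent.Lib.CosetEnum.Fi24Table.Data

set_option autoImplicit false
set_option Elab.async false
set_option maxRecDepth 1000000

namespace CfsgLib.CosetEnum.Fi24Table

open CfsgLib.CosetEnum

theorem pts0_ok : FastPoints.okPts table 12 fast 0 250 = true := by decide +kernel

theorem pts1_ok : FastPoints.okPts table 12 fast 250 250 = true := by decide +kernel

theorem pts2_ok : FastPoints.okPts table 12 fast 500 250 = true := by decide +kernel

theorem pts3_ok : FastPoints.okPts table 12 fast 750 250 = true := by decide +kernel

theorem pts4_ok : FastPoints.okPts table 12 fast 1000 250 = true := by decide +kernel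

theorem pts5_ok : FastPoints.okPts table 12 fast 1250 250 = true := by decide +kernel

theorem pts6_ok : FastPoints.okPts table 12 fast 1500 250 = true := by decide +kernel

theorem pts7_ok : FastPoints.okPts table 12 fast 1750 250 = true := by decide +kernel

theorem pts8_ok : FastPoints.okPts table 12 fast 2000 250 = true := by decide +kernel

theorem pts9_ok : FastPoints.okPts table 12 fast 2250 250 = true := by decide +kernel

theorem pts10_ok : FastPoints.okPts table 12 fast 2500 250 = true := by decide +kernel

theorem pts11_ok : FastPoints.okPts table 12 fast 2750 250 = true := by decide +kernel

theorem pts12_ok : FastPoints.okPts table 12 fast 3000 250 = true := by decide +kernel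

theorem pts13_ok : FastPoints.okPts table 12 fast 3250 250 = true := by decide +kernel

theorem pts14_ok : FastPoints.okPts table 12 fast 3500 250 = true := by decide +kernel

theorem pts15_ok : FastPoints.okPts table 12 fast 3750 250 = true := by decide +kernel


end CfsgLib.CosetEnum.Fi24Table
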