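/-
Certificate data of the coset table of Fi24.
-/
import Cfsg.Agent.Lib.CosetEnum.Fi24Table.Data

set_option autoImplicit false
set_option Elab.async false
set_option maxRecDepth 1000000

namespace CfsgLib.CosetEnum.Fi24Table

open CfsgLib.CosetEnum

theorem pts16_ok : FastPoints.okPts table 12 fast 4000 250 = true := by decide +kernel

theorem pts17_ok : FastPoints.okPts table 12 fast 4250 250 = true := by decide +kernel

theorem pts18_ok : FastPoints.okPts table 12 fast 4500 250 = true := by decide +kernel

theorem pts19_ok : FastPoints.okPts table 12 fast 4750 250 = true := by decide +kernel

theorem pts20_ok : FastPoints.okPts table 12 fast 5000 250 = true := by decide +kernel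

theorem pts21_ok : FastPoints.okPts table 12 fast 5250 250 = true := by decide +kernel

theorem pts22_ok : FastPoints.okPts table 12 fast 5500 250 = true := by decide +kernel

theorem pts23_ok : FastPoints.okPts table 12 fast 5750 250 = true := by decide +kernel

theorem pts24_ok : FastPoints.okPts table 12 fast 6000 250 = true := by decide +kernel

theorem pts25_ok : FastPoints.okPts table 12 fast 6250 250 = true := by decide +kernel

theorem pts26_ok : FastPoints.okPts table 12 fast 6500 250 = true := by decide +kernel

theorem pts27_ok : FastPoints.okPts table 12 fast 6750 250 = true := by decide +kernel

theorem pts28_ok : FastPoints.okPts table 12 fast 7000 250 = true := by decide +kernel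

theorem pts29_ok : FastPoints.okPts table 12 fast 7250 250 = true := by decide +kernel

theorem pts30_ok : FastPoints.okPts table 12 fast 7500 250 = true := by decide +kernel

theorem pts31_ok : FastPoints.okPts table 12 fast 7750 250 = true := by decide +kernel


end CfsgLib.CosetEnum.Fi24Table
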