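/-
Certificate data of the coset table of Fi24.
-/
import Cfsg.Agent.Lib.CosetEnum.Fi24Table.Data

set_option autoImplicit false
set_option Elab.async false
set_option maxRecDepth 1000000

namespace CfsgLib.CosetEnum.Fi24Table

open CfsgLib.CosetEnum

theorem pts176_ok : FastPoints.okPts table 12 fast 44000 250 = true := by decide +kernel

theorem pts177_ok : FastPoints.okPts table 12 fast 44250 250 = true := by decide +kernel

theorem pts178_ok : FastPoints.okPts table 12 fast 44500 250 = true := by decide +kernel

theorem pts179_ok : FastPoints.okPts table 12 fast 44750 250 = true := by decide +kernel

theorem pts180_ok : FastPoints.okPts table 12 fast 45000 250 = true := by decide +kernel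

theorem pts181_ok : FastPoints.okPts table 12 fast 45250 250 = true := by decide +kernel

theorem pts182_ok : FastPoints.okPts table 12 fast 45500 250 = true := by decide +kernel

theorem pts183_ok : FastPoints.okPts table 12 fast 45750 250 = true := by decide +kernel

theorem pts184_ok : FastPoints.okPts table 12 fast 46000 250 = true := by decide +kernel

theorem pts185_ok : FastPoints.okPts table 12 fast 46250 250 = true := by decide +kernel

theorem pts186_ok : FastPoints.okPts table 12 fast 46500 250 = true := by decide +kernel

theorem pts187_ok : FastPoints.okPts table 12 fast 46750 250 = true := by decide +kernel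

theorem pts188_ok : FastPoints.okPts table 12 fast 47000 250 = true := by decide +kernel

theorem pts189_ok : FastPoints.okPts table 12 fast 47250 250 = true := by decide +kernel

theorem pts190_ok : FastPoints.okPts table 12 fast 47500 250 = true := by decide +kernel

theorem pts191_ok : FastPoints.okPts table 12 fast 47750 250 = true := by decide +kernel


end CfsgLib.CosetEnum.Fi24Table
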