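/-
Certificate data of the coset table of Fi24.
-/
import Cfsg.Agent.Lib.CosetEnum.Fi24Table.Data

set_option autoImplicit false
set_option Elab.async false
set_option maxRecDepth 1000000

namespace CfsgLib.CosetEnum.Fi24Table

open CfsgLib.CosetEnum

theorem pts192_ok : FastPoints.okPts table 12 fast 48000 250 = true := by decide +kernel

theorem pts193_ok : FastPoints.okPts table 12 fast 48250 250 = true := by decide +kernel

theorem pts194_ok : FastPoints.okPts table 12 fast 48500 250 = true := by decide +kernel

theorem pts195_ok : FastPoints.okPts table 12 fast 48750 250 = true := by decide +kernel

theorem pts196_ok : FastPoints.okPts table 12 fast 49000 250 = true := by decide +kernel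

theorem pts197_ok : FastPoints.okPts table 12 fast 49250 250 = true := by decide +kernel

theorem pts198_ok : FastPoints.okPts table 12 fast 49500 250 = true := by decide +kernel

theorem pts199_ok : FastPoints.okPts table 12 fast 49750 250 = true := by decide +kernel

theorem pts200_ok : FastPoints.okPts table 12 fast 50000 250 = true := by decide +kernel

theorem pts201_ok : FastPoints.okPts table 12 fast 50250 250 = true := by decide +kernel

theorem pts202_ok : FastPoints.okPts table 12 fast 50500 250 = true := by decide +kernel

theorem pts203_ok : FastPoints.okPts table 12 fast 50750 250 = true := by decide +kernel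

theorem pts204_ok : FastPoints.okPts table 12 fast 51000 250 = true := by decide +kernel

theorem pts205_ok : FastPoints.okPts table 12 fast 51250 250 = true := by decide +kernel

theorem pts206_ok : FastPoints.okPts table 12 fast 51500 250 = true := by decide +kernel

theorem pts207_ok : FastPoints.okPts table 12 fast 51750 250 = true := by decide +kernel


end CfsgLib.CosetEnum.Fi24Table
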