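/-
Certificate data of the coset table of Fi24.
-/
import Cfsg.Agent.Lib.CosetEnum.Fi24Table.Data

set_option autoImplicit false
set_option Elab.async false
set_option maxRecDepth 1000000

namespace CfsgLib.CosetEnum.Fi24Table

open CfsgLib.CosetEnum

theorem pts208_ok : FastPoints.okPts table 12 fast 52000 250 = true := by decide +kernel

theorem pts209_ok : FastPoints.okPts table 12 fast 52250 250 = true := by decide +kernel

theorem pts210_ok : FastPoints.okPts table 12 fast 52500 250 = true := by decide +kernel

theorem pts211_ok : FastPoints.okPts table 12 fast 52750 250 = true := by decide +kernel

theorem pts212_ok : FastPoints.okPts table 12 fast 53000 250 = true := by decide +kernel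

theorem pts213_ok : FastPoints.okPts table 12 fast 53250 250 = true := by decide +kernel

theorem pts214_ok : FastPoints.okPts table 12 fast 53500 250 = true := by decide +kernel

theorem pts215_ok : FastPoints.okPts table 12 fast 53750 250 = true := by decide +kernel

theorem pts216_ok : FastPoints.okPts table 12 fast 54000 250 = true := by decide +kernel

theorem pts217_ok : FastPoints.okPts table 12 fast 54250 250 = true := by decide +kernel

theorem pts218_ok : FastPoints.okPts table 12 fast 54500 250 = true := by decide +kernel

theorem pts219_ok : FastPoints.okPts table 12 fast 54750 250 = true := by decide +kernel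

theorem pts220_ok : FastPoints.okPts table 12 fast 55000 250 = true := by decide +kernel

theorem pts221_ok : FastPoints.okPts table 12 fast 55250 250 = true := by decide +kernel

theorem pts222_ok : FastPoints.okPts table 12 fast 55500 250 = true := by decide +kernel

theorem pts223_ok : FastPoints.okPts table 12 fast 55750 250 = true := by decide +kernel


end CfsgLib.CosetEnum.Fi24Table
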