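/-
Certificate data of the coset table of Fi24.
-/
import Cfsg.Agent.Lib.CosetEnum.Fi24Table.Data

set_option autoImplicit false
set_option Elab.async false
set_option maxRecDepth 1000000

namespace CfsgLib.CosetEnum.Fi24Table

open CfsgLib.CosetEnum

theorem pts224_ok : FastPoints.okPts table 12 fast 56000 250 = true := by decide +kernel

theorem pts225_ok : FastPoints.okPts table 12 fast 56250 250 = true := by decide +kernel

theorem pts226_ok : FastPoints.okPts table 12 fast 56500 250 = true := by decide +kernel

theorem pts227_ok : FastPoints.okPts table 12 fast 56750 250 = true := by decide +kernel

theorem pts228_ok : FastPoints.okPts table 12 fast 57000 250 = true := by decide +kernel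

theorem pts229_ok : FastPoints.okPts table 12 fast 57250 250 = true := by decide +kernel

theorem pts230_ok : FastPoints.okPts table 12 fast 57500 250 = true := by decide +kernel

theorem pts231_ok : FastPoints.okPts table 12 fast 57750 250 = true := by decide +kernel

theorem pts232_ok : FastPoints.okPts table 12 fast 58000 250 = true := by decide +kernel

theorem pts233_ok : FastPoints.okPts table 12 fast 58250 250 = true := by decide +kernel

theorem pts234_ok : FastPoints.okPts table 12 fast 58500 250 = true := by decide +kernel

theorem pts235_ok : FastPoints.okPts table 12 fast 58750 250 = true := by decide +kernel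

theorem pts236_ok : FastPoints.okPts table 12 fast 59000 250 = true := by decide +kernel

theorem pts237_ok : FastPoints.okPts table 12 fast 59250 250 = true := by decide +kernel

theorem pts238_ok : FastPoints.okPts table 12 fast 59500 250 = true := by decide +kernel

theorem pts239_ok : FastPoints.okPts table 12 fast 59750 250 = true := by decide +kernel


end CfsgLib.CosetEnum.Fi24Table
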