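/-
Certificate data of the coset table of Fi24.
-/
import Cfsg.Agent.Lib.CosetEnum.Fi24Table.Data

set_option autoImplicit false
set_option Elab.async false
set_option maxRecDepth 1000000

namespace CfsgLib.CosetEnum.Fi24Table

open CfsgLib.CosetEnum

theorem pts240_ok : FastPoints.okPts table 12 fast 60000 250 = true := by decide +kernel

theorem pts241_ok : FastPoints.okPts table 12 fast 60250 250 = true := by decide +kernel

theorem pts242_ok : FastPoints.okPts table 12 fast 60500 250 = true := by decide +kernel

theorem pts243_ok : FastPoints.okPts table 12 fast 60750 250 = true := by decide +kernel

theorem pts244_ok : FastPoints.okPts table 12 fast 61000 250 = true := by decide +kernel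

theorem pts245_ok : FastPoints.okPts table 12 fast 61250 250 = true := by decide +kernel

theorem pts246_ok : FastPoints.okPts table 12 fast 61500 250 = true := by decide +kernel

theorem pts247_ok : FastPoints.okPts table 12 fast 61750 250 = true := by decide +kernel

theorem pts248_ok : FastPoints.okPts table 12 fast 62000 250 = true := by decide +kernel

theorem pts249_ok : FastPoints.okPts table 12 fast 62250 250 = true := by decide +kernel

theorem pts250_ok : FastPoints.okPts table 12 fast 62500 250 = true := by decide +kernel

theorem pts251_ok : FastPoints.okPts table 12 fast 62750 250 = true := by decide +kernel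

theorem pts252_ok : FastPoints.okPts table 12 fast 63000 250 = true := by decide +kernel

theorem pts253_ok : FastPoints.okPts table 12 fast 63250 250 = true := by decide +kernel

theorem pts254_ok : FastPoints.okPts table 12 fast 63500 250 = true := by decide +kernel

theorem pts255_ok : FastPoints.okPts table 12 fast 63750 250 = true := by decide +kernel


end CfsgLib.CosetEnum.Fi24Table
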