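/-
Certificate data of the coset table of Fi24.
-/
import Cfsg.Agent.Lib.CosetEnum.Fi24Table.Data

set_option autoImplicit false
set_option Elab.async false
set_option maxRecDepth 1000000

namespace CfsgLib.CosetEnum.Fi24Table

open CfsgLib.CosetEnum

theorem pts256_ok : FastPoints.okPts table 12 fast 64000 250 = true := by decide +kernel

theorem pts257_ok : FastPoints.okPts table 12 fast 64250 250 = true := by decide +kernel

theorem pts258_ok : FastPoints.okPts table 12 fast 64500 250 = true := by decide +kernel

theorem pts259_ok : FastPoints.okPts table 12 fast 64750 250 = true := by decide +kernel

theorem pts260_ok : FastPoints.okPts table 12 fast 65000 250 = true := by decide +kernel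

theorem pts261_ok : FastPoints.okPts table 12 fast 65250 250 = true := by decide +kernel

theorem pts262_ok : FastPoints.okPts table 12 fast 65500 250 = true := by decide +kernel

theorem pts263_ok : FastPoints.okPts table 12 fast 65750 250 = true := by decide +kernel

theorem pts264_ok : FastPoints.okPts table 12 fast 66000 250 = true := by decide +kernel

theorem pts265_ok : FastPoints.okPts table 12 fast 66250 250 = true := by decide +kernel

theorem pts266_ok : FastPoints.okPts table 12 fast 66500 250 = true := by decide +kernel

theorem pts267_ok : FastPoints.okPts table 12 fast 66750 250 = true := by decide +kernel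

theorem pts268_ok : FastPoints.okPts table 12 fast 67000 250 = true := by decide +kernel

theorem pts269_ok : FastPoints.okPts table 12 fast 67250 250 = true := by decide +kernel

theorem pts270_ok : FastPoints.okPts table 12 fast 67500 250 = true := by decide +kernel

theorem pts271_ok : FastPoints.okPts table 12 fast 67750 250 = true := by decide +kernel


end CfsgLib.CosetEnum.Fi24Table
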