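/-
Certificate data of the coset table of Fi24.
-/
import Cfsg.Agent.Lib.CosetEnum.Fi24Table.Data

set_option autoImplicit false
set_option Elab.async false
set_option maxRecDepth 1000000

namespace CfsgLib.CosetEnum.Fi24Table

open CfsgLib.CosetEnum

theorem pts272_ok : FastPoints.okPts table 12 fast 68000 250 = true := by decide +kernel

theorem pts273_ok : FastPoints.okPts table 12 fast 68250 250 = true := by decide +kernel

theorem pts274_ok : FastPoints.okPts table 12 fast 68500 250 = true := by decide +kernel

theorem pts275_ok : FastPoints.okPts table 12 fast 68750 250 = true := by decide +kernel

theorem pts276_ok : FastPoints.okPts table 12 fast 69000 250 = true := by decide +kernel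

theorem pts277_ok : FastPoints.okPts table 12 fast 69250 250 = true := by decide +kernel

theorem pts278_ok : FastPoints.okPts table 12 fast 69500 250 = true := by decide +kernel

theorem pts279_ok : FastPoints.okPts table 12 fast 69750 250 = true := by decide +kernel

theorem pts280_ok : FastPoints.okPts table 12 fast 70000 250 = true := by decide +kernel

theorem pts281_ok : FastPoints.okPts table 12 fast 70250 250 = true := by decide +kernel

theorem pts282_ok : FastPoints.okPts table 12 fast 70500 250 = true := by decide +kernel

theorem pts283_ok : FastPoints.okPts table 12 fast 70750 250 = true := by decide +kernel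

theorem pts284_ok : FastPoints.okPts table 12 fast 71000 250 = true := by decide +kernel

theorem pts285_ok : FastPoints.okPts table 12 fast 71250 250 = true := by decide +kernel

theorem pts286_ok : FastPoints.okPts table 12 fast 71500 250 = true := by decide +kernel

theorem pts287_ok : FastPoints.okPts table 12 fast 71750 250 = true := by decide +kernel


end CfsgLib.CosetEnum.Fi24Table
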