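/-
Certificate data of the coset table of Fi24.
-/
import Cfsg.Agent.Lib.CosetEnum.Fi24Table.Data

set_option autoImplicit false
set_option Elab.async false
set_option maxRecDepth 1000000

namespace CfsgLib.CosetEnum.Fi24Table

open CfsgLib.CosetEnum

theorem pts288_ok : FastPoints.okPts table 12 fast 72000 250 = true := by decide +kernel

theorem pts289_ok : FastPoints.okPts table 12 fast 72250 250 = true := by decide +kernel

theorem pts290_ok : FastPoints.okPts table 12 fast 72500 250 = true := by decide +kernel

theorem pts291_ok : FastPoints.okPts table 12 fast 72750 250 = true := by decide +kernel

theorem pts292_ok : FastPoints.okPts table 12 fast 73000 250 = true := by decide +kernel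

theorem pts293_ok : FastPoints.okPts table 12 fast 73250 250 = true := by decide +kernel

theorem pts294_ok : FastPoints.okPts table 12 fast 73500 250 = true := by decide +kernel

theorem pts295_ok : FastPoints.okPts table 12 fast 73750 250 = true := by decide +kernel

theorem pts296_ok : FastPoints.okPts table 12 fast 74000 250 = true := by decide +kernel

theorem pts297_ok : FastPoints.okPts table 12 fast 74250 250 = true := by decide +kernel

theorem pts298_ok : FastPoints.okPts table 12 fast 74500 250 = true := by decide +kernel

theorem pts299_ok : FastPoints.okPts table 12 fast 74750 250 = true := by decide +kernel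

theorem pts300_ok : FastPoints.okPts table 12 fast 75000 250 = true := by decide +kernel

theorem pts301_ok : FastPoints.okPts table 12 fast 75250 250 = true := by decide +kernel

theorem pts302_ok : FastPoints.okPts table 12 fast 75500 250 = true := by decide +kernel

theorem pts303_ok : FastPoints.okPts table 12 fast 75750 250 = true := by decide +kernel


end CfsgLib.CosetEnum.Fi24Table
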