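/-
Certificate data of the coset table of Fi24.
-/
import Cfsg.Agent.Lib.CosetEnum.Fi24Table.Data

set_option autoImplicit false
set_option Elab.async false
set_option maxRecDepth 1000000

namespace CfsgLib.CosetEnum.Fi24Table

open CfsgLib.CosetEnum

theorem pts304_ok : FastPoints.okPts table 12 fast 76000 250 = true := by decide +kernel

theorem pts305_ok : FastPoints.okPts table 12 fast 76250 250 = true := by decide +kernel

theorem pts306_ok : FastPoints.okPts table 12 fast 76500 250 = true := by decide +kernel

theorem pts307_ok : FastPoints.okPts table 12 fast 76750 250 = true := by decide +kernel

theorem pts308_ok : FastPoints.okPts table 12 fast 77000 250 = true := by decide +kernel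

theorem pts309_ok : FastPoints.okPts table 12 fast 77250 250 = true := by decide +kernel

theorem pts310_ok : FastPoints.okPts table 12 fast 77500 250 = true := by decide +kernel

theorem pts311_ok : FastPoints.okPts table 12 fast 77750 250 = true := by decide +kernel

theorem pts312_ok : FastPoints.okPts table 12 fast 78000 250 = true := by decide +kernel

theorem pts313_ok : FastPoints.okPts table 12 fast 78250 250 = true := by decide +kernel

theorem pts314_ok : FastPoints.okPts table 12 fast 78500 250 = true := by decide +kernel

theorem pts315_ok : FastPoints.okPts table 12 fast 78750 250 = true := by decide +kernel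

theorem pts316_ok : FastPoints.okPts table 12 fast 79000 250 = true := by decide +kernel

theorem pts317_ok : FastPoints.okPts table 12 fast 79250 250 = true := by decide +kernel

theorem pts318_ok : FastPoints.okPts table 12 fast 79500 250 = true := by decide +kernel

theorem pts319_ok : FastPoints.okPts table 12 fast 79750 250 = true := by decide +kernel


end CfsgLib.CosetEnum.Fi24Table
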