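/-
Certificate data of the coset table of Fi24.
-/
import Cfsg.Agent.Lib.CosetEnum.Fi24Table.Data

set_option autoImplicit false
set_option Elab.async false
set_option maxRecDepth 1000000

namespace CfsgLib.CosetEnum.Fi24Table

open CfsgLib.CosetEnum

theorem pts32_ok : FastPoints.okPts table 12 fast 8000 250 = true := by decide +kernel

theorem pts33_ok : FastPoints.okPts table 12 fast 8250 250 = true := by decide +kernel

theorem pts34_ok : FastPoints.okPts table 12 fast 8500 250 = true := by decide +kernel

theorem pts35_ok : FastPoints.okPts table 12 fast 8750 250 = true := by decide +kernel

theorem pts36_ok : FastPoints.okPts table 12 fast 9000 250 = true := by decide +kernel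

theorem pts37_ok : FastPoints.okPts table 12 fast 9250 250 = true := by decide +kernel

theorem pts38_ok : FastPoints.okPts table 12 fast 9500 250 = true := by decide +kernel

theorem pts39_ok : FastPoints.okPts table 12 fast 9750 250 = true := by decide +kernel

theorem pts40_ok : FastPoints.okPts table 12 fast 10000 250 = true := by decide +kernel

theorem pts41_ok : FastPoints.okPts table 12 fast 10250 250 = true := by decide +kernel

theorem pts42_ok : FastPoints.okPts table 12 fast 10500 250 = true := by decide +kernel

theorem pts43_ok : FastPoints.okPts table 12 fast 10750 250 = true := by decide +kernel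

theorem pts44_ok : FastPoints.okPts table 12 fast 11000 250 = true := by decide +kernel

theorem pts45_ok : FastPoints.okPts table 12 fast 11250 250 = true := by decide +kernel

theorem pts46_ok : FastPoints.okPts table 12 fast 11500 250 = true := by decide +kernel

theorem pts47_ok : FastPoints.okPts table 12 fast 11750 250 = true := by decide +kernel


end CfsgLib.CosetEnum.Fi24Table
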