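/-
Certificate data of the coset table of Fi24.
-/
import Cfsg.Agent.Lib.CosetEnum.Fi24Table.Data

set_option autoImplicit false
set_option Elab.async false
set_option maxRecDepth 1000000

namespace CfsgLib.CosetEnum.Fi24Table

open CfsgLib.CosetEnum

theorem pts320_ok : FastPoints.okPts table 12 fast 80000 250 = true := by decide +kernel

theorem pts321_ok : FastPoints.okPts table 12 fast 80250 250 = true := by decide +kernel

theorem pts322_ok : FastPoints.okPts table 12 fast 80500 250 = true := by decide +kernel

theorem pts323_ok : FastPoints.okPts table 12 fast 80750 250 = true := by decide +kernel

theorem pts324_ok : FastPoints.okPts table 12 fast 81000 250 = true := by decide +kernel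

theorem pts325_ok : FastPoints.okPts table 12 fast 81250 250 = true := by decide +kernel

theorem pts326_ok : FastPoints.okPts table 12 fast 81500 250 = true := by decide +kernel

theorem pts327_ok : FastPoints.okPts table 12 fast 81750 250 = true := by decide +kernel

theorem pts328_ok : FastPoints.okPts table 12 fast 82000 250 = true := by decide +kernel

theorem pts329_ok : FastPoints.okPts table 12 fast 82250 250 = true := by decide +kernel

theorem pts330_ok : FastPoints.okPts table 12 fast 82500 250 = true := by decide +kernel

theorem pts331_ok : FastPoints.okPts table 12 fast 82750 250 = true := by decide +kernel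

theorem pts332_ok : FastPoints.okPts table 12 fast 83000 250 = true := by decide +kernel

theorem pts333_ok : FastPoints.okPts table 12 fast 83250 250 = true := by decide +kernel

theorem pts334_ok : FastPoints.okPts table 12 fast 83500 250 = true := by decide +kernel

theorem pts335_ok : FastPoints.okPts table 12 fast 83750 250 = true := by decide +kernel


end CfsgLib.CosetEnum.Fi24Table
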