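/-
Certificate data of the coset table of Fi24.
-/
import Cfsg.Agent.Lib.CosetEnum.Fi24Table.Data

set_option autoImplicit false
set_option Elab.async false
set_option maxRecDepth 1000000

namespace CfsgLib.CosetEnum.Fi24Table

open CfsgLib.CosetEnum

theorem pts336_ok : FastPoints.okPts table 12 fast 84000 250 = true := by decide +kernel

theorem pts337_ok : FastPoints.okPts table 12 fast 84250 250 = true := by decide +kernel

theorem pts338_ok : FastPoints.okPts table 12 fast 84500 250 = true := by decide +kernel

theorem pts339_ok : FastPoints.okPts table 12 fast 84750 250 = true := by decide +kernel

theorem pts340_ok : FastPoints.okPts table 12 fast 85000 250 = true := by decide +kernel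

theorem pts341_ok : FastPoints.okPts table 12 fast 85250 250 = true := by decide +kernel

theorem pts342_ok : FastPoints.okPts table 12 fast 85500 250 = true := by decide +kernel

theorem pts343_ok : FastPoints.okPts table 12 fast 85750 250 = true := by decide +kernel

theorem pts344_ok : FastPoints.okPts table 12 fast 86000 250 = true := by decide +kernel

theorem pts345_ok : FastPoints.okPts table 12 fast 86250 250 = true := by decide +kernel

theorem pts346_ok : FastPoints.okPts table 12 fast 86500 250 = true := by decide +kernel

theorem pts347_ok : FastPoints.okPts table 12 fast 86750 250 = true := by decide +kernel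

theorem pts348_ok : FastPoints.okPts table 12 fast 87000 250 = true := by decide +kernel

theorem pts349_ok : FastPoints.okPts table 12 fast 87250 250 = true := by decide +kernel

theorem pts350_ok : FastPoints.okPts table 12 fast 87500 250 = true := by decide +kernel

theorem pts351_ok : FastPoints.okPts table 12 fast 87750 250 = true := by decide +kernel


end CfsgLib.CosetEnum.Fi24Table
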