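/-
Certificate data of the coset table of Fi24.
-/
import Cfsg.Agent.Lib.CosetEnum.Fi24Table.Data

set_option autoImplicit false
set_option Elab.async false
set_option maxRecDepth 1000000

namespace CfsgLib.CosetEnum.Fi24Table

open CfsgLib.CosetEnum

theorem pts368_ok : FastPoints.okPts table 12 fast 92000 250 = true := by decide +kernel

theorem pts369_ok : FastPoints.okPts table 12 fast 92250 250 = true := by decide +kernel

theorem pts370_ok : FastPoints.okPts table 12 fast 92500 250 = true := by decide +kernel

theorem pts371_ok : FastPoints.okPts table 12 fast 92750 250 = true := by decide +kernel

theorem pts372_ok : FastPoints.okPts table 12 fast 93000 250 = true := by decide +kernel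

theorem pts373_ok : FastPoints.okPts table 12 fast 93250 250 = true := by decide +kernel

theorem pts374_ok : FastPoints.okPts table 12 fast 93500 250 = true := by decide +kernel

theorem pts375_ok : FastPoints.okPts table 12 fast 93750 250 = true := by decide +kernel

theorem pts376_ok : FastPoints.okPts table 12 fast 94000 250 = true := by decide +kernel

theorem pts377_ok : FastPoints.okPts table 12 fast 94250 250 = true := by decide +kernel

theorem pts378_ok : FastPoints.okPts table 12 fast 94500 250 = true := by decide +kernel

theorem pts379_ok : FastPoints.okPts table 12 fast 94750 250 = true := by decide +kernel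

theorem pts380_ok : FastPoints.okPts table 12 fast 95000 250 = true := by decide +kernel

theorem pts381_ok : FastPoints.okPts table 12 fast 95250 250 = true := by decide +kernel

theorem pts382_ok : FastPoints.okPts table 12 fast 95500 250 = true := by decide +kernel

theorem pts383_ok : FastPoints.okPts table 12 fast 95750 250 = true := by decide +kernel


end CfsgLib.CosetEnum.Fi24Table
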