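/-
Certificate data of the coset table of Fi24.
-/
import Cfsg.Agent.Lib.CosetEnum.Fi24Table.Data

set_option autoImplicit false
set_option Elab.async false
set_option maxRecDepth 1000000

namespace CfsgLib.CosetEnum.Fi24Table

open CfsgLib.CosetEnum

theorem pts384_ok : FastPoints.okPts table 12 fast 96000 250 = true := by decide +kernel

theorem pts385_ok : FastPoints.okPts table 12 fast 96250 250 = true := by decide +kernel

theorem pts386_ok : FastPoints.okPts table 12 fast 96500 250 = true := by decide +kernel

theorem pts387_ok : FastPoints.okPts table 12 fast 96750 250 = true := by decide +kernel

theorem pts388_ok : FastPoints.okPts table 12 fast 97000 250 = true := by decide +kernel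

theorem pts389_ok : FastPoints.okPts table 12 fast 97250 250 = true := by decide +kernel

theorem pts390_ok : FastPoints.okPts table 12 fast 97500 250 = true := by decide +kernel

theorem pts391_ok : FastPoints.okPts table 12 fast 97750 250 = true := by decide +kernel

theorem pts392_ok : FastPoints.okPts table 12 fast 98000 250 = true := by decide +kernel

theorem pts393_ok : FastPoints.okPts table 12 fast 98250 250 = true := by decide +kernel

theorem pts394_ok : FastPoints.okPts table 12 fast 98500 250 = true := by decide +kernel

theorem pts395_ok : FastPoints.okPts table 12 fast 98750 250 = true := by decide +kernel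

theorem pts396_ok : FastPoints.okPts table 12 fast 99000 250 = true := by decide +kernel

theorem pts397_ok : FastPoints.okPts table 12 fast 99250 250 = true := by decide +kernel

theorem pts398_ok : FastPoints.okPts table 12 fast 99500 250 = true := by decide +kernel

theorem pts399_ok : FastPoints.okPts table 12 fast 99750 250 = true := by decide +kernel


end CfsgLib.CosetEnum.Fi24Table
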