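/-
Certificate data of the coset table of Fi24.
-/
import Cfsg.Agent.Lib.CosetEnum.Fi24Table.Data

set_option autoImplicit false
set_option Elab.async false
set_option maxRecDepth 1000000

namespace CfsgLib.CosetEnum.Fi24Table

open CfsgLib.CosetEnum

theorem pts400_ok : FastPoints.okPts table 12 fast 100000 250 = true := by decide +kernel

theorem pts401_ok : FastPoints.okPts table 12 fast 100250 250 = true := by decide +kernel

theorem pts402_ok : FastPoints.okPts table 12 fast 100500 250 = true := by decide +kernel

theorem pts403_ok : FastPoints.okPts table 12 fast 100750 250 = true := by decide +kernel

theorem pts404_ok : FastPoints.okPts table 12 fast 101000 250 = true := by decide +kernel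

theorem pts405_ok : FastPoints.okPts table 12 fast 101250 250 = true := by decide +kernel

theorem pts406_ok : FastPoints.okPts table 12 fast 101500 250 = true := by decide +kernel

theorem pts407_ok : FastPoints.okPts table 12 fast 101750 250 = true := by decide +kernel

theorem pts408_ok : FastPoints.okPts table 12 fast 102000 250 = true := by decide +kernel

theorem pts409_ok : FastPoints.okPts table 12 fast 102250 250 = true := by decide +kernel

theorem pts410_ok : FastPoints.okPts table 12 fast 102500 250 = true := by decide +kernel

theorem pts411_ok : FastPoints.okPts table 12 fast 102750 250 = true := by decide +kernel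

theorem pts412_ok : FastPoints.okPts table 12 fast 103000 250 = true := by decide +kernel

theorem pts413_ok : FastPoints.okPts table 12 fast 103250 250 = true := by decide +kernel

theorem pts414_ok : FastPoints.okPts table 12 fast 103500 250 = true := by decide +kernel

theorem pts415_ok : FastPoints.okPts table 12 fast 103750 250 = true := by decide +kernel


end CfsgLib.CosetEnum.Fi24Table
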