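/-
Certificate data of the coset table of Fi24.
-/
import Cfsg.Agent.Lib.CosetEnum.Fi24Table.Data

set_option autoImplicit false
set_option Elab.async false
set_option maxRecDepth 1000000

namespace CfsgLib.CosetEnum.Fi24Table

open CfsgLib.CosetEnum

theorem pts416_ok : FastPoints.okPts table 12 fast 104000 250 = true := by decide +kernel

theorem pts417_ok : FastPoints.okPts table 12 fast 104250 250 = true := by decide +kernel

theorem pts418_ok : FastPoints.okPts table 12 fast 104500 250 = true := by decide +kernel

theorem pts419_ok : FastPoints.okPts table 12 fast 104750 250 = true := by decide +kernel

theorem pts420_ok : FastPoints.okPts table 12 fast 105000 250 = true := by decide +kernel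

theorem pts421_ok : FastPoints.okPts table 12 fast 105250 250 = true := by decide +kernel

theorem pts422_ok : FastPoints.okPts table 12 fast 105500 250 = true := by decide +kernel

theorem pts423_ok : FastPoints.okPts table 12 fast 105750 250 = true := by decide +kernel

theorem pts424_ok : FastPoints.okPts table 12 fast 106000 250 = true := by decide +kernel

theorem pts425_ok : FastPoints.okPts table 12 fast 106250 250 = true := by decide +kernel

theorem pts426_ok : FastPoints.okPts table 12 fast 106500 250 = true := by decide +kernel

theorem pts427_ok : FastPoints.okPts table 12 fast 106750 250 = true := by decide +kernel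

theorem pts428_ok : FastPoints.okPts table 12 fast 107000 250 = true := by decide +kernel

theorem pts429_ok : FastPoints.okPts table 12 fast 107250 250 = true := by decide +kernel

theorem pts430_ok : FastPoints.okPts table 12 fast 107500 250 = true := by decide +kernel

theorem pts431_ok : FastPoints.okPts table 12 fast 107750 250 = true := by decide +kernel


end CfsgLib.CosetEnum.Fi24Table
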