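/-
Certificate data of the coset table of Fi24.
-/
import Cfsg.Agent.Lib.CosetEnum.Fi24Table.Data

set_option autoImplicit false
set_option Elab.async false
set_option maxRecDepth 1000000

namespace CfsgLib.CosetEnum.Fi24Table

open CfsgLib.CosetEnum

theorem pts432_ok : FastPoints.okPts table 12 fast 108000 250 = true := by decide +kernel

theorem pts433_ok : FastPoints.okPts table 12 fast 108250 250 = true := by decide +kernel

theorem pts434_ok : FastPoints.okPts table 12 fast 108500 250 = true := by decide +kernel

theorem pts435_ok : FastPoints.okPts table 12 fast 108750 250 = true := by decide +kernel

theorem pts436_ok : FastPoints.okPts table 12 fast 109000 250 = true := by decide +kernel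

theorem pts437_ok : FastPoints.okPts table 12 fast 109250 250 = true := by decide +kernel

theorem pts438_ok : FastPoints.okPts table 12 fast 109500 250 = true := by decide +kernel

theorem pts439_ok : FastPoints.okPts table 12 fast 109750 250 = true := by decide +kernel

theorem pts440_ok : FastPoints.okPts table 12 fast 110000 250 = true := by decide +kernel

theorem pts441_ok : FastPoints.okPts table 12 fast 110250 250 = true := by decide +kernel

theorem pts442_ok : FastPoints.okPts table 12 fast 110500 250 = true := by decide +kernel

theorem pts443_ok : FastPoints.okPts table 12 fast 110750 250 = true := by decide +kernel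

theorem pts444_ok : FastPoints.okPts table 12 fast 111000 250 = true := by decide +kernel

theorem pts445_ok : FastPoints.okPts table 12 fast 111250 250 = true := by decide +kernel

theorem pts446_ok : FastPoints.okPts table 12 fast 111500 250 = true := by decide +kernel

theorem pts447_ok : FastPoints.okPts table 12 fast 111750 250 = true := by decide +kernel


end CfsgLib.CosetEnum.Fi24Table
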