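/-
Certificate data of the coset table of Fi24.
-/
import Cfsg.Agent.Lib.CosetEnum.Fi24Table.Data

set_option autoImplicit false
set_option Elab.async false
set_option maxRecDepth 1000000

namespace CfsgLib.CosetEnum.Fi24Table

open CfsgLib.CosetEnum

theorem pts448_ok : FastPoints.okPts table 12 fast 112000 250 = true := by decide +kernel

theorem pts449_ok : FastPoints.okPts table 12 fast 112250 250 = true := by decide +kernel

theorem pts450_ok : FastPoints.okPts table 12 fast 112500 250 = true := by decide +kernel

theorem pts451_ok : FastPoints.okPts table 12 fast 112750 250 = true := by decide +kernel

theorem pts452_ok : FastPoints.okPts table 12 fast 113000 250 = true := by decide +kernel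

theorem pts453_ok : FastPoints.okPts table 12 fast 113250 250 = true := by decide +kernel

theorem pts454_ok : FastPoints.okPts table 12 fast 113500 250 = true := by decide +kernel

theorem pts455_ok : FastPoints.okPts table 12 fast 113750 250 = true := by decide +kernel

theorem pts456_ok : FastPoints.okPts table 12 fast 114000 250 = true := by decide +kernel

theorem pts457_ok : FastPoints.okPts table 12 fast 114250 250 = true := by decide +kernel

theorem pts458_ok : FastPoints.okPts table 12 fast 114500 250 = true := by decide +kernel

theorem pts459_ok : FastPoints.okPts table 12 fast 114750 250 = true := by decide +kernel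

theorem pts460_ok : FastPoints.okPts table 12 fast 115000 250 = true := by decide +kernel

theorem pts461_ok : FastPoints.okPts table 12 fast 115250 250 = true := by decide +kernel

theorem pts462_ok : FastPoints.okPts table 12 fast 115500 250 = true := by decide +kernel

theorem pts463_ok : FastPoints.okPts table 12 fast 115750 250 = true := by decide +kernel


end CfsgLib.CosetEnum.Fi24Table
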