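/-
Certificate data of the coset table of Fi24.
-/
import Cfsg.Agent.Lib.CosetEnum.Fi24Table.Data

set_option autoImplicit false
set_option Elab.async false
set_option maxRecDepth 1000000

namespace CfsgLib.CosetEnum.Fi24Table

open CfsgLib.CosetEnum

theorem pts464_ok : FastPoints.okPts table 12 fast 116000 250 = true := by decide +kernel

theorem pts465_ok : FastPoints.okPts table 12 fast 116250 250 = true := by decide +kernel

theorem pts466_ok : FastPoints.okPts table 12 fast 116500 250 = true := by decide +kernel

theorem pts467_ok : FastPoints.okPts table 12 fast 116750 250 = true := by decide +kernel

theorem pts468_ok : FastPoints.okPts table 12 fast 117000 250 = true := by decide +kernel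

theorem pts469_ok : FastPoints.okPts table 12 fast 117250 250 = true := by decide +kernel

theorem pts470_ok : FastPoints.okPts table 12 fast 117500 250 = true := by decide +kernel

theorem pts471_ok : FastPoints.okPts table 12 fast 117750 250 = true := by decide +kernel

theorem pts472_ok : FastPoints.okPts table 12 fast 118000 250 = true := by decide +kernel

theorem pts473_ok : FastPoints.okPts table 12 fast 118250 250 = true := by decide +kernel

theorem pts474_ok : FastPoints.okPts table 12 fast 118500 250 = true := by decide +kernel

theorem pts475_ok : FastPoints.okPts table 12 fast 118750 250 = true := by decide +kernel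

theorem pts476_ok : FastPoints.okPts table 12 fast 119000 250 = true := by decide +kernel

theorem pts477_ok : FastPoints.okPts table 12 fast 119250 250 = true := by decide +kernel

theorem pts478_ok : FastPoints.okPts table 12 fast 119500 250 = true := by decide +kernel

theorem pts479_ok : FastPoints.okPts table 12 fast 119750 250 = true := by decide +kernel


end CfsgLib.CosetEnum.Fi24Table
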