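/-
Certificate data of the coset table of Fi24.
-/
import Cfsg.Agent.Lib.CosetEnum.Fi24Table.Data

set_option autoImplicit false
set_option Elab.async false
set_option maxRecDepth 1000000

namespace CfsgLib.CosetEnum.Fi24Table

open CfsgLib.CosetEnum

theorem pts48_ok : FastPoints.okPts table 12 fast 12000 250 = true := by decide +kernel

theorem pts49_ok : FastPoints.okPts table 12 fast 12250 250 = true := by decide +kernel

theorem pts50_ok : FastPoints.okPts table 12 fast 12500 250 = true := by decide +kernel

theorem pts51_ok : FastPoints.okPts table 12 fast 12750 250 = true := by decide +kernel

theorem pts52_ok : FastPoints.okPts table 12 fast 13000 250 = true := by decide +kernel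

theorem pts53_ok : FastPoints.okPts table 12 fast 13250 250 = true := by decide +kernel

theorem pts54_ok : FastPoints.okPts table 12 fast 13500 250 = true := by decide +kernel

theorem pts55_ok : FastPoints.okPts table 12 fast 13750 250 = true := by decide +kernel

theorem pts56_ok : FastPoints.okPts table 12 fast 14000 250 = true := by decide +kernel

theorem pts57_ok : FastPoints.okPts table 12 fast 14250 250 = true := by decide +kernel

theorem pts58_ok : FastPoints.okPts table 12 fast 14500 250 = true := by decide +kernel

theorem pts59_ok : FastPoints.okPts table 12 fast 14750 250 = true := by decide +kernel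

theorem pts60_ok : FastPoints.okPts table 12 fast 15000 250 = true := by decide +kernel

theorem pts61_ok : FastPoints.okPts table 12 fast 15250 250 = true := by decide +kernel

theorem pts62_ok : FastPoints.okPts table 12 fast 15500 250 = true := by decide +kernel

theorem pts63_ok : FastPoints.okPts table 12 fast 15750 250 = true := by decide +kernel


end CfsgLib.CosetEnum.Fi24Table
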