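/-
Certificate data of the coset table of Fi24.
-/
import Cfsg.Agent.Lib.CosetEnum.Fi24Table.Data

set_option autoImplicit false
set_option Elab.async false
set_option maxRecDepth 1000000

namespace CfsgLib.CosetEnum.Fi24Table

open CfsgLib.CosetEnum

theorem pts480_ok : FastPoints.okPts table 12 fast 120000 250 = true := by decide +kernel

theorem pts481_ok : FastPoints.okPts table 12 fast 120250 250 = true := by decide +kernel

theorem pts482_ok : FastPoints.okPts table 12 fast 120500 250 = true := by decide +kernel

theorem pts483_ok : FastPoints.okPts table 12 fast 120750 250 = true := by decide +kernel

theorem pts484_ok : FastPoints.okPts table 12 fast 121000 250 = true := by decide +kernel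

theorem pts485_ok : FastPoints.okPts table 12 fast 121250 250 = true := by decide +kernel

theorem pts486_ok : FastPoints.okPts table 12 fast 121500 250 = true := by decide +kernel

theorem pts487_ok : FastPoints.okPts table 12 fast 121750 250 = true := by decide +kernel

theorem pts488_ok : FastPoints.okPts table 12 fast 122000 250 = true := by decide +kernel

theorem pts489_ok : FastPoints.okPts table 12 fast 122250 250 = true := by decide +kernel

theorem pts490_ok : FastPoints.okPts table 12 fast 122500 250 = true := by decide +kernel

theorem pts491_ok : FastPoints.okPts table 12 fast 122750 250 = true := by decide +kernel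

theorem pts492_ok : FastPoints.okPts table 12 fast 123000 250 = true := by decide +kernel

theorem pts493_ok : FastPoints.okPts table 12 fast 123250 250 = true := by decide +kernel

theorem pts494_ok : FastPoints.okPts table 12 fast 123500 250 = true := by decide +kernel

theorem pts495_ok : FastPoints.okPts table 12 fast 123750 250 = true := by decide +kernel


end CfsgLib.CosetEnum.Fi24Table
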