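/-
Certificate data of the coset table of Fi24.
-/
import Cfsg.Agent.Lib.CosetEnum.Fi24Table.Data

set_option autoImplicit false
set_option Elab.async false
set_option maxRecDepth 1000000

namespace CfsgLib.CosetEnum.Fi24Table

open CfsgLib.CosetEnum

theorem pts496_ok : FastPoints.okPts table 12 fast 124000 250 = true := by decide +kernel

theorem pts497_ok : FastPoints.okPts table 12 fast 124250 250 = true := by decide +kernel

theorem pts498_ok : FastPoints.okPts table 12 fast 124500 250 = true := by decide +kernel

theorem pts499_ok : FastPoints.okPts table 12 fast 124750 250 = true := by decide +kernel

theorem pts500_ok : FastPoints.okPts table 12 fast 125000 250 = true := by decide +kernel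

theorem pts501_ok : FastPoints.okPts table 12 fast 125250 250 = true := by decide +kernel

theorem pts502_ok : FastPoints.okPts table 12 fast 125500 250 = true := by decide +kernel

theorem pts503_ok : FastPoints.okPts table 12 fast 125750 250 = true := by decide +kernel

theorem pts504_ok : FastPoints.okPts table 12 fast 126000 250 = true := by decide +kernel

theorem pts505_ok : FastPoints.okPts table 12 fast 126250 250 = true := by decide +kernel

theorem pts506_ok : FastPoints.okPts table 12 fast 126500 250 = true := by decide +kernel

theorem pts507_ok : FastPoints.okPts table 12 fast 126750 250 = true := by decide +kernel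

theorem pts508_ok : FastPoints.okPts table 12 fast 127000 250 = true := by decide +kernel

theorem pts509_ok : FastPoints.okPts table 12 fast 127250 250 = true := by decide +kernel

theorem pts510_ok : FastPoints.okPts table 12 fast 127500 250 = true := by decide +kernel

theorem pts511_ok : FastPoints.okPts table 12 fast 127750 250 = true := by decide +kernel


end CfsgLib.CosetEnum.Fi24Table
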