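/-
Certificate data of the coset table of Fi24.
-/
import Cfsg.Agent.Lib.CosetEnum.Fi24Table.Data

set_option autoImplicit false
set_option Elab.async false
set_option maxRecDepth 1000000

namespace CfsgLib.CosetEnum.Fi24Table

open CfsgLib.CosetEnum

theorem pts512_ok : FastPoints.okPts table 12 fast 128000 250 = true := by decide +kernel

theorem pts513_ok : FastPoints.okPts table 12 fast 128250 250 = true := by decide +kernel

theorem pts514_ok : FastPoints.okPts table 12 fast 128500 250 = true := by decide +kernel

theorem pts515_ok : FastPoints.okPts table 12 fast 128750 250 = true := by decide +kernel

theorem pts516_ok : FastPoints.okPts table 12 fast 129000 250 = true := by decide +kernel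

theorem pts517_ok : FastPoints.okPts table 12 fast 129250 250 = true := by decide +kernel

theorem pts518_ok : FastPoints.okPts table 12 fast 129500 250 = true := by decide +kernel

theorem pts519_ok : FastPoints.okPts table 12 fast 129750 250 = true := by decide +kernel

theorem pts520_ok : FastPoints.okPts table 12 fast 130000 250 = true := by decide +kernel

theorem pts521_ok : FastPoints.okPts table 12 fast 130250 250 = true := by decide +kernel

theorem pts522_ok : FastPoints.okPts table 12 fast 130500 250 = true := by decide +kernel

theorem pts523_ok : FastPoints.okPts table 12 fast 130750 250 = true := by decide +kernel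

theorem pts524_ok : FastPoints.okPts table 12 fast 131000 250 = true := by decide +kernel

theorem pts525_ok : FastPoints.okPts table 12 fast 131250 250 = true := by decide +kernel

theorem pts526_ok : FastPoints.okPts table 12 fast 131500 250 = true := by decide +kernel

theorem pts527_ok : FastPoints.okPts table 12 fast 131750 250 = true := by decide +kernel


end CfsgLib.CosetEnum.Fi24Table
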