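/-
Certificate data of the coset table of Fi24.
-/
import Cfsg.Agent.Lib.CosetEnum.Fi24Table.Data

set_option autoImplicit false
set_option Elab.async false
set_option maxRecDepth 1000000

namespace CfsgLib.CosetEnum.Fi24Table

open CfsgLib.CosetEnum

theorem pts528_ok : FastPoints.okPts table 12 fast 132000 250 = true := by decide +kernel

theorem pts529_ok : FastPoints.okPts table 12 fast 132250 250 = true := by decide +kernel

theorem pts530_ok : FastPoints.okPts table 12 fast 132500 250 = true := by decide +kernel

theorem pts531_ok : FastPoints.okPts table 12 fast 132750 250 = true := by decide +kernel

theorem pts532_ok : FastPoints.okPts table 12 fast 133000 250 = true := by decide +kernel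

theorem pts533_ok : FastPoints.okPts table 12 fast 133250 250 = true := by decide +kernel

theorem pts534_ok : FastPoints.okPts table 12 fast 133500 250 = true := by decide +kernel

theorem pts535_ok : FastPoints.okPts table 12 fast 133750 250 = true := by decide +kernel

theorem pts536_ok : FastPoints.okPts table 12 fast 134000 250 = true := by decide +kernel

theorem pts537_ok : FastPoints.okPts table 12 fast 134250 250 = true := by decide +kernel

theorem pts538_ok : FastPoints.okPts table 12 fast 134500 250 = true := by decide +kernel

theorem pts539_ok : FastPoints.okPts table 12 fast 134750 250 = true := by decide +kernel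

theorem pts540_ok : FastPoints.okPts table 12 fast 135000 250 = true := by decide +kernel

theorem pts541_ok : FastPoints.okPts table 12 fast 135250 250 = true := by decide +kernel

theorem pts542_ok : FastPoints.okPts table 12 fast 135500 250 = true := by decide +kernel

theorem pts543_ok : FastPoints.okPts table 12 fast 135750 250 = true := by decide +kernel


end CfsgLib.CosetEnum.Fi24Table
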