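/-
Certificate data of the coset table of Fi24.
-/
import Cfsg.Agent.Lib.CosetEnum.Fi24Table.Data

set_option autoImplicit false
set_option Elab.async false
set_option maxRecDepth 1000000

namespace CfsgLib.CosetEnum.Fi24Table

open CfsgLib.CosetEnum

theorem pts560_ok : FastPoints.okPts table 12 fast 140000 250 = true := by decide +kernel

theorem pts561_ok : FastPoints.okPts table 12 fast 140250 250 = true := by decide +kernel

theorem pts562_ok : FastPoints.okPts table 12 fast 140500 250 = true := by decide +kernel

theorem pts563_ok : FastPoints.okPts table 12 fast 140750 250 = true := by decide +kernel

theorem pts564_ok : FastPoints.okPts table 12 fast 141000 250 = true := by decide +kernel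

theorem pts565_ok : FastPoints.okPts table 12 fast 141250 250 = true := by decide +kernel

theorem pts566_ok : FastPoints.okPts table 12 fast 141500 250 = true := by decide +kernel

theorem pts567_ok : FastPoints.okPts table 12 fast 141750 250 = true := by decide +kernel

theorem pts568_ok : FastPoints.okPts table 12 fast 142000 250 = true := by decide +kernel

theorem pts569_ok : FastPoints.okPts table 12 fast 142250 250 = true := by decide +kernel

theorem pts570_ok : FastPoints.okPts table 12 fast 142500 250 = true := by decide +kernel

theorem pts571_ok : FastPoints.okPts table 12 fast 142750 250 = true := by decide +kernel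

theorem pts572_ok : FastPoints.okPts table 12 fast 143000 250 = true := by decide +kernel

theorem pts573_ok : FastPoints.okPts table 12 fast 143250 250 = true := by decide +kernel

theorem pts574_ok : FastPoints.okPts table 12 fast 143500 250 = true := by decide +kernel

theorem pts575_ok : FastPoints.okPts table 12 fast 143750 250 = true := by decide +kernel


end CfsgLib.CosetEnum.Fi24Table
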