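/-
Certificate data of the coset table of Fi24.
-/
import Cfsg.Agent.Lib.CosetEnum.Fi24Table.Data

set_option autoImplicit false
set_option Elab.async false
set_option maxRecDepth 1000000

namespace CfsgLib.CosetEnum.Fi24Table

open CfsgLib.CosetEnum

theorem pts576_ok : FastPoints.okPts table 12 fast 144000 250 = true := by decide +kernel

theorem pts577_ok : FastPoints.okPts table 12 fast 144250 250 = true := by decide +kernel

theorem pts578_ok : FastPoints.okPts table 12 fast 144500 250 = true := by decide +kernel

theorem pts579_ok : FastPoints.okPts table 12 fast 144750 250 = true := by decide +kernel

theorem pts580_ok : FastPoints.okPts table 12 fast 145000 250 = true := by decide +kernel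

theorem pts581_ok : FastPoints.okPts table 12 fast 145250 250 = true := by decide +kernel

theorem pts582_ok : FastPoints.okPts table 12 fast 145500 250 = true := by decide +kernel

theorem pts583_ok : FastPoints.okPts table 12 fast 145750 250 = true := by decide +kernel

theorem pts584_ok : FastPoints.okPts table 12 fast 146000 250 = true := by decide +kernel

theorem pts585_ok : FastPoints.okPts table 12 fast 146250 250 = true := by decide +kernel

theorem pts586_ok : FastPoints.okPts table 12 fast 146500 250 = true := by decide +kernel

theorem pts587_ok : FastPoints.okPts table 12 fast 146750 250 = true := by decide +kernel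

theorem pts588_ok : FastPoints.okPts table 12 fast 147000 250 = true := by decide +kernel

theorem pts589_ok : FastPoints.okPts table 12 fast 147250 250 = true := by decide +kernel

theorem pts590_ok : FastPoints.okPts table 12 fast 147500 250 = true := by decide +kernel

theorem pts591_ok : FastPoints.okPts table 12 fast 147750 250 = true := by decide +kernel


end CfsgLib.CosetEnum.Fi24Table
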