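/-
Certificate data of the coset table of Fi24.
-/
import Cfsg.Agent.Lib.CosetEnum.Fi24Table.Data

set_option autoImplicit false
set_option Elab.async false
set_option maxRecDepth 1000000

namespace CfsgLib.CosetEnum.Fi24Table

open CfsgLib.CosetEnum

theorem pts592_ok : FastPoints.okPts table 12 fast 148000 250 = true := by decide +kernel

theorem pts593_ok : FastPoints.okPts table 12 fast 148250 250 = true := by decide +kernel

theorem pts594_ok : FastPoints.okPts table 12 fast 148500 250 = true := by decide +kernel

theorem pts595_ok : FastPoints.okPts table 12 fast 148750 250 = true := by decide +kernel

theorem pts596_ok : FastPoints.okPts table 12 fast 149000 250 = true := by decide +kernel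

theorem pts597_ok : FastPoints.okPts table 12 fast 149250 250 = true := by decide +kernel

theorem pts598_ok : FastPoints.okPts table 12 fast 149500 250 = true := by decide +kernel

theorem pts599_ok : FastPoints.okPts table 12 fast 149750 250 = true := by decide +kernel

theorem pts600_ok : FastPoints.okPts table 12 fast 150000 250 = true := by decide +kernel

theorem pts601_ok : FastPoints.okPts table 12 fast 150250 250 = true := by decide +kernel

theorem pts602_ok : FastPoints.okPts table 12 fast 150500 250 = true := by decide +kernel

theorem pts603_ok : FastPoints.okPts table 12 fast 150750 250 = true := by decide +kernel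

theorem pts604_ok : FastPoints.okPts table 12 fast 151000 250 = true := by decide +kernel

theorem pts605_ok : FastPoints.okPts table 12 fast 151250 250 = true := by decide +kernel

theorem pts606_ok : FastPoints.okPts table 12 fast 151500 250 = true := by decide +kernel

theorem pts607_ok : FastPoints.okPts table 12 fast 151750 250 = true := by decide +kernel


end CfsgLib.CosetEnum.Fi24Table
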