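/-
Certificate data of the coset table of Fi24.
-/
import Cfsg.Agent.Lib.CosetEnum.Fi24Table.Data

set_option autoImplicit false
set_option Elab.async false
set_option maxRecDepth 1000000

namespace CfsgLib.CosetEnum.Fi24Table

open CfsgLib.CosetEnum

theorem pts608_ok : FastPoints.okPts table 12 fast 152000 250 = true := by decide +kernel

theorem pts609_ok : FastPoints.okPts table 12 fast 152250 250 = true := by decide +kernel

theorem pts610_ok : FastPoints.okPts table 12 fast 152500 250 = true := by decide +kernel

theorem pts611_ok : FastPoints.okPts table 12 fast 152750 250 = true := by decide +kernel

theorem pts612_ok : FastPoints.okPts table 12 fast 153000 250 = true := by decide +kernel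

theorem pts613_ok : FastPoints.okPts table 12 fast 153250 250 = true := by decide +kernel

theorem pts614_ok : FastPoints.okPts table 12 fast 153500 250 = true := by decide +kernel

theorem pts615_ok : FastPoints.okPts table 12 fast 153750 250 = true := by decide +kernel

theorem pts616_ok : FastPoints.okPts table 12 fast 154000 250 = true := by decide +kernel

theorem pts617_ok : FastPoints.okPts table 12 fast 154250 250 = true := by decide +kernel

theorem pts618_ok : FastPoints.okPts table 12 fast 154500 250 = true := by decide +kernel

theorem pts619_ok : FastPoints.okPts table 12 fast 154750 250 = true := by decide +kernel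

theorem pts620_ok : FastPoints.okPts table 12 fast 155000 250 = true := by decide +kernel

theorem pts621_ok : FastPoints.okPts table 12 fast 155250 250 = true := by decide +kernel

theorem pts622_ok : FastPoints.okPts table 12 fast 155500 250 = true := by decide +kernel

theorem pts623_ok : FastPoints.okPts table 12 fast 155750 250 = true := by decide +kernel


end CfsgLib.CosetEnum.Fi24Table
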