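/-
Certificate data of the coset table of Fi24.
-/
import Cfsg.Agent.Lib.CosetEnum.Fi24Table.Data

set_option autoImplicit false
set_option Elab.async false
set_option maxRecDepth 1000000

namespace CfsgLib.CosetEnum.Fi24Table

open CfsgLib.CosetEnum

theorem pts624_ok : FastPoints.okPts table 12 fast 156000 250 = true := by decide +kernel

theorem pts625_ok : FastPoints.okPts table 12 fast 156250 250 = true := by decide +kernel

theorem pts626_ok : FastPoints.okPts table 12 fast 156500 250 = true := by decide +kernel

theorem pts627_ok : FastPoints.okPts table 12 fast 156750 250 = true := by decide +kernel

theorem pts628_ok : FastPoints.okPts table 12 fast 157000 250 = true := by decide +kernel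

theorem pts629_ok : FastPoints.okPts table 12 fast 157250 250 = true := by decide +kernel

theorem pts630_ok : FastPoints.okPts table 12 fast 157500 250 = true := by decide +kernel

theorem pts631_ok : FastPoints.okPts table 12 fast 157750 250 = true := by decide +kernel

theorem pts632_ok : FastPoints.okPts table 12 fast 158000 250 = true := by decide +kernel

theorem pts633_ok : FastPoints.okPts table 12 fast 158250 250 = true := by decide +kernel

theorem pts634_ok : FastPoints.okPts table 12 fast 158500 250 = true := by decide +kernel

theorem pts635_ok : FastPoints.okPts table 12 fast 158750 250 = true := by decide +kernel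

theorem pts636_ok : FastPoints.okPts table 12 fast 159000 250 = true := by decide +kernel

theorem pts637_ok : FastPoints.okPts table 12 fast 159250 250 = true := by decide +kernel

theorem pts638_ok : FastPoints.okPts table 12 fast 159500 250 = true := by decide +kernel

theorem pts639_ok : FastPoints.okPts table 12 fast 159750 250 = true := by decide +kernel


end CfsgLib.CosetEnum.Fi24Table
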