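/-
Certificate data of the coset table of Fi24.
-/
import Cfsg.Agent.Lib.CosetEnum.Fi24Table.Data

set_option autoImplicit false
set_option Elab.async false
set_option maxRecDepth 1000000

namespace CfsgLib.CosetEnum.Fi24Table

open CfsgLib.CosetEnum

theorem pts64_ok : FastPoints.okPts table 12 fast 16000 250 = true := by decide +kernel

theorem pts65_ok : FastPoints.okPts table 12 fast 16250 250 = true := by decide +kernel

theorem pts66_ok : FastPoints.okPts table 12 fast 16500 250 = true := by decide +kernel

theorem pts67_ok : FastPoints.okPts table 12 fast 16750 250 = true := by decide +kernel

theorem pts68_ok : FastPoints.okPts table 12 fast 17000 250 = true := by decide +kernel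

theorem pts69_ok : FastPoints.okPts table 12 fast 17250 250 = true := by decide +kernel

theorem pts70_ok : FastPoints.okPts table 12 fast 17500 250 = true := by decide +kernel

theorem pts71_ok : FastPoints.okPts table 12 fast 17750 250 = true := by decide +kernel

theorem pts72_ok : FastPoints.okPts table 12 fast 18000 250 = true := by decide +kernel

theorem pts73_ok : FastPoints.okPts table 12 fast 18250 250 = true := by decide +kernel

theorem pts74_ok : FastPoints.okPts table 12 fast 18500 250 = true := by decide +kernel

theorem pts75_ok : FastPoints.okPts table 12 fast 18750 250 = true := by decide +kernel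

theorem pts76_ok : FastPoints.okPts table 12 fast 19000 250 = true := by decide +kernel

theorem pts77_ok : FastPoints.okPts table 12 fast 19250 250 = true := by decide +kernel

theorem pts78_ok : FastPoints.okPts table 12 fast 19500 250 = true := by decide +kernel

theorem pts79_ok : FastPoints.okPts table 12 fast 19750 250 = true := by decide +kernel


end CfsgLib.CosetEnum.Fi24Table
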