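/-
Certificate data of the coset table of Fi24.
-/
import Cfsg.Agent.Lib.CosetEnum.Fi24Table.Data

set_option autoImplicit false
set_option Elab.async false
set_option maxRecDepth 1000000

namespace CfsgLib.CosetEnum.Fi24Table

open CfsgLib.CosetEnum

theorem pts640_ok : FastPoints.okPts table 12 fast 160000 250 = true := by decide +kernel

theorem pts641_ok : FastPoints.okPts table 12 fast 160250 250 = true := by decide +kernel

theorem pts642_ok : FastPoints.okPts table 12 fast 160500 250 = true := by decide +kernel

theorem pts643_ok : FastPoints.okPts table 12 fast 160750 250 = true := by decide +kernel

theorem pts644_ok : FastPoints.okPts table 12 fast 161000 250 = true := by decide +kernel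

theorem pts645_ok : FastPoints.okPts table 12 fast 161250 250 = true := by decide +kernel

theorem pts646_ok : FastPoints.okPts table 12 fast 161500 250 = true := by decide +kernel

theorem pts647_ok : FastPoints.okPts table 12 fast 161750 250 = true := by decide +kernel

theorem pts648_ok : FastPoints.okPts table 12 fast 162000 250 = true := by decide +kernel

theorem pts649_ok : FastPoints.okPts table 12 fast 162250 250 = true := by decide +kernel

theorem pts650_ok : FastPoints.okPts table 12 fast 162500 250 = true := by decide +kernel

theorem pts651_ok : FastPoints.okPts table 12 fast 162750 250 = true := by decide +kernel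

theorem pts652_ok : FastPoints.okPts table 12 fast 163000 250 = true := by decide +kernel

theorem pts653_ok : FastPoints.okPts table 12 fast 163250 250 = true := by decide +kernel

theorem pts654_ok : FastPoints.okPts table 12 fast 163500 250 = true := by decide +kernel

theorem pts655_ok : FastPoints.okPts table 12 fast 163750 250 = true := by decide +kernel


end CfsgLib.CosetEnum.Fi24Table
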