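/-
Certificate data of the coset table of Fi24.
-/
import Cfsg.Agent.Lib.CosetEnum.Fi24Table.Data

set_option autoImplicit false
set_option Elab.async false
set_option maxRecDepth 1000000

namespace CfsgLib.CosetEnum.Fi24Table

open CfsgLib.CosetEnum

theorem pts656_ok : FastPoints.okPts table 12 fast 164000 250 = true := by decide +kernel

theorem pts657_ok : FastPoints.okPts table 12 fast 164250 250 = true := by decide +kernel

theorem pts658_ok : FastPoints.okPts table 12 fast 164500 250 = true := by decide +kernel

theorem pts659_ok : FastPoints.okPts table 12 fast 164750 250 = true := by decide +kernel

theorem pts660_ok : FastPoints.okPts table 12 fast 165000 250 = true := by decide +kernel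

theorem pts661_ok : FastPoints.okPts table 12 fast 165250 250 = true := by decide +kernel

theorem pts662_ok : FastPoints.okPts table 12 fast 165500 250 = true := by decide +kernel

theorem pts663_ok : FastPoints.okPts table 12 fast 165750 250 = true := by decide +kernel

theorem pts664_ok : FastPoints.okPts table 12 fast 166000 250 = true := by decide +kernel

theorem pts665_ok : FastPoints.okPts table 12 fast 166250 250 = true := by decide +kernel

theorem pts666_ok : FastPoints.okPts table 12 fast 166500 250 = true := by decide +kernel

theorem pts667_ok : FastPoints.okPts table 12 fast 166750 250 = true := by decide +kernel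

theorem pts668_ok : FastPoints.okPts table 12 fast 167000 250 = true := by decide +kernel

theorem pts669_ok : FastPoints.okPts table 12 fast 167250 250 = true := by decide +kernel

theorem pts670_ok : FastPoints.okPts table 12 fast 167500 250 = true := by decide +kernel

theorem pts671_ok : FastPoints.okPts table 12 fast 167750 250 = true := by decide +kernel


end CfsgLib.CosetEnum.Fi24Table
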