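/-
Certificate data of the coset table of Fi24.
-/
import Cfsg.Agent.Lib.CosetEnum.Fi24Table.Data

set_option autoImplicit false
set_option Elab.async false
set_option maxRecDepth 1000000

namespace CfsgLib.CosetEnum.Fi24Table

open CfsgLib.CosetEnum

theorem pts672_ok : FastPoints.okPts table 12 fast 168000 250 = true := by decide +kernel

theorem pts673_ok : FastPoints.okPts table 12 fast 168250 250 = true := by decide +kernel

theorem pts674_ok : FastPoints.okPts table 12 fast 168500 250 = true := by decide +kernel

theorem pts675_ok : FastPoints.okPts table 12 fast 168750 250 = true := by decide +kernel

theorem pts676_ok : FastPoints.okPts table 12 fast 169000 250 = true := by decide +kernel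

theorem pts677_ok : FastPoints.okPts table 12 fast 169250 250 = true := by decide +kernel

theorem pts678_ok : FastPoints.okPts table 12 fast 169500 250 = true := by decide +kernel

theorem pts679_ok : FastPoints.okPts table 12 fast 169750 250 = true := by decide +kernel

theorem pts680_ok : FastPoints.okPts table 12 fast 170000 250 = true := by decide +kernel

theorem pts681_ok : FastPoints.okPts table 12 fast 170250 250 = true := by decide +kernel

theorem pts682_ok : FastPoints.okPts table 12 fast 170500 250 = true := by decide +kernel

theorem pts683_ok : FastPoints.okPts table 12 fast 170750 250 = true := by decide +kernel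

theorem pts684_ok : FastPoints.okPts table 12 fast 171000 250 = true := by decide +kernel

theorem pts685_ok : FastPoints.okPts table 12 fast 171250 250 = true := by decide +kernel

theorem pts686_ok : FastPoints.okPts table 12 fast 171500 250 = true := by decide +kernel

theorem pts687_ok : FastPoints.okPts table 12 fast 171750 250 = true := by decide +kernel


end CfsgLib.CosetEnum.Fi24Table
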