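/-
Certificate data of the coset table of Fi24.
-/
import Cfsg.Agent.Lib.CosetEnum.Fi24Table.Data

set_option autoImplicit false
set_option Elab.async false
set_option maxRecDepth 1000000

namespace CfsgLib.CosetEnum.Fi24Table

open CfsgLib.CosetEnum

theorem pts688_ok : FastPoints.okPts table 12 fast 172000 250 = true := by decide +kernel

theorem pts689_ok : FastPoints.okPts table 12 fast 172250 250 = true := by decide +kernel

theorem pts690_ok : FastPoints.okPts table 12 fast 172500 250 = true := by decide +kernel

theorem pts691_ok : FastPoints.okPts table 12 fast 172750 250 = true := by decide +kernel

theorem pts692_ok : FastPoints.okPts table 12 fast 173000 250 = true := by decide +kernel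

theorem pts693_ok : FastPoints.okPts table 12 fast 173250 250 = true := by decide +kernel

theorem pts694_ok : FastPoints.okPts table 12 fast 173500 250 = true := by decide +kernel

theorem pts695_ok : FastPoints.okPts table 12 fast 173750 250 = true := by decide +kernel

theorem pts696_ok : FastPoints.okPts table 12 fast 174000 250 = true := by decide +kernel

theorem pts697_ok : FastPoints.okPts table 12 fast 174250 250 = true := by decide +kernel

theorem pts698_ok : FastPoints.okPts table 12 fast 174500 250 = true := by decide +kernel

theorem pts699_ok : FastPoints.okPts table 12 fast 174750 250 = true := by decide +kernel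

theorem pts700_ok : FastPoints.okPts table 12 fast 175000 250 = true := by decide +kernel

theorem pts701_ok : FastPoints.okPts table 12 fast 175250 250 = true := by decide +kernel

theorem pts702_ok : FastPoints.okPts table 12 fast 175500 250 = true := by decide +kernel

theorem pts703_ok : FastPoints.okPts table 12 fast 175750 250 = true := by decide +kernel


end CfsgLib.CosetEnum.Fi24Table
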