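/-
Certificate data of the coset table of Fi24.
-/
import Cfsg.Agent.Lib.CosetEnum.Fi24Table.Data

set_option autoImplicit false
set_option Elab.async false
set_option maxRecDepth 1000000

namespace CfsgLib.CosetEnum.Fi24Table

open CfsgLib.CosetEnum

theorem pts704_ok : FastPoints.okPts table 12 fast 176000 250 = true := by decide +kernel

theorem pts705_ok : FastPoints.okPts table 12 fast 176250 250 = true := by decide +kernel

theorem pts706_ok : FastPoints.okPts table 12 fast 176500 250 = true := by decide +kernel

theorem pts707_ok : FastPoints.okPts table 12 fast 176750 250 = true := by decide +kernel

theorem pts708_ok : FastPoints.okPts table 12 fast 177000 250 = true := by decide +kernel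

theorem pts709_ok : FastPoints.okPts table 12 fast 177250 250 = true := by decide +kernel

theorem pts710_ok : FastPoints.okPts table 12 fast 177500 250 = true := by decide +kernel

theorem pts711_ok : FastPoints.okPts table 12 fast 177750 250 = true := by decide +kernel

theorem pts712_ok : FastPoints.okPts table 12 fast 178000 250 = true := by decide +kernel

theorem pts713_ok : FastPoints.okPts table 12 fast 178250 250 = true := by decide +kernel

theorem pts714_ok : FastPoints.okPts table 12 fast 178500 250 = true := by decide +kernel

theorem pts715_ok : FastPoints.okPts table 12 fast 178750 250 = true := by decide +kernel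

theorem pts716_ok : FastPoints.okPts table 12 fast 179000 250 = true := by decide +kernel

theorem pts717_ok : FastPoints.okPts table 12 fast 179250 250 = true := by decide +kernel

theorem pts718_ok : FastPoints.okPts table 12 fast 179500 250 = true := by decide +kernel

theorem pts719_ok : FastPoints.okPts table 12 fast 179750 250 = true := by decide +kernel


end CfsgLib.CosetEnum.Fi24Table
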