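/-
Certificate data of the coset table of Fi24.
-/
import Cfsg.Agent.Lib.CosetEnum.Fi24Table.Data

set_option autoImplicit false
set_option Elab.async false
set_option maxRecDepth 1000000

namespace CfsgLib.CosetEnum.Fi24Table

open CfsgLib.CosetEnum

theorem pts720_ok : FastPoints.okPts table 12 fast 180000 250 = true := by decide +kernel

theorem pts721_ok : FastPoints.okPts table 12 fast 180250 250 = true := by decide +kernel

theorem pts722_ok : FastPoints.okPts table 12 fast 180500 250 = true := by decide +kernel

theorem pts723_ok : FastPoints.okPts table 12 fast 180750 250 = true := by decide +kernel

theorem pts724_ok : FastPoints.okPts table 12 fast 181000 250 = true := by decide +kernel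

theorem pts725_ok : FastPoints.okPts table 12 fast 181250 250 = true := by decide +kernel

theorem pts726_ok : FastPoints.okPts table 12 fast 181500 250 = true := by decide +kernel

theorem pts727_ok : FastPoints.okPts table 12 fast 181750 250 = true := by decide +kernel

theorem pts728_ok : FastPoints.okPts table 12 fast 182000 250 = true := by decide +kernel

theorem pts729_ok : FastPoints.okPts table 12 fast 182250 250 = true := by decide +kernel

theorem pts730_ok : FastPoints.okPts table 12 fast 182500 250 = true := by decide +kernel

theorem pts731_ok : FastPoints.okPts table 12 fast 182750 250 = true := by decide +kernel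

theorem pts732_ok : FastPoints.okPts table 12 fast 183000 250 = true := by decide +kernel

theorem pts733_ok : FastPoints.okPts table 12 fast 183250 250 = true := by decide +kernel

theorem pts734_ok : FastPoints.okPts table 12 fast 183500 250 = true := by decide +kernel

theorem pts735_ok : FastPoints.okPts table 12 fast 183750 250 = true := by decide +kernel


end CfsgLib.CosetEnum.Fi24Table
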