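/-
Certificate data of the coset table of Fi24.
-/
import Cfsg.Agent.Lib.CosetEnum.Fi24Table.Data

set_option autoImplicit false
set_option Elab.async false
set_option maxRecDepth 1000000

namespace CfsgLib.CosetEnum.Fi24Table

open CfsgLib.CosetEnum

theorem pts752_ok : FastPoints.okPts table 12 fast 188000 250 = true := by decide +kernel

theorem pts753_ok : FastPoints.okPts table 12 fast 188250 250 = true := by decide +kernel

theorem pts754_ok : FastPoints.okPts table 12 fast 188500 250 = true := by decide +kernel

theorem pts755_ok : FastPoints.okPts table 12 fast 188750 250 = true := by decide +kernel

theorem pts756_ok : FastPoints.okPts table 12 fast 189000 250 = true := by decide +kernel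

theorem pts757_ok : FastPoints.okPts table 12 fast 189250 250 = true := by decide +kernel

theorem pts758_ok : FastPoints.okPts table 12 fast 189500 250 = true := by decide +kernel

theorem pts759_ok : FastPoints.okPts table 12 fast 189750 250 = true := by decide +kernel

theorem pts760_ok : FastPoints.okPts table 12 fast 190000 250 = true := by decide +kernel

theorem pts761_ok : FastPoints.okPts table 12 fast 190250 250 = true := by decide +kernel

theorem pts762_ok : FastPoints.okPts table 12 fast 190500 250 = true := by decide +kernel

theorem pts763_ok : FastPoints.okPts table 12 fast 190750 250 = true := by decide +kernel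

theorem pts764_ok : FastPoints.okPts table 12 fast 191000 250 = true := by decide +kernel

theorem pts765_ok : FastPoints.okPts table 12 fast 191250 250 = true := by decide +kernel

theorem pts766_ok : FastPoints.okPts table 12 fast 191500 250 = true := by decide +kernel

theorem pts767_ok : FastPoints.okPts table 12 fast 191750 250 = true := by decide +kernel


end CfsgLib.CosetEnum.Fi24Table
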