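/-
Certificate data of the coset table of Fi24.
-/
import Cfsg.Agent.Lib.CosetEnum.Fi24Table.Data

set_option autoImplicit false
set_option Elab.async false
set_option maxRecDepth 1000000

namespace CfsgLib.CosetEnum.Fi24Table

open CfsgLib.CosetEnum

theorem pts768_ok : FastPoints.okPts table 12 fast 192000 250 = true := by decide +kernel

theorem pts769_ok : FastPoints.okPts table 12 fast 192250 250 = true := by decide +kernel

theorem pts770_ok : FastPoints.okPts table 12 fast 192500 250 = true := by decide +kernel

theorem pts771_ok : FastPoints.okPts table 12 fast 192750 250 = true := by decide +kernel

theorem pts772_ok : FastPoints.okPts table 12 fast 193000 250 = true := by decide +kernel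

theorem pts773_ok : FastPoints.okPts table 12 fast 193250 250 = true := by decide +kernel

theorem pts774_ok : FastPoints.okPts table 12 fast 193500 250 = true := by decide +kernel

theorem pts775_ok : FastPoints.okPts table 12 fast 193750 250 = true := by decide +kernel

theorem pts776_ok : FastPoints.okPts table 12 fast 194000 250 = true := by decide +kernel

theorem pts777_ok : FastPoints.okPts table 12 fast 194250 250 = true := by decide +kernel

theorem pts778_ok : FastPoints.okPts table 12 fast 194500 250 = true := by decide +kernel

theorem pts779_ok : FastPoints.okPts table 12 fast 194750 250 = true := by decide +kernel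

theorem pts780_ok : FastPoints.okPts table 12 fast 195000 250 = true := by decide +kernel

theorem pts781_ok : FastPoints.okPts table 12 fast 195250 250 = true := by decide +kernel

theorem pts782_ok : FastPoints.okPts table 12 fast 195500 250 = true := by decide +kernel

theorem pts783_ok : FastPoints.okPts table 12 fast 195750 250 = true := by decide +kernel


end CfsgLib.CosetEnum.Fi24Table
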