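/-
Certificate data of the coset table of Fi24.
-/
import Cfsg.Agent.Lib.CosetEnum.Fi24Table.Data

set_option autoImplicit false
set_option Elab.async false
set_option maxRecDepth 1000000

namespace CfsgLib.CosetEnum.Fi24Table

open CfsgLib.CosetEnum

theorem pts784_ok : FastPoints.okPts table 12 fast 196000 250 = true := by decide +kernel

theorem pts785_ok : FastPoints.okPts table 12 fast 196250 250 = true := by decide +kernel

theorem pts786_ok : FastPoints.okPts table 12 fast 196500 250 = true := by decide +kernel

theorem pts787_ok : FastPoints.okPts table 12 fast 196750 250 = true := by decide +kernel

theorem pts788_ok : FastPoints.okPts table 12 fast 197000 250 = true := by decide +kernel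

theorem pts789_ok : FastPoints.okPts table 12 fast 197250 250 = true := by decide +kernel

theorem pts790_ok : FastPoints.okPts table 12 fast 197500 250 = true := by decide +kernel

theorem pts791_ok : FastPoints.okPts table 12 fast 197750 250 = true := by decide +kernel

theorem pts792_ok : FastPoints.okPts table 12 fast 198000 250 = true := by decide +kernel

theorem pts793_ok : FastPoints.okPts table 12 fast 198250 250 = true := by decide +kernel

theorem pts794_ok : FastPoints.okPts table 12 fast 198500 250 = true := by decide +kernel

theorem pts795_ok : FastPoints.okPts table 12 fast 198750 250 = true := by decide +kernel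

theorem pts796_ok : FastPoints.okPts table 12 fast 199000 250 = true := by decide +kernel

theorem pts797_ok : FastPoints.okPts table 12 fast 199250 250 = true := by decide +kernel

theorem pts798_ok : FastPoints.okPts table 12 fast 199500 250 = true := by decide +kernel

theorem pts799_ok : FastPoints.okPts table 12 fast 199750 250 = true := by decide +kernel


end CfsgLib.CosetEnum.Fi24Table
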