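/-
Certificate data of the coset table of Fi24.
-/
import Cfsg.Agent.Lib.CosetEnum.Fi24Table.Data

set_option autoImplicit false
set_option Elab.async false
set_option maxRecDepth 1000000

namespace CfsgLib.CosetEnum.Fi24Table

open CfsgLib.CosetEnum

theorem pts80_ok : FastPoints.okPts table 12 fast 20000 250 = true := by decide +kernel

theorem pts81_ok : FastPoints.okPts table 12 fast 20250 250 = true := by decide +kernel

theorem pts82_ok : FastPoints.okPts table 12 fast 20500 250 = true := by decide +kernel

theorem pts83_ok : FastPoints.okPts table 12 fast 20750 250 = true := by decide +kernel

theorem pts84_ok : FastPoints.okPts table 12 fast 21000 250 = true := by decide +kernel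

theorem pts85_ok : FastPoints.okPts table 12 fast 21250 250 = true := by decide +kernel

theorem pts86_ok : FastPoints.okPts table 12 fast 21500 250 = true := by decide +kernel

theorem pts87_ok : FastPoints.okPts table 12 fast 21750 250 = true := by decide +kernel

theorem pts88_ok : FastPoints.okPts table 12 fast 22000 250 = true := by decide +kernel

theorem pts89_ok : FastPoints.okPts table 12 fast 22250 250 = true := by decide +kernel

theorem pts90_ok : FastPoints.okPts table 12 fast 22500 250 = true := by decide +kernel

theorem pts91_ok : FastPoints.okPts table 12 fast 22750 250 = true := by decide +kernel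

theorem pts92_ok : FastPoints.okPts table 12 fast 23000 250 = true := by decide +kernel

theorem pts93_ok : FastPoints.okPts table 12 fast 23250 250 = true := by decide +kernel

theorem pts94_ok : FastPoints.okPts table 12 fast 23500 250 = true := by decide +kernel

theorem pts95_ok : FastPoints.okPts table 12 fast 23750 250 = true := by decide +kernel


end CfsgLib.CosetEnum.Fi24Table
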