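/-
Certificate data of the coset table of Fi24.
-/
import Cfsg.Agent.Lib.CosetEnum.Fi24Table.Data

set_option autoImplicit false
set_option Elab.async false
set_option maxRecDepth 1000000

namespace CfsgLib.CosetEnum.Fi24Table

open CfsgLib.CosetEnum

theorem pts800_ok : FastPoints.okPts table 12 fast 200000 250 = true := by decide +kernel

theorem pts801_ok : FastPoints.okPts table 12 fast 200250 250 = true := by decide +kernel

theorem pts802_ok : FastPoints.okPts table 12 fast 200500 250 = true := by decide +kernel

theorem pts803_ok : FastPoints.okPts table 12 fast 200750 250 = true := by decide +kernel

theorem pts804_ok : FastPoints.okPts table 12 fast 201000 250 = true := by decide +kernel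

theorem pts805_ok : FastPoints.okPts table 12 fast 201250 250 = true := by decide +kernel

theorem pts806_ok : FastPoints.okPts table 12 fast 201500 250 = true := by decide +kernel

theorem pts807_ok : FastPoints.okPts table 12 fast 201750 250 = true := by decide +kernel

theorem pts808_ok : FastPoints.okPts table 12 fast 202000 250 = true := by decide +kernel

theorem pts809_ok : FastPoints.okPts table 12 fast 202250 250 = true := by decide +kernel

theorem pts810_ok : FastPoints.okPts table 12 fast 202500 250 = true := by decide +kernel

theorem pts811_ok : FastPoints.okPts table 12 fast 202750 250 = true := by decide +kernel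

theorem pts812_ok : FastPoints.okPts table 12 fast 203000 250 = true := by decide +kernel

theorem pts813_ok : FastPoints.okPts table 12 fast 203250 250 = true := by decide +kernel

theorem pts814_ok : FastPoints.okPts table 12 fast 203500 250 = true := by decide +kernel

theorem pts815_ok : FastPoints.okPts table 12 fast 203750 250 = true := by decide +kernel


end CfsgLib.CosetEnum.Fi24Table
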