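/-
Certificate data of the coset table of Fi24.
-/
import Cfsg.Agent.Lib.CosetEnum.Fi24Table.Data

set_option autoImplicit false
set_option Elab.async false
set_option maxRecDepth 1000000

namespace CfsgLib.CosetEnum.Fi24Table

open CfsgLib.CosetEnum

theorem pts816_ok : FastPoints.okPts table 12 fast 204000 250 = true := by decide +kernel

theorem pts817_ok : FastPoints.okPts table 12 fast 204250 250 = true := by decide +kernel

theorem pts818_ok : FastPoints.okPts table 12 fast 204500 250 = true := by decide +kernel

theorem pts819_ok : FastPoints.okPts table 12 fast 204750 250 = true := by decide +kernel

theorem pts820_ok : FastPoints.okPts table 12 fast 205000 250 = true := by decide +kernel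

theorem pts821_ok : FastPoints.okPts table 12 fast 205250 250 = true := by decide +kernel

theorem pts822_ok : FastPoints.okPts table 12 fast 205500 250 = true := by decide +kernel

theorem pts823_ok : FastPoints.okPts table 12 fast 205750 250 = true := by decide +kernel

theorem pts824_ok : FastPoints.okPts table 12 fast 206000 250 = true := by decide +kernel

theorem pts825_ok : FastPoints.okPts table 12 fast 206250 250 = true := by decide +kernel

theorem pts826_ok : FastPoints.okPts table 12 fast 206500 250 = true := by decide +kernel

theorem pts827_ok : FastPoints.okPts table 12 fast 206750 250 = true := by decide +kernel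

theorem pts828_ok : FastPoints.okPts table 12 fast 207000 250 = true := by decide +kernel

theorem pts829_ok : FastPoints.okPts table 12 fast 207250 250 = true := by decide +kernel

theorem pts830_ok : FastPoints.okPts table 12 fast 207500 250 = true := by decide +kernel

theorem pts831_ok : FastPoints.okPts table 12 fast 207750 250 = true := by decide +kernel


end CfsgLib.CosetEnum.Fi24Table
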