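/-
Certificate data of the coset table of Fi24.
-/
import Cfsg.Agent.Lib.CosetEnum.Fi24Table.Data

set_option autoImplicit false
set_option Elab.async false
set_option maxRecDepth 1000000

namespace CfsgLib.CosetEnum.Fi24Table

open CfsgLib.CosetEnum

theorem pts832_ok : FastPoints.okPts table 12 fast 208000 250 = true := by decide +kernel

theorem pts833_ok : FastPoints.okPts table 12 fast 208250 250 = true := by decide +kernel

theorem pts834_ok : FastPoints.okPts table 12 fast 208500 250 = true := by decide +kernel

theorem pts835_ok : FastPoints.okPts table 12 fast 208750 250 = true := by decide +kernel

theorem pts836_ok : FastPoints.okPts table 12 fast 209000 250 = true := by decide +kernel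

theorem pts837_ok : FastPoints.okPts table 12 fast 209250 250 = true := by decide +kernel

theorem pts838_ok : FastPoints.okPts table 12 fast 209500 250 = true := by decide +kernel

theorem pts839_ok : FastPoints.okPts table 12 fast 209750 250 = true := by decide +kernel

theorem pts840_ok : FastPoints.okPts table 12 fast 210000 250 = true := by decide +kernel

theorem pts841_ok : FastPoints.okPts table 12 fast 210250 250 = true := by decide +kernel

theorem pts842_ok : FastPoints.okPts table 12 fast 210500 250 = true := by decide +kernel

theorem pts843_ok : FastPoints.okPts table 12 fast 210750 250 = true := by decide +kernel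

theorem pts844_ok : FastPoints.okPts table 12 fast 211000 250 = true := by decide +kernel

theorem pts845_ok : FastPoints.okPts table 12 fast 211250 250 = true := by decide +kernel

theorem pts846_ok : FastPoints.okPts table 12 fast 211500 250 = true := by decide +kernel

theorem pts847_ok : FastPoints.okPts table 12 fast 211750 250 = true := by decide +kernel


end CfsgLib.CosetEnum.Fi24Table
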