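/-
Certificate data of the coset table of Fi24.
-/
import Cfsg.Agent.Lib.CosetEnum.Fi24Table.Data

set_option autoImplicit false
set_option Elab.async false
set_option maxRecDepth 1000000

namespace CfsgLib.CosetEnum.Fi24Table

open CfsgLib.CosetEnum

theorem pts848_ok : FastPoints.okPts table 12 fast 212000 250 = true := by decide +kernel

theorem pts849_ok : FastPoints.okPts table 12 fast 212250 250 = true := by decide +kernel

theorem pts850_ok : FastPoints.okPts table 12 fast 212500 250 = true := by decide +kernel

theorem pts851_ok : FastPoints.okPts table 12 fast 212750 250 = true := by decide +kernel

theorem pts852_ok : FastPoints.okPts table 12 fast 213000 250 = true := by decide +kernel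

theorem pts853_ok : FastPoints.okPts table 12 fast 213250 250 = true := by decide +kernel

theorem pts854_ok : FastPoints.okPts table 12 fast 213500 250 = true := by decide +kernel

theorem pts855_ok : FastPoints.okPts table 12 fast 213750 250 = true := by decide +kernel

theorem pts856_ok : FastPoints.okPts table 12 fast 214000 250 = true := by decide +kernel

theorem pts857_ok : FastPoints.okPts table 12 fast 214250 250 = true := by decide +kernel

theorem pts858_ok : FastPoints.okPts table 12 fast 214500 250 = true := by decide +kernel

theorem pts859_ok : FastPoints.okPts table 12 fast 214750 250 = true := by decide +kernel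

theorem pts860_ok : FastPoints.okPts table 12 fast 215000 250 = true := by decide +kernel

theorem pts861_ok : FastPoints.okPts table 12 fast 215250 250 = true := by decide +kernel

theorem pts862_ok : FastPoints.okPts table 12 fast 215500 250 = true := by decide +kernel

theorem pts863_ok : FastPoints.okPts table 12 fast 215750 250 = true := by decide +kernel


end CfsgLib.CosetEnum.Fi24Table
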