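/-
Certificate data of the coset table of Fi24.
-/
import Cfsg.Agent.Lib.CosetEnum.Fi24Table.Data

set_option autoImplicit false
set_option Elab.async false
set_option maxRecDepth 1000000

namespace CfsgLib.CosetEnum.Fi24Table

open CfsgLib.CosetEnum

theorem pts864_ok : FastPoints.okPts table 12 fast 216000 250 = true := by decide +kernel

theorem pts865_ok : FastPoints.okPts table 12 fast 216250 250 = true := by decide +kernel

theorem pts866_ok : FastPoints.okPts table 12 fast 216500 250 = true := by decide +kernel

theorem pts867_ok : FastPoints.okPts table 12 fast 216750 250 = true := by decide +kernel

theorem pts868_ok : FastPoints.okPts table 12 fast 217000 250 = true := by decide +kernel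

theorem pts869_ok : FastPoints.okPts table 12 fast 217250 250 = true := by decide +kernel

theorem pts870_ok : FastPoints.okPts table 12 fast 217500 250 = true := by decide +kernel

theorem pts871_ok : FastPoints.okPts table 12 fast 217750 250 = true := by decide +kernel

theorem pts872_ok : FastPoints.okPts table 12 fast 218000 250 = true := by decide +kernel

theorem pts873_ok : FastPoints.okPts table 12 fast 218250 250 = true := by decide +kernel

theorem pts874_ok : FastPoints.okPts table 12 fast 218500 250 = true := by decide +kernel

theorem pts875_ok : FastPoints.okPts table 12 fast 218750 250 = true := by decide +kernel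

theorem pts876_ok : FastPoints.okPts table 12 fast 219000 250 = true := by decide +kernel

theorem pts877_ok : FastPoints.okPts table 12 fast 219250 250 = true := by decide +kernel

theorem pts878_ok : FastPoints.okPts table 12 fast 219500 250 = true := by decide +kernel

theorem pts879_ok : FastPoints.okPts table 12 fast 219750 250 = true := by decide +kernel


end CfsgLib.CosetEnum.Fi24Table
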