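/-
Certificate data of the coset table of Fi24.
-/
import Cfsg.Agent.Lib.CosetEnum.Fi24Table.Data

set_option autoImplicit false
set_option Elab.async false
set_option maxRecDepth 1000000

namespace CfsgLib.CosetEnum.Fi24Table

open CfsgLib.CosetEnum

theorem pts880_ok : FastPoints.okPts table 12 fast 220000 250 = true := by decide +kernel

theorem pts881_ok : FastPoints.okPts table 12 fast 220250 250 = true := by decide +kernel

theorem pts882_ok : FastPoints.okPts table 12 fast 220500 250 = true := by decide +kernel

theorem pts883_ok : FastPoints.okPts table 12 fast 220750 250 = true := by decide +kernel

theorem pts884_ok : FastPoints.okPts table 12 fast 221000 250 = true := by decide +kernel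

theorem pts885_ok : FastPoints.okPts table 12 fast 221250 250 = true := by decide +kernel

theorem pts886_ok : FastPoints.okPts table 12 fast 221500 250 = true := by decide +kernel

theorem pts887_ok : FastPoints.okPts table 12 fast 221750 250 = true := by decide +kernel

theorem pts888_ok : FastPoints.okPts table 12 fast 222000 250 = true := by decide +kernel

theorem pts889_ok : FastPoints.okPts table 12 fast 222250 250 = true := by decide +kernel

theorem pts890_ok : FastPoints.okPts table 12 fast 222500 250 = true := by decide +kernel

theorem pts891_ok : FastPoints.okPts table 12 fast 222750 250 = true := by decide +kernel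

theorem pts892_ok : FastPoints.okPts table 12 fast 223000 250 = true := by decide +kernel

theorem pts893_ok : FastPoints.okPts table 12 fast 223250 250 = true := by decide +kernel

theorem pts894_ok : FastPoints.okPts table 12 fast 223500 250 = true := by decide +kernel

theorem pts895_ok : FastPoints.okPts table 12 fast 223750 250 = true := by decide +kernel


end CfsgLib.CosetEnum.Fi24Table
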