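/-
Certificate data of the coset table of Fi24.
-/
import Cfsg.Agent.Lib.CosetEnum.Fi24Table.Data

set_option autoImplicit false
set_option Elab.async false
set_option maxRecDepth 1000000

namespace CfsgLib.CosetEnum.Fi24Table

open CfsgLib.CosetEnum

theorem pts896_ok : FastPoints.okPts table 12 fast 224000 250 = true := by decide +kernel

theorem pts897_ok : FastPoints.okPts table 12 fast 224250 250 = true := by decide +kernel

theorem pts898_ok : FastPoints.okPts table 12 fast 224500 250 = true := by decide +kernel

theorem pts899_ok : FastPoints.okPts table 12 fast 224750 250 = true := by decide +kernel

theorem pts900_ok : FastPoints.okPts table 12 fast 225000 250 = true := by decide +kernel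

theorem pts901_ok : FastPoints.okPts table 12 fast 225250 250 = true := by decide +kernel

theorem pts902_ok : FastPoints.okPts table 12 fast 225500 250 = true := by decide +kernel

theorem pts903_ok : FastPoints.okPts table 12 fast 225750 250 = true := by decide +kernel

theorem pts904_ok : FastPoints.okPts table 12 fast 226000 250 = true := by decide +kernel

theorem pts905_ok : FastPoints.okPts table 12 fast 226250 250 = true := by decide +kernel

theorem pts906_ok : FastPoints.okPts table 12 fast 226500 250 = true := by decide +kernel

theorem pts907_ok : FastPoints.okPts table 12 fast 226750 250 = true := by decide +kernel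

theorem pts908_ok : FastPoints.okPts table 12 fast 227000 250 = true := by decide +kernel

theorem pts909_ok : FastPoints.okPts table 12 fast 227250 250 = true := by decide +kernel

theorem pts910_ok : FastPoints.okPts table 12 fast 227500 250 = true := by decide +kernel

theorem pts911_ok : FastPoints.okPts table 12 fast 227750 250 = true := by decide +kernel


end CfsgLib.CosetEnum.Fi24Table
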