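/-
Certificate data of the coset table of Fi24.
-/
import Cfsg.Agent.Lib.CosetEnum.Fi24Table.Data

set_option autoImplicit false
set_option Elab.async false
set_option maxRecDepth 1000000

namespace CfsgLib.CosetEnum.Fi24Table

open CfsgLib.CosetEnum

theorem pts912_ok : FastPoints.okPts table 12 fast 228000 250 = true := by decide +kernel

theorem pts913_ok : FastPoints.okPts table 12 fast 228250 250 = true := by decide +kernel

theorem pts914_ok : FastPoints.okPts table 12 fast 228500 250 = true := by decide +kernel

theorem pts915_ok : FastPoints.okPts table 12 fast 228750 250 = true := by decide +kernel

theorem pts916_ok : FastPoints.okPts table 12 fast 229000 250 = true := by decide +kernel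

theorem pts917_ok : FastPoints.okPts table 12 fast 229250 250 = true := by decide +kernel

theorem pts918_ok : FastPoints.okPts table 12 fast 229500 250 = true := by decide +kernel

theorem pts919_ok : FastPoints.okPts table 12 fast 229750 250 = true := by decide +kernel

theorem pts920_ok : FastPoints.okPts table 12 fast 230000 250 = true := by decide +kernel

theorem pts921_ok : FastPoints.okPts table 12 fast 230250 250 = true := by decide +kernel

theorem pts922_ok : FastPoints.okPts table 12 fast 230500 250 = true := by decide +kernel

theorem pts923_ok : FastPoints.okPts table 12 fast 230750 250 = true := by decide +kernel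

theorem pts924_ok : FastPoints.okPts table 12 fast 231000 250 = true := by decide +kernel

theorem pts925_ok : FastPoints.okPts table 12 fast 231250 250 = true := by decide +kernel

theorem pts926_ok : FastPoints.okPts table 12 fast 231500 250 = true := by decide +kernel

theorem pts927_ok : FastPoints.okPts table 12 fast 231750 250 = true := by decide +kernel


end CfsgLib.CosetEnum.Fi24Table
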