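/-
Certificate data of the coset table of Fi24.
-/
import Cfsg.Agent.Lib.CosetEnum.Fi24Table.Data

set_option autoImplicit false
set_option Elab.async false
set_option maxRecDepth 1000000

namespace CfsgLib.CosetEnum.Fi24Table

open CfsgLib.CosetEnum

theorem pts944_ok : FastPoints.okPts table 12 fast 236000 250 = true := by decide +kernel

theorem pts945_ok : FastPoints.okPts table 12 fast 236250 250 = true := by decide +kernel

theorem pts946_ok : FastPoints.okPts table 12 fast 236500 250 = true := by decide +kernel

theorem pts947_ok : FastPoints.okPts table 12 fast 236750 250 = true := by decide +kernel

theorem pts948_ok : FastPoints.okPts table 12 fast 237000 250 = true := by decide +kernel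

theorem pts949_ok : FastPoints.okPts table 12 fast 237250 250 = true := by decide +kernel

theorem pts950_ok : FastPoints.okPts table 12 fast 237500 250 = true := by decide +kernel

theorem pts951_ok : FastPoints.okPts table 12 fast 237750 250 = true := by decide +kernel

theorem pts952_ok : FastPoints.okPts table 12 fast 238000 250 = true := by decide +kernel

theorem pts953_ok : FastPoints.okPts table 12 fast 238250 250 = true := by decide +kernel

theorem pts954_ok : FastPoints.okPts table 12 fast 238500 250 = true := by decide +kernel

theorem pts955_ok : FastPoints.okPts table 12 fast 238750 250 = true := by decide +kernel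

theorem pts956_ok : FastPoints.okPts table 12 fast 239000 250 = true := by decide +kernel

theorem pts957_ok : FastPoints.okPts table 12 fast 239250 250 = true := by decide +kernel

theorem pts958_ok : FastPoints.okPts table 12 fast 239500 250 = true := by decide +kernel

theorem pts959_ok : FastPoints.okPts table 12 fast 239750 250 = true := by decide +kernel


end CfsgLib.CosetEnum.Fi24Table
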