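/-
Certificate data of the coset table of Fi24.
-/
import Cfsg.Agent.Lib.CosetEnum.Fi24Table.Data

set_option autoImplicit false
set_option Elab.async false
set_option maxRecDepth 1000000

namespace CfsgLib.CosetEnum.Fi24Table

open CfsgLib.CosetEnum

theorem pts96_ok : FastPoints.okPts table 12 fast 24000 250 = true := by decide +kernel

theorem pts97_ok : FastPoints.okPts table 12 fast 24250 250 = true := by decide +kernel

theorem pts98_ok : FastPoints.okPts table 12 fast 24500 250 = true := by decide +kernel

theorem pts99_ok : FastPoints.okPts table 12 fast 24750 250 = true := by decide +kernel

theorem pts100_ok : FastPoints.okPts table 12 fast 25000 250 = true := by decide +kernel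

theorem pts101_ok : FastPoints.okPts table 12 fast 25250 250 = true := by decide +kernel

theorem pts102_ok : FastPoints.okPts table 12 fast 25500 250 = true := by decide +kernel

theorem pts103_ok : FastPoints.okPts table 12 fast 25750 250 = true := by decide +kernel

theorem pts104_ok : FastPoints.okPts table 12 fast 26000 250 = true := by decide +kernel

theorem pts105_ok : FastPoints.okPts table 12 fast 26250 250 = true := by decide +kernel

theorem pts106_ok : FastPoints.okPts table 12 fast 26500 250 = true := by decide +kernel

theorem pts107_ok : FastPoints.okPts table 12 fast 26750 250 = true := by decide +kernel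

theorem pts108_ok : FastPoints.okPts table 12 fast 27000 250 = true := by decide +kernel

theorem pts109_ok : FastPoints.okPts table 12 fast 27250 250 = true := by decide +kernel

theorem pts110_ok : FastPoints.okPts table 12 fast 27500 250 = true := by decide +kernel

theorem pts111_ok : FastPoints.okPts table 12 fast 27750 250 = true := by decide +kernel


end CfsgLib.CosetEnum.Fi24Table
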