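/-
Certificate data of the coset table of Fi24.
-/
import Cfsg.Agent.Lib.CosetEnum.Fi24Table.Data

set_option autoImplicit false
set_option Elab.async false
set_option maxRecDepth 1000000

namespace CfsgLib.CosetEnum.Fi24Table

open CfsgLib.CosetEnum

theorem pts960_ok : FastPoints.okPts table 12 fast 240000 250 = true := by decide +kernel

theorem pts961_ok : FastPoints.okPts table 12 fast 240250 250 = true := by decide +kernel

theorem pts962_ok : FastPoints.okPts table 12 fast 240500 250 = true := by decide +kernel

theorem pts963_ok : FastPoints.okPts table 12 fast 240750 250 = true := by decide +kernel

theorem pts964_ok : FastPoints.okPts table 12 fast 241000 250 = true := by decide +kernel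

theorem pts965_ok : FastPoints.okPts table 12 fast 241250 250 = true := by decide +kernel

theorem pts966_ok : FastPoints.okPts table 12 fast 241500 250 = true := by decide +kernel

theorem pts967_ok : FastPoints.okPts table 12 fast 241750 250 = true := by decide +kernel

theorem pts968_ok : FastPoints.okPts table 12 fast 242000 250 = true := by decide +kernel

theorem pts969_ok : FastPoints.okPts table 12 fast 242250 250 = true := by decide +kernel

theorem pts970_ok : FastPoints.okPts table 12 fast 242500 250 = true := by decide +kernel

theorem pts971_ok : FastPoints.okPts table 12 fast 242750 250 = true := by decide +kernel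

theorem pts972_ok : FastPoints.okPts table 12 fast 243000 250 = true := by decide +kernel

theorem pts973_ok : FastPoints.okPts table 12 fast 243250 250 = true := by decide +kernel

theorem pts974_ok : FastPoints.okPts table 12 fast 243500 250 = true := by decide +kernel

theorem pts975_ok : FastPoints.okPts table 12 fast 243750 250 = true := by decide +kernel


end CfsgLib.CosetEnum.Fi24Table
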