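/-
Certificate data of the coset table of Fi24.
-/
import Cfsg.Agent.Lib.CosetEnum.Fi24Table.Data

set_option autoImplicit false
set_option Elab.async false
set_option maxRecDepth 1000000

namespace CfsgLib.CosetEnum.Fi24Table

open CfsgLib.CosetEnum

theorem pts976_ok : FastPoints.okPts table 12 fast 244000 250 = true := by decide +kernel

theorem pts977_ok : FastPoints.okPts table 12 fast 244250 250 = true := by decide +kernel

theorem pts978_ok : FastPoints.okPts table 12 fast 244500 250 = true := by decide +kernel

theorem pts979_ok : FastPoints.okPts table 12 fast 244750 250 = true := by decide +kernel

theorem pts980_ok : FastPoints.okPts table 12 fast 245000 250 = true := by decide +kernel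

theorem pts981_ok : FastPoints.okPts table 12 fast 245250 250 = true := by decide +kernel

theorem pts982_ok : FastPoints.okPts table 12 fast 245500 250 = true := by decide +kernel

theorem pts983_ok : FastPoints.okPts table 12 fast 245750 250 = true := by decide +kernel

theorem pts984_ok : FastPoints.okPts table 12 fast 246000 250 = true := by decide +kernel

theorem pts985_ok : FastPoints.okPts table 12 fast 246250 250 = true := by decide +kernel

theorem pts986_ok : FastPoints.okPts table 12 fast 246500 250 = true := by decide +kernel

theorem pts987_ok : FastPoints.okPts table 12 fast 246750 250 = true := by decide +kernel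

theorem pts988_ok : FastPoints.okPts table 12 fast 247000 250 = true := by decide +kernel

theorem pts989_ok : FastPoints.okPts table 12 fast 247250 250 = true := by decide +kernel

theorem pts990_ok : FastPoints.okPts table 12 fast 247500 250 = true := by decide +kernel

theorem pts991_ok : FastPoints.okPts table 12 fast 247750 250 = true := by decide +kernel


end CfsgLib.CosetEnum.Fi24Table
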