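/-
Certificate data of the coset table of Fi24.
-/
import Cfsg.Agent.Lib.CosetEnum.Fi24Table.Data

set_option autoImplicit false
set_option Elab.async false
set_option maxRecDepth 1000000

namespace CfsgLib.CosetEnum.Fi24Table

open CfsgLib.CosetEnum

theorem pts992_ok : FastPoints.okPts table 12 fast 248000 250 = true := by decide +kernel

theorem pts993_ok : FastPoints.okPts table 12 fast 248250 250 = true := by decide +kernel

theorem pts994_ok : FastPoints.okPts table 12 fast 248500 250 = true := by decide +kernel

theorem pts995_ok : FastPoints.okPts table 12 fast 248750 250 = true := by decide +kernel

theorem pts996_ok : FastPoints.okPts table 12 fast 249000 250 = true := by decide +kernel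

theorem pts997_ok : FastPoints.okPts table 12 fast 249250 250 = true := by decide +kernel

theorem pts998_ok : FastPoints.okPts table 12 fast 249500 250 = true := by decide +kernel

theorem pts999_ok : FastPoints.okPts table 12 fast 249750 250 = true := by decide +kernel

theorem pts1000_ok : FastPoints.okPts table 12 fast 250000 250 = true := by decide +kernel

theorem pts1001_ok : FastPoints.okPts table 12 fast 250250 250 = true := by decide +kernel

theorem pts1002_ok : FastPoints.okPts table 12 fast 250500 250 = true := by decide +kernel

theorem pts1003_ok : FastPoints.okPts table 12 fast 250750 250 = true := by decide +kernel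

theorem pts1004_ok : FastPoints.okPts table 12 fast 251000 250 = true := by decide +kernel

theorem pts1005_ok : FastPoints.okPts table 12 fast 251250 250 = true := by decide +kernel

theorem pts1006_ok : FastPoints.okPts table 12 fast 251500 250 = true := by decide +kernel

theorem pts1007_ok : FastPoints.okPts table 12 fast 251750 250 = true := by decide +kernel


end CfsgLib.CosetEnum.Fi24Table
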