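/-
Certificate data of the coset table of Fi24.
-/
import Cfsg.Agent.Lib.CosetEnum.Fi24Table.Data

set_option autoImplicit false
set_option Elab.async false
set_option maxRecDepth 1000000

namespace CfsgLib.CosetEnum.Fi24Table

open CfsgLib.CosetEnum

theorem pts1008_ok : FastPoints.okPts table 12 fast 252000 250 = true := by decide +kernel

theorem pts1009_ok : FastPoints.okPts table 12 fast 252250 250 = true := by decide +kernel

theorem pts1010_ok : FastPoints.okPts table 12 fast 252500 250 = true := by decide +kernel

theorem pts1011_ok : FastPoints.okPts table 12 fast 252750 250 = true := by decide +kernel

theorem pts1012_ok : FastPoints.okPts table 12 fast 253000 250 = true := by decide +kernel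

theorem pts1013_ok : FastPoints.okPts table 12 fast 253250 250 = true := by decide +kernel

theorem pts1014_ok : FastPoints.okPts table 12 fast 253500 250 = true := by decide +kernel

theorem pts1015_ok : FastPoints.okPts table 12 fast 253750 250 = true := by decide +kernel

theorem pts1016_ok : FastPoints.okPts table 12 fast 254000 250 = true := by decide +kernel

theorem pts1017_ok : FastPoints.okPts table 12 fast 254250 250 = true := by decide +kernel

theorem pts1018_ok : FastPoints.okPts table 12 fast 254500 250 = true := by decide +kernel

theorem pts1019_ok : FastPoints.okPts table 12 fast 254750 250 = true := by decide +kernel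

theorem pts1020_ok : FastPoints.okPts table 12 fast 255000 250 = true := by decide +kernel

theorem pts1021_ok : FastPoints.okPts table 12 fast 255250 250 = true := by decide +kernel

theorem pts1022_ok : FastPoints.okPts table 12 fast 255500 250 = true := by decide +kernel

theorem pts1023_ok : FastPoints.okPts table 12 fast 255750 250 = true := by decide +kernel


end CfsgLib.CosetEnum.Fi24Table
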