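/-
Certificate data of the coset table of Fi24.
-/
import Cfsg.Agent.Lib.CosetEnum.Fi24Table.Data

set_option autoImplicit false
set_option Elab.async false
set_option maxRecDepth 1000000

namespace CfsgLib.CosetEnum.Fi24Table

open CfsgLib.CosetEnum

theorem pts1024_ok : FastPoints.okPts table 12 fast 256000 250 = true := by decide +kernel

theorem pts1025_ok : FastPoints.okPts table 12 fast 256250 250 = true := by decide +kernel

theorem pts1026_ok : FastPoints.okPts table 12 fast 256500 250 = true := by decide +kernel

theorem pts1027_ok : FastPoints.okPts table 12 fast 256750 250 = true := by decide +kernel

theorem pts1028_ok : FastPoints.okPts table 12 fast 257000 250 = true := by decide +kernel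

theorem pts1029_ok : FastPoints.okPts table 12 fast 257250 250 = true := by decide +kernel

theorem pts1030_ok : FastPoints.okPts table 12 fast 257500 250 = true := by decide +kernel

theorem pts1031_ok : FastPoints.okPts table 12 fast 257750 250 = true := by decide +kernel

theorem pts1032_ok : FastPoints.okPts table 12 fast 258000 250 = true := by decide +kernel

theorem pts1033_ok : FastPoints.okPts table 12 fast 258250 250 = true := by decide +kernel

theorem pts1034_ok : FastPoints.okPts table 12 fast 258500 250 = true := by decide +kernel

theorem pts1035_ok : FastPoints.okPts table 12 fast 258750 250 = true := by decide +kernel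

theorem pts1036_ok : FastPoints.okPts table 12 fast 259000 250 = true := by decide +kernel

theorem pts1037_ok : FastPoints.okPts table 12 fast 259250 250 = true := by decide +kernel

theorem pts1038_ok : FastPoints.okPts table 12 fast 259500 250 = true := by decide +kernel

theorem pts1039_ok : FastPoints.okPts table 12 fast 259750 250 = true := by decide +kernel


end CfsgLib.CosetEnum.Fi24Table
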