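/-
Certificate data of the coset table of Fi24.
-/
import Cfsg.Agent.Lib.CosetEnum.Fi24Table.Data

set_option autoImplicit false
set_option Elab.async false
set_option maxRecDepth 1000000

namespace CfsgLib.CosetEnum.Fi24Table

open CfsgLib.CosetEnum

theorem pts1040_ok : FastPoints.okPts table 12 fast 260000 250 = true := by decide +kernel

theorem pts1041_ok : FastPoints.okPts table 12 fast 260250 250 = true := by decide +kernel

theorem pts1042_ok : FastPoints.okPts table 12 fast 260500 250 = true := by decide +kernel

theorem pts1043_ok : FastPoints.okPts table 12 fast 260750 250 = true := by decide +kernel

theorem pts1044_ok : FastPoints.okPts table 12 fast 261000 250 = true := by decide +kernel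

theorem pts1045_ok : FastPoints.okPts table 12 fast 261250 250 = true := by decide +kernel

theorem pts1046_ok : FastPoints.okPts table 12 fast 261500 250 = true := by decide +kernel

theorem pts1047_ok : FastPoints.okPts table 12 fast 261750 250 = true := by decide +kernel

theorem pts1048_ok : FastPoints.okPts table 12 fast 262000 250 = true := by decide +kernel

theorem pts1049_ok : FastPoints.okPts table 12 fast 262250 250 = true := by decide +kernel

theorem pts1050_ok : FastPoints.okPts table 12 fast 262500 250 = true := by decide +kernel

theorem pts1051_ok : FastPoints.okPts table 12 fast 262750 250 = true := by decide +kernel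

theorem pts1052_ok : FastPoints.okPts table 12 fast 263000 250 = true := by decide +kernel

theorem pts1053_ok : FastPoints.okPts table 12 fast 263250 250 = true := by decide +kernel

theorem pts1054_ok : FastPoints.okPts table 12 fast 263500 250 = true := by decide +kernel

theorem pts1055_ok : FastPoints.okPts table 12 fast 263750 250 = true := by decide +kernel


end CfsgLib.CosetEnum.Fi24Table
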