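/-
Certificate data of the coset table of Fi24.
-/
import Cfsg.Agent.Lib.CosetEnum.Fi24Table.Data

set_option autoImplicit false
set_option Elab.async false
set_option maxRecDepth 1000000

namespace CfsgLib.CosetEnum.Fi24Table

open CfsgLib.CosetEnum

theorem pts1056_ok : FastPoints.okPts table 12 fast 264000 250 = true := by decide +kernel

theorem pts1057_ok : FastPoints.okPts table 12 fast 264250 250 = true := by decide +kernel

theorem pts1058_ok : FastPoints.okPts table 12 fast 264500 250 = true := by decide +kernel

theorem pts1059_ok : FastPoints.okPts table 12 fast 264750 250 = true := by decide +kernel

theorem pts1060_ok : FastPoints.okPts table 12 fast 265000 250 = true := by decide +kernel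

theorem pts1061_ok : FastPoints.okPts table 12 fast 265250 250 = true := by decide +kernel

theorem pts1062_ok : FastPoints.okPts table 12 fast 265500 250 = true := by decide +kernel

theorem pts1063_ok : FastPoints.okPts table 12 fast 265750 250 = true := by decide +kernel

theorem pts1064_ok : FastPoints.okPts table 12 fast 266000 250 = true := by decide +kernel

theorem pts1065_ok : FastPoints.okPts table 12 fast 266250 250 = true := by decide +kernel

theorem pts1066_ok : FastPoints.okPts table 12 fast 266500 250 = true := by decide +kernel

theorem pts1067_ok : FastPoints.okPts table 12 fast 266750 250 = true := by decide +kernel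

theorem pts1068_ok : FastPoints.okPts table 12 fast 267000 250 = true := by decide +kernel

theorem pts1069_ok : FastPoints.okPts table 12 fast 267250 250 = true := by decide +kernel

theorem pts1070_ok : FastPoints.okPts table 12 fast 267500 250 = true := by decide +kernel

theorem pts1071_ok : FastPoints.okPts table 12 fast 267750 250 = true := by decide +kernel


end CfsgLib.CosetEnum.Fi24Table
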