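/-
Certificate data of the coset table of Fi24.
-/
import Cfsg.Agent.Lib.CosetEnum.Fi24Table.Data

set_option autoImplicit false
set_option Elab.async false
set_option maxRecDepth 1000000

namespace CfsgLib.CosetEnum.Fi24Table

open CfsgLib.CosetEnum

theorem pts1072_ok : FastPoints.okPts table 12 fast 268000 250 = true := by decide +kernel

theorem pts1073_ok : FastPoints.okPts table 12 fast 268250 250 = true := by decide +kernel

theorem pts1074_ok : FastPoints.okPts table 12 fast 268500 250 = true := by decide +kernel

theorem pts1075_ok : FastPoints.okPts table 12 fast 268750 250 = true := by decide +kernel

theorem pts1076_ok : FastPoints.okPts table 12 fast 269000 250 = true := by decide +kernel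

theorem pts1077_ok : FastPoints.okPts table 12 fast 269250 250 = true := by decide +kernel

theorem pts1078_ok : FastPoints.okPts table 12 fast 269500 250 = true := by decide +kernel

theorem pts1079_ok : FastPoints.okPts table 12 fast 269750 250 = true := by decide +kernel

theorem pts1080_ok : FastPoints.okPts table 12 fast 270000 250 = true := by decide +kernel

theorem pts1081_ok : FastPoints.okPts table 12 fast 270250 250 = true := by decide +kernel

theorem pts1082_ok : FastPoints.okPts table 12 fast 270500 250 = true := by decide +kernel

theorem pts1083_ok : FastPoints.okPts table 12 fast 270750 250 = true := by decide +kernel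

theorem pts1084_ok : FastPoints.okPts table 12 fast 271000 250 = true := by decide +kernel

theorem pts1085_ok : FastPoints.okPts table 12 fast 271250 250 = true := by decide +kernel

theorem pts1086_ok : FastPoints.okPts table 12 fast 271500 250 = true := by decide +kernel

theorem pts1087_ok : FastPoints.okPts table 12 fast 271750 250 = true := by decide +kernel


end CfsgLib.CosetEnum.Fi24Table
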