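/-
Certificate data of the coset table of Fi24.
-/
import Cfsg.Agent.Lib.CosetEnum.Fi24Table.Data

set_option autoImplicit false
set_option Elab.async false
set_option maxRecDepth 1000000

namespace CfsgLib.CosetEnum.Fi24Table

open CfsgLib.CosetEnum

theorem pts1088_ok : FastPoints.okPts table 12 fast 272000 250 = true := by decide +kernel

theorem pts1089_ok : FastPoints.okPts table 12 fast 272250 250 = true := by decide +kernel

theorem pts1090_ok : FastPoints.okPts table 12 fast 272500 250 = true := by decide +kernel

theorem pts1091_ok : FastPoints.okPts table 12 fast 272750 250 = true := by decide +kernel

theorem pts1092_ok : FastPoints.okPts table 12 fast 273000 250 = true := by decide +kernel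

theorem pts1093_ok : FastPoints.okPts table 12 fast 273250 250 = true := by decide +kernel

theorem pts1094_ok : FastPoints.okPts table 12 fast 273500 250 = true := by decide +kernel

theorem pts1095_ok : FastPoints.okPts table 12 fast 273750 250 = true := by decide +kernel

theorem pts1096_ok : FastPoints.okPts table 12 fast 274000 250 = true := by decide +kernel

theorem pts1097_ok : FastPoints.okPts table 12 fast 274250 250 = true := by decide +kernel

theorem pts1098_ok : FastPoints.okPts table 12 fast 274500 250 = true := by decide +kernel

theorem pts1099_ok : FastPoints.okPts table 12 fast 274750 250 = true := by decide +kernel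

theorem pts1100_ok : FastPoints.okPts table 12 fast 275000 250 = true := by decide +kernel

theorem pts1101_ok : FastPoints.okPts table 12 fast 275250 250 = true := by decide +kernel

theorem pts1102_ok : FastPoints.okPts table 12 fast 275500 250 = true := by decide +kernel

theorem pts1103_ok : FastPoints.okPts table 12 fast 275750 250 = true := by decide +kernel


end CfsgLib.CosetEnum.Fi24Table
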