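/-
Certificate data of the coset table of Fi24.
-/
import Cfsg.Agent.Lib.CosetEnum.Fi24Table.Data

set_option autoImplicit false
set_option Elab.async false
set_option maxRecDepth 1000000

namespace CfsgLib.CosetEnum.Fi24Table

open CfsgLib.CosetEnum

theorem pts1104_ok : FastPoints.okPts table 12 fast 276000 250 = true := by decide +kernel

theorem pts1105_ok : FastPoints.okPts table 12 fast 276250 250 = true := by decide +kernel

theorem pts1106_ok : FastPoints.okPts table 12 fast 276500 250 = true := by decide +kernel

theorem pts1107_ok : FastPoints.okPts table 12 fast 276750 250 = true := by decide +kernel

theorem pts1108_ok : FastPoints.okPts table 12 fast 277000 250 = true := by decide +kernel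

theorem pts1109_ok : FastPoints.okPts table 12 fast 277250 250 = true := by decide +kernel

theorem pts1110_ok : FastPoints.okPts table 12 fast 277500 250 = true := by decide +kernel

theorem pts1111_ok : FastPoints.okPts table 12 fast 277750 250 = true := by decide +kernel

theorem pts1112_ok : FastPoints.okPts table 12 fast 278000 250 = true := by decide +kernel

theorem pts1113_ok : FastPoints.okPts table 12 fast 278250 250 = true := by decide +kernel

theorem pts1114_ok : FastPoints.okPts table 12 fast 278500 250 = true := by decide +kernel

theorem pts1115_ok : FastPoints.okPts table 12 fast 278750 250 = true := by decide +kernel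

theorem pts1116_ok : FastPoints.okPts table 12 fast 279000 250 = true := by decide +kernel

theorem pts1117_ok : FastPoints.okPts table 12 fast 279250 250 = true := by decide +kernel

theorem pts1118_ok : FastPoints.okPts table 12 fast 279500 250 = true := by decide +kernel

theorem pts1119_ok : FastPoints.okPts table 12 fast 279750 250 = true := by decide +kernel


end CfsgLib.CosetEnum.Fi24Table
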