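/-
Certificate data of the coset table of Fi24.
-/
import Cfsg.Agent.Lib.CosetEnum.Fi24Table.Data

set_option autoImplicit false
set_option Elab.async false
set_option maxRecDepth 1000000

namespace CfsgLib.CosetEnum.Fi24Table

open CfsgLib.CosetEnum

theorem pts112_ok : FastPoints.okPts table 12 fast 28000 250 = true := by decide +kernel

theorem pts113_ok : FastPoints.okPts table 12 fast 28250 250 = true := by decide +kernel

theorem pts114_ok : FastPoints.okPts table 12 fast 28500 250 = true := by decide +kernel

theorem pts115_ok : FastPoints.okPts table 12 fast 28750 250 = true := by decide +kernel

theorem pts116_ok : FastPoints.okPts table 12 fast 29000 250 = true := by decide +kernel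

theorem pts117_ok : FastPoints.okPts table 12 fast 29250 250 = true := by decide +kernel

theorem pts118_ok : FastPoints.okPts table 12 fast 29500 250 = true := by decide +kernel

theorem pts119_ok : FastPoints.okPts table 12 fast 29750 250 = true := by decide +kernel

theorem pts120_ok : FastPoints.okPts table 12 fast 30000 250 = true := by decide +kernel

theorem pts121_ok : FastPoints.okPts table 12 fast 30250 250 = true := by decide +kernel

theorem pts122_ok : FastPoints.okPts table 12 fast 30500 250 = true := by decide +kernel

theorem pts123_ok : FastPoints.okPts table 12 fast 30750 250 = true := by decide +kernel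

theorem pts124_ok : FastPoints.okPts table 12 fast 31000 250 = true := by decide +kernel

theorem pts125_ok : FastPoints.okPts table 12 fast 31250 250 = true := by decide +kernel

theorem pts126_ok : FastPoints.okPts table 12 fast 31500 250 = true := by decide +kernel

theorem pts127_ok : FastPoints.okPts table 12 fast 31750 250 = true := by decide +kernel


end CfsgLib.CosetEnum.Fi24Table
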