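/-
Certificate data of the coset table of Fi24.
-/
import Cfsg.Agent.Lib.CosetEnum.Fi24Table.Data

set_option autoImplicit false
set_option Elab.async false
set_option maxRecDepth 1000000

namespace CfsgLib.CosetEnum.Fi24Table

open CfsgLib.CosetEnum

theorem pts1136_ok : FastPoints.okPts table 12 fast 284000 250 = true := by decide +kernel

theorem pts1137_ok : FastPoints.okPts table 12 fast 284250 250 = true := by decide +kernel

theorem pts1138_ok : FastPoints.okPts table 12 fast 284500 250 = true := by decide +kernel

theorem pts1139_ok : FastPoints.okPts table 12 fast 284750 250 = true := by decide +kernel

theorem pts1140_ok : FastPoints.okPts table 12 fast 285000 250 = true := by decide +kernel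

theorem pts1141_ok : FastPoints.okPts table 12 fast 285250 250 = true := by decide +kernel

theorem pts1142_ok : FastPoints.okPts table 12 fast 285500 250 = true := by decide +kernel

theorem pts1143_ok : FastPoints.okPts table 12 fast 285750 250 = true := by decide +kernel

theorem pts1144_ok : FastPoints.okPts table 12 fast 286000 250 = true := by decide +kernel

theorem pts1145_ok : FastPoints.okPts table 12 fast 286250 250 = true := by decide +kernel

theorem pts1146_ok : FastPoints.okPts table 12 fast 286500 250 = true := by decide +kernel

theorem pts1147_ok : FastPoints.okPts table 12 fast 286750 250 = true := by decide +kernel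

theorem pts1148_ok : FastPoints.okPts table 12 fast 287000 250 = true := by decide +kernel

theorem pts1149_ok : FastPoints.okPts table 12 fast 287250 250 = true := by decide +kernel

theorem pts1150_ok : FastPoints.okPts table 12 fast 287500 250 = true := by decide +kernel

theorem pts1151_ok : FastPoints.okPts table 12 fast 287750 250 = true := by decide +kernel


end CfsgLib.CosetEnum.Fi24Table
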