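/-
Certificate data of the coset table of Fi24.
-/
import Cfsg.Agent.Lib.CosetEnum.Fi24Table.Data

set_option autoImplicit false
set_option Elab.async false
set_option maxRecDepth 1000000

namespace CfsgLib.CosetEnum.Fi24Table

open CfsgLib.CosetEnum

theorem pts1152_ok : FastPoints.okPts table 12 fast 288000 250 = true := by decide +kernel

theorem pts1153_ok : FastPoints.okPts table 12 fast 288250 250 = true := by decide +kernel

theorem pts1154_ok : FastPoints.okPts table 12 fast 288500 250 = true := by decide +kernel

theorem pts1155_ok : FastPoints.okPts table 12 fast 288750 250 = true := by decide +kernel

theorem pts1156_ok : FastPoints.okPts table 12 fast 289000 250 = true := by decide +kernel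

theorem pts1157_ok : FastPoints.okPts table 12 fast 289250 250 = true := by decide +kernel

theorem pts1158_ok : FastPoints.okPts table 12 fast 289500 250 = true := by decide +kernel

theorem pts1159_ok : FastPoints.okPts table 12 fast 289750 250 = true := by decide +kernel

theorem pts1160_ok : FastPoints.okPts table 12 fast 290000 250 = true := by decide +kernel

theorem pts1161_ok : FastPoints.okPts table 12 fast 290250 250 = true := by decide +kernel

theorem pts1162_ok : FastPoints.okPts table 12 fast 290500 250 = true := by decide +kernel

theorem pts1163_ok : FastPoints.okPts table 12 fast 290750 250 = true := by decide +kernel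

theorem pts1164_ok : FastPoints.okPts table 12 fast 291000 250 = true := by decide +kernel

theorem pts1165_ok : FastPoints.okPts table 12 fast 291250 250 = true := by decide +kernel

theorem pts1166_ok : FastPoints.okPts table 12 fast 291500 250 = true := by decide +kernel

theorem pts1167_ok : FastPoints.okPts table 12 fast 291750 250 = true := by decide +kernel


end CfsgLib.CosetEnum.Fi24Table
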