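/-
Certificate data of the coset table of Fi24.
-/
import Cfsg.Agent.Lib.CosetEnum.Fi24Table.Data

set_option autoImplicit false
set_option Elab.async false
set_option maxRecDepth 1000000

namespace CfsgLib.CosetEnum.Fi24Table

open CfsgLib.CosetEnum

theorem pts1168_ok : FastPoints.okPts table 12 fast 292000 250 = true := by decide +kernel

theorem pts1169_ok : FastPoints.okPts table 12 fast 292250 250 = true := by decide +kernel

theorem pts1170_ok : FastPoints.okPts table 12 fast 292500 250 = true := by decide +kernel

theorem pts1171_ok : FastPoints.okPts table 12 fast 292750 250 = true := by decide +kernel

theorem pts1172_ok : FastPoints.okPts table 12 fast 293000 250 = true := by decide +kernel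

theorem pts1173_ok : FastPoints.okPts table 12 fast 293250 250 = true := by decide +kernel

theorem pts1174_ok : FastPoints.okPts table 12 fast 293500 250 = true := by decide +kernel

theorem pts1175_ok : FastPoints.okPts table 12 fast 293750 250 = true := by decide +kernel

theorem pts1176_ok : FastPoints.okPts table 12 fast 294000 250 = true := by decide +kernel

theorem pts1177_ok : FastPoints.okPts table 12 fast 294250 250 = true := by decide +kernel

theorem pts1178_ok : FastPoints.okPts table 12 fast 294500 250 = true := by decide +kernel

theorem pts1179_ok : FastPoints.okPts table 12 fast 294750 250 = true := by decide +kernel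

theorem pts1180_ok : FastPoints.okPts table 12 fast 295000 250 = true := by decide +kernel

theorem pts1181_ok : FastPoints.okPts table 12 fast 295250 250 = true := by decide +kernel

theorem pts1182_ok : FastPoints.okPts table 12 fast 295500 250 = true := by decide +kernel

theorem pts1183_ok : FastPoints.okPts table 12 fast 295750 250 = true := by decide +kernel


end CfsgLib.CosetEnum.Fi24Table
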