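/-
Certificate data of the coset table of Fi24.
-/
import Cfsg.Agent.Lib.CosetEnum.Fi24Table.Data

set_option autoImplicit false
set_option Elab.async false
set_option maxRecDepth 1000000

namespace CfsgLib.CosetEnum.Fi24Table

open CfsgLib.CosetEnum

theorem pts1184_ok : FastPoints.okPts table 12 fast 296000 250 = true := by decide +kernel

theorem pts1185_ok : FastPoints.okPts table 12 fast 296250 250 = true := by decide +kernel

theorem pts1186_ok : FastPoints.okPts table 12 fast 296500 250 = true := by decide +kernel

theorem pts1187_ok : FastPoints.okPts table 12 fast 296750 250 = true := by decide +kernel

theorem pts1188_ok : FastPoints.okPts table 12 fast 297000 250 = true := by decide +kernel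

theorem pts1189_ok : FastPoints.okPts table 12 fast 297250 250 = true := by decide +kernel

theorem pts1190_ok : FastPoints.okPts table 12 fast 297500 250 = true := by decide +kernel

theorem pts1191_ok : FastPoints.okPts table 12 fast 297750 250 = true := by decide +kernel

theorem pts1192_ok : FastPoints.okPts table 12 fast 298000 250 = true := by decide +kernel

theorem pts1193_ok : FastPoints.okPts table 12 fast 298250 250 = true := by decide +kernel

theorem pts1194_ok : FastPoints.okPts table 12 fast 298500 250 = true := by decide +kernel

theorem pts1195_ok : FastPoints.okPts table 12 fast 298750 250 = true := by decide +kernel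

theorem pts1196_ok : FastPoints.okPts table 12 fast 299000 250 = true := by decide +kernel

theorem pts1197_ok : FastPoints.okPts table 12 fast 299250 250 = true := by decide +kernel

theorem pts1198_ok : FastPoints.okPts table 12 fast 299500 250 = true := by decide +kernel

theorem pts1199_ok : FastPoints.okPts table 12 fast 299750 250 = true := by decide +kernel


end CfsgLib.CosetEnum.Fi24Table
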