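/-
Certificate data of the coset table of Fi24.
-/
import Cfsg.Agent.Lib.CosetEnum.Fi24Table.Data

set_option autoImplicit false
set_option Elab.async false
set_option maxRecDepth 1000000

namespace CfsgLib.CosetEnum.Fi24Table

open CfsgLib.CosetEnum

theorem pts1200_ok : FastPoints.okPts table 12 fast 300000 250 = true := by decide +kernel

theorem pts1201_ok : FastPoints.okPts table 12 fast 300250 250 = true := by decide +kernel

theorem pts1202_ok : FastPoints.okPts table 12 fast 300500 250 = true := by decide +kernel

theorem pts1203_ok : FastPoints.okPts table 12 fast 300750 250 = true := by decide +kernel

theorem pts1204_ok : FastPoints.okPts table 12 fast 301000 250 = true := by decide +kernel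

theorem pts1205_ok : FastPoints.okPts table 12 fast 301250 250 = true := by decide +kernel

theorem pts1206_ok : FastPoints.okPts table 12 fast 301500 250 = true := by decide +kernel

theorem pts1207_ok : FastPoints.okPts table 12 fast 301750 250 = true := by decide +kernel

theorem pts1208_ok : FastPoints.okPts table 12 fast 302000 250 = true := by decide +kernel

theorem pts1209_ok : FastPoints.okPts table 12 fast 302250 250 = true := by decide +kernel

theorem pts1210_ok : FastPoints.okPts table 12 fast 302500 250 = true := by decide +kernel

theorem pts1211_ok : FastPoints.okPts table 12 fast 302750 250 = true := by decide +kernel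

theorem pts1212_ok : FastPoints.okPts table 12 fast 303000 250 = true := by decide +kernel

theorem pts1213_ok : FastPoints.okPts table 12 fast 303250 250 = true := by decide +kernel

theorem pts1214_ok : FastPoints.okPts table 12 fast 303500 250 = true := by decide +kernel

theorem pts1215_ok : FastPoints.okPts table 12 fast 303750 250 = true := by decide +kernel


end CfsgLib.CosetEnum.Fi24Table
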