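/-
Certificate data of the coset table of Fi24.
-/
import Cfsg.Agent.Lib.CosetEnum.Fi24Table.Data

set_option autoImplicit false
set_option Elab.async false
set_option maxRecDepth 1000000

namespace CfsgLib.CosetEnum.Fi24Table

open CfsgLib.CosetEnum

theorem pts1216_ok : FastPoints.okPts table 12 fast 304000 250 = true := by decide +kernel

theorem pts1217_ok : FastPoints.okPts table 12 fast 304250 250 = true := by decide +kernel

theorem pts1218_ok : FastPoints.okPts table 12 fast 304500 250 = true := by decide +kernel

theorem pts1219_ok : FastPoints.okPts table 12 fast 304750 250 = true := by decide +kernel

theorem pts1220_ok : FastPoints.okPts table 12 fast 305000 250 = true := by decide +kernel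

theorem pts1221_ok : FastPoints.okPts table 12 fast 305250 250 = true := by decide +kernel

theorem pts1222_ok : FastPoints.okPts table 12 fast 305500 250 = true := by decide +kernel

theorem pts1223_ok : FastPoints.okPts table 12 fast 305750 250 = true := by decide +kernel

theorem pts1224_ok : FastPoints.okPts table 12 fast 306000 250 = true := by decide +kernel

theorem pts1225_ok : FastPoints.okPts table 12 fast 306250 250 = true := by decide +kernel

theorem pts1226_ok : FastPoints.okPts table 12 fast 306500 250 = true := by decide +kernel

theorem pts1227_ok : FastPoints.okPts table 12 fast 306750 186 = true := by decide +kernel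


end CfsgLib.CosetEnum.Fi24Table
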