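/-
Certificate data of the coset table of Fi24.
-/
import Cfsg.Agent.Lib.CosetEnum.Fi24Table.Data

set_option autoImplicit false
set_option Elab.async false
set_option maxRecDepth 1000000

namespace CfsgLib.CosetEnum.Fi24Table

open CfsgLib.CosetEnum

theorem pts128_ok : FastPoints.okPts table 12 fast 32000 250 = true := by decide +kernel

theorem pts129_ok : FastPoints.okPts table 12 fast 32250 250 = true := by decide +kernel

theorem pts130_ok : FastPoints.okPts table 12 fast 32500 250 = true := by decide +kernel

theorem pts131_ok : FastPoints.okPts table 12 fast 32750 250 = true := by decide +kernel

theorem pts132_ok : FastPoints.okPts table 12 fast 33000 250 = true := by decide +kernel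

theorem pts133_ok : FastPoints.okPts table 12 fast 33250 250 = true := by decide +kernel

theorem pts134_ok : FastPoints.okPts table 12 fast 33500 250 = true := by decide +kernel

theorem pts135_ok : FastPoints.okPts table 12 fast 33750 250 = true := by decide +kernel

theorem pts136_ok : FastPoints.okPts table 12 fast 34000 250 = true := by decide +kernel

theorem pts137_ok : FastPoints.okPts table 12 fast 34250 250 = true := by decide +kernel

theorem pts138_ok : FastPoints.okPts table 12 fast 34500 250 = true := by decide +kernel

theorem pts139_ok : FastPoints.okPts table 12 fast 34750 250 = true := by decide +kernel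

theorem pts140_ok : FastPoints.okPts table 12 fast 35000 250 = true := by decide +kernel

theorem pts141_ok : FastPoints.okPts table 12 fast 35250 250 = true := by decide +kernel

theorem pts142_ok : FastPoints.okPts table 12 fast 35500 250 = true := by decide +kernel

theorem pts143_ok : FastPoints.okPts table 12 fast 35750 250 = true := by decide +kernel


end CfsgLib.CosetEnum.Fi24Table
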