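/-
Certificate data of the coset table of Fi24.
-/
import Cfsg.Agent.Lib.CosetEnum.Fi24Table.Data

set_option autoImplicit false
set_option Elab.async false
set_option maxRecDepth 1000000

namespace CfsgLib.CosetEnum.Fi24Table

open CfsgLib.CosetEnum

theorem pts144_ok : FastPoints.okPts table 12 fast 36000 250 = true := by decide +kernel

theorem pts145_ok : FastPoints.okPts table 12 fast 36250 250 = true := by decide +kernel

theorem pts146_ok : FastPoints.okPts table 12 fast 36500 250 = true := by decide +kernel

theorem pts147_ok : FastPoints.okPts table 12 fast 36750 250 = true := by decide +kernel

theorem pts148_ok : FastPoints.okPts table 12 fast 37000 250 = true := by decide +kernel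

theorem pts149_ok : FastPoints.okPts table 12 fast 37250 250 = true := by decide +kernel

theorem pts150_ok : FastPoints.okPts table 12 fast 37500 250 = true := by decide +kernel

theorem pts151_ok : FastPoints.okPts table 12 fast 37750 250 = true := by decide +kernel

theorem pts152_ok : FastPoints.okPts table 12 fast 38000 250 = true := by decide +kernel

theorem pts153_ok : FastPoints.okPts table 12 fast 38250 250 = true := by decide +kernel

theorem pts154_ok : FastPoints.okPts table 12 fast 38500 250 = true := by decide +kernel

theorem pts155_ok : FastPoints.okPts table 12 fast 38750 250 = true := by decide +kernel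

theorem pts156_ok : FastPoints.okPts table 12 fast 39000 250 = true := by decide +kernel

theorem pts157_ok : FastPoints.okPts table 12 fast 39250 250 = true := by decide +kernel

theorem pts158_ok : FastPoints.okPts table 12 fast 39500 250 = true := by decide +kernel

theorem pts159_ok : FastPoints.okPts table 12 fast 39750 250 = true := by decide +kernel


end CfsgLib.CosetEnum.Fi24Table
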