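/-
The certified coset table of Fi24 on its 306936 points.
-/
import Cfsg.Agent.Lib.CosetEnum.Fi24Table.Points0
import Cfsg.Agent.Lib.CosetEnum.Fi24Table.Points1
import Cfsg.Agent.Lib.CosetEnum.Fi24Table.Points2
import Cfsg.Agent.Lib.CosetEnum.Fi24Table.Points3
import Cfsg.Agent.Lib.CosetEnum.Fi24Table.Points4
import Cfsg.Agent.Lib.CosetEnum.Fi24Table.Points5
import Cfsg.Agent.Lib.CosetEnum.Fi24Table.Points6
import Cfsg.Agent.Lib.CosetEnum.Fi24Table.Points7
import Cfsg.Agent.Lib.CosetEnum.Fi24Table.Points8
import Cfsg.Agent.Lib.CosetEnum.Fi24Table.Points9
import Cfsg.Agent.Lib.CosetEnum.Fi24Table.Points10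
import Cfsg.Agent.Lib.CosetEnum.Fi24Table.Points11
import Cfsg.Agent.Lib.CosetEnum.Fi24Table.Points12
import Cfsg.Agent.Lib.CosetEnum.Fi24Table.Points13
import Cfsg.Agent.Lib.CosetEnum.Fi24Table.Points14
import Cfsg.Agent.Lib.CosetEnum.Fi24Table.Points15
import Cfsg.Agent.Lib.CosetEnum.Fi24Table.Points16
import Cfsg.Agent.Lib.CosetEnum.Fi24Table.Points17
import Cfsg.Agent.Lib.CosetEnum.Fi24Table.Points18
import Cfsg.Agent.Lib.CosetEnum.Fi24Table.Points19
import Cfsg.Agent.Lib.CosetEnum.Fi24Table.Points20
import Cfsg.Agent.Lib.CosetEnum.Fi24Table.Points21
import Cfsg.Agent.Lib.CosetEnum.Fi24Table.Points22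
import Cfsg.Agent.Lib.CosetEnum.Fi24Table.Points23
import Cfsg.Agent.Lib.CosetEnum.Fi24Table.Points24
import Cfsg.Agent.Lib.CosetEnum.Fi24Table.Points25
import Cfsg.Agent.Lib.CosetEnum.Fi24Table.Points26
import Cfsg.Agent.Lib.CosetEnum.Fi24Table.Points27
import Cfsg.Agent.Lib.CosetEnum.Fi24Table.Points28
import Cfsg.Agent.Lib.CosetEnum.Fi24Table.Points29
import Cfsg.Agent.Lib.CosetEnum.Fi24Table.Points30
import Cfsg.Agent.Lib.CosetEnum.Fi24Table.Points31
import Cfsg.Agent.Lib.CosetEnum.Fi24Table.Points32
import Cfsg.Agent.Lib.CosetEnum.Fi24Table.Points33
import Cfsg.Agent.Lib.CosetEnum.Fi24Table.Points34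
import Cfsg.Agent.Lib.CosetEnum.Fi24Table.Points35
import Cfsg.Agent.Lib.CosetEnum.Fi24Table.Points36
import Cfsg.Agent.Lib.CosetEnum.Fi24Table.Points37
import Cfsg.Agent.Lib.CosetEnum.Fi24Table.Points38
import Cfsg.Agent.Lib.CosetEnum.Fi24Table.Points39
import Cfsg.Agent.Lib.CosetEnum.Fi24Table.Points40
import Cfsg.Agent.Lib.CosetEnum.Fi24Table.Points41
import Cfsg.Agent.Lib.CosetEnum.Fi24Table.Points42
import Cfsg.Agent.Lib.CosetEnum.Fi24Table.Points43
import Cfsg.Agent.Lib.CosetEnum.Fi24Table.Points44
import Cfsg.Agent.Lib.CosetEnum.Fi24Table.Points45
import Cfsg.Agent.Lib.CosetEnum.Fi24Table.Points46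
import Cfsg.Agent.Lib.CosetEnum.Fi24Table.Points47
import Cfsg.Agent.Lib.CosetEnum.Fi24Table.Points48
import Cfsg.Agent.Lib.CosetEnum.Fi24Table.Points49
import Cfsg.Agent.Lib.CosetEnum.Fi24Table.Points50
import Cfsg.Agent.Lib.CosetEnum.Fi24Table.Points51
import Cfsg.Agent.Lib.CosetEnum.Fi24Table.Points52
import Cfsg.Agent.Lib.CosetEnum.Fi24Table.Points53
import Cfsg.Agent.Lib.CosetEnum.Fi24Table.Points54
import Cfsg.Agent.Lib.CosetEnum.Fi24Table.Points55
import Cfsg.Agent.Lib.CosetEnum.Fi24Table.Points56
import Cfsg.Agent.Lib.CosetEnum.Fi24Table.Points57
import Cfsg.Agent.Lib.CosetEnum.Fi24Table.Points58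
import Cfsg.Agent.Lib.CosetEnum.Fi24Table.Points59
import Cfsg.Agent.Lib.CosetEnum.Fi24Table.Points60
import Cfsg.Agent.Lib.CosetEnum.Fi24Table.Points61
import Cfsg.Agent.Lib.CosetEnum.Fi24Table.Points62
import Cfsg.Agent.Lib.CosetEnum.Fi24Table.Points63
import Cfsg.Agent.Lib.CosetEnum.Fi24Table.Points64
import Cfsg.Agent.Lib.CosetEnum.Fi24Table.Points65
import Cfsg.Agent.Lib.CosetEnum.Fi24Table.Points66
import Cfsg.Agent.Lib.CosetEnum.Fi24Table.Points67
import Cfsg.Agent.Lib.CosetEnum.Fi24Table.Points68
import Cfsg.Agent.Lib.CosetEnum.Fi24Table.Points69
import Cfsg.Agent.Lib.CosetEnum.Fi24Table.Points70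
import Cfsg.Agent.Lib.CosetEnum.Fi24Table.Points71
import Cfsg.Agent.Lib.CosetEnum.Fi24Table.Points72
import Cfsg.Agent.Lib.CosetEnum.Fi24Table.Points73
import Cfsg.Agent.Lib.CosetEnum.Fi24Table.Points74
import Cfsg.Agent.Lib.CosetEnum.Fi24Table.Points75
import Cfsg.Agent.Lib.CosetEnum.Fi24Table.Points76

set_option autoImplicit false
set_option maxRecDepth 1000000

namespace CfsgLib.CosetEnum.Fi24Table

open CfsgLib.CosetEnum

theorem points0 : ∀ d < 250, FastPoints.okPt table 12 fast d = true :=
  FastPoints.okPts_sound table 12 pts0_ok (fun d hd => absurd hd (Nat.not_lt_zero d))

theorem points1 : ∀ d < 500, FastPoints.okPt table 12 fast d = true :=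
  FastPoints.okPts_sound table 12 pts1_ok (points0)

theorem points2 : ∀ d < 750, FastPoints.okPt table 12 fast d = true :=
  FastPoints.okPts_sound table 12 pts2_ok (points1)

theorem points3 : ∀ d < 1000, FastPoints.okPt table 12 fast d = true :=
  FastPoints.okPts_sound table 12 pts3_ok (points2)

theorem points4 : ∀ d < 1250, FastPoints.okPt table 12 fast d = true :=
  FastPoints.okPts_sound table 12 pts4_ok (points3)

theorem points5 : ∀ d < 1500, FastPoints.okPt table 12 fast d = true :=
  FastPoints.okPts_sound table 12 pts5_ok (points4)

theorem points6 : ∀ d < 1750, FastPoints.okPt table 12 fast d = true :=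
  FastPoints.okPts_sound table 12 pts6_ok (points5)

theorem points7 : ∀ d < 2000, FastPoints.okPt table 12 fast d = true :=
  FastPoints.okPts_sound table 12 pts7_ok (points6)

theorem points8 : ∀ d < 2250, FastPoints.okPt table 12 fast d = true :=
  FastPoints.okPts_sound table 12 pts8_ok (points7)

theorem points9 : ∀ d < 2500, FastPoints.okPt table 12 fast d = true :=
  FastPoints.okPts_sound table 12 pts9_ok (points8)

theorem points10 : ∀ d < 2750, FastPoints.okPt table 12 fast d = true :=
  FastPoints.okPts_sound table 12 pts10_ok (points9)

theorem points11 : ∀ d < 3000, FastPoints.okPt table 12 fast d = true :=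
  FastPoints.okPts_sound table 12 pts11_ok (points10)

theorem points12 : ∀ d < 3250, FastPoints.okPt table 12 fast d = true :=
  FastPoints.okPts_sound table 12 pts12_ok (points11)

theorem points13 : ∀ d < 3500, FastPoints.okPt table 12 fast d = true :=
  FastPoints.okPts_sound table 12 pts13_ok (points12)

theorem points14 : ∀ d < 3750, FastPoints.okPt table 12 fast d = true :=
  FastPoints.okPts_sound table 12 pts14_ok (points13)

theorem points15 : ∀ d < 4000, FastPoints.okPt table 12 fast d = true :=
  FastPoints.okPts_sound table 12 pts15_ok (points14)

theorem points16 : ∀ d < 4250, FastPoints.okPt table 12 fast d = true :=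
  FastPoints.okPts_sound table 12 pts16_ok (points15)

theorem points17 : ∀ d < 4500, FastPoints.okPt table 12 fast d = true :=
  FastPoints.okPts_sound table 12 pts17_ok (points16)

theorem points18 : ∀ d < 4750, FastPoints.okPt table 12 fast d = true :=
  FastPoints.okPts_sound table 12 pts18_ok (points17)

theorem points19 : ∀ d < 5000, FastPoints.okPt table 12 fast d = true :=
  FastPoints.okPts_sound table 12 pts19_ok (points18)

theorem points20 : ∀ d < 5250, FastPoints.okPt table 12 fast d = true :=
  FastPoints.okPts_sound table 12 pts20_ok (points19)

theorem points21 : ∀ d < 5500, FastPoints.okPt table 12 fast d = true :=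
  FastPoints.okPts_sound table 12 pts21_ok (points20)

theorem points22 : ∀ d < 5750, FastPoints.okPt table 12 fast d = true :=
  FastPoints.okPts_sound table 12 pts22_ok (points21)

theorem points23 : ∀ d < 6000, FastPoints.okPt table 12 fast d = true :=
  FastPoints.okPts_sound table 12 pts23_ok (points22)

theorem points24 : ∀ d < 6250, FastPoints.okPt table 12 fast d = true :=
  FastPoints.okPts_sound table 12 pts24_ok (points23)

theorem points25 : ∀ d < 6500, FastPoints.okPt table 12 fast d = true :=
  FastPoints.okPts_sound table 12 pts25_ok (points24)

theorem points26 : ∀ d < 6750, FastPoints.okPt table 12 fast d = true :=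
  FastPoints.okPts_sound table 12 pts26_ok (points25)

theorem points27 : ∀ d < 7000, FastPoints.okPt table 12 fast d = true :=
  FastPoints.okPts_sound table 12 pts27_ok (points26)

theorem points28 : ∀ d < 7250, FastPoints.okPt table 12 fast d = true :=
  FastPoints.okPts_sound table 12 pts28_ok (points27)

theorem points29 : ∀ d < 7500, FastPoints.okPt table 12 fast d = true :=
  FastPoints.okPts_sound table 12 pts29_ok (points28)

theorem points30 : ∀ d < 7750, FastPoints.okPt table 12 fast d = true :=
  FastPoints.okPts_sound table 12 pts30_ok (points29)

theorem points31 : ∀ d < 8000, FastPoints.okPt table 12 fast d = true :=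
  FastPoints.okPts_sound table 12 pts31_ok (points30)

theorem points32 : ∀ d < 8250, FastPoints.okPt table 12 fast d = true :=
  FastPoints.okPts_sound table 12 pts32_ok (points31)

theorem points33 : ∀ d < 8500, FastPoints.okPt table 12 fast d = true :=
  FastPoints.okPts_sound table 12 pts33_ok (points32)

theorem points34 : ∀ d < 8750, FastPoints.okPt table 12 fast d = true :=
  FastPoints.okPts_sound table 12 pts34_ok (points33)

theorem points35 : ∀ d < 9000, FastPoints.okPt table 12 fast d = true :=
  FastPoints.okPts_sound table 12 pts35_ok (points34)

theorem points36 : ∀ d < 9250, FastPoints.okPt table 12 fast d = true :=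
  FastPoints.okPts_sound table 12 pts36_ok (points35)

theorem points37 : ∀ d < 9500, FastPoints.okPt table 12 fast d = true :=
  FastPoints.okPts_sound table 12 pts37_ok (points36)

theorem points38 : ∀ d < 9750, FastPoints.okPt table 12 fast d = true :=
  FastPoints.okPts_sound table 12 pts38_ok (points37)

theorem points39 : ∀ d < 10000, FastPoints.okPt table 12 fast d = true :=
  FastPoints.okPts_sound table 12 pts39_ok (points38)

theorem points40 : ∀ d < 10250, FastPoints.okPt table 12 fast d = true :=
  FastPoints.okPts_sound table 12 pts40_ok (points39)

theorem points41 : ∀ d < 10500, FastPoints.okPt table 12 fast d = true :=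
  FastPoints.okPts_sound table 12 pts41_ok (points40)

theorem points42 : ∀ d < 10750, FastPoints.okPt table 12 fast d = true :=
  FastPoints.okPts_sound table 12 pts42_ok (points41)

theorem points43 : ∀ d < 11000, FastPoints.okPt table 12 fast d = true :=
  FastPoints.okPts_sound table 12 pts43_ok (points42)

theorem points44 : ∀ d < 11250, FastPoints.okPt table 12 fast d = true :=
  FastPoints.okPts_sound table 12 pts44_ok (points43)

theorem points45 : ∀ d < 11500, FastPoints.okPt table 12 fast d = true :=
  FastPoints.okPts_sound table 12 pts45_ok (points44)

theorem points46 : ∀ d < 11750, FastPoints.okPt table 12 fast d = true :=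
  FastPoints.okPts_sound table 12 pts46_ok (points45)

theorem points47 : ∀ d < 12000, FastPoints.okPt table 12 fast d = true :=
  FastPoints.okPts_sound table 12 pts47_ok (points46)

theorem points48 : ∀ d < 12250, FastPoints.okPt table 12 fast d = true :=
  FastPoints.okPts_sound table 12 pts48_ok (points47)

theorem points49 : ∀ d < 12500, FastPoints.okPt table 12 fast d = true :=
  FastPoints.okPts_sound table 12 pts49_ok (points48)

theorem points50 : ∀ d < 12750, FastPoints.okPt table 12 fast d = true :=
  FastPoints.okPts_sound table 12 pts50_ok (points49)

theorem points51 : ∀ d < 13000, FastPoints.okPt table 12 fast d = true :=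
  FastPoints.okPts_sound table 12 pts51_ok (points50)

theorem points52 : ∀ d < 13250, FastPoints.okPt table 12 fast d = true :=
  FastPoints.okPts_sound table 12 pts52_ok (points51)

theorem points53 : ∀ d < 13500, FastPoints.okPt table 12 fast d = true :=
  FastPoints.okPts_sound table 12 pts53_ok (points52)

theorem points54 : ∀ d < 13750, FastPoints.okPt table 12 fast d = true :=
  FastPoints.okPts_sound table 12 pts54_ok (points53)

theorem points55 : ∀ d < 14000, FastPoints.okPt table 12 fast d = true :=
  FastPoints.okPts_sound table 12 pts55_ok (points54)

theorem points56 : ∀ d < 14250, FastPoints.okPt table 12 fast d = true :=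
  FastPoints.okPts_sound table 12 pts56_ok (points55)

theorem points57 : ∀ d < 14500, FastPoints.okPt table 12 fast d = true :=
  FastPoints.okPts_sound table 12 pts57_ok (points56)

theorem points58 : ∀ d < 14750, FastPoints.okPt table 12 fast d = true :=
  FastPoints.okPts_sound table 12 pts58_ok (points57)

theorem points59 : ∀ d < 15000, FastPoints.okPt table 12 fast d = true :=
  FastPoints.okPts_sound table 12 pts59_ok (points58)

theorem points60 : ∀ d < 15250, FastPoints.okPt table 12 fast d = true :=
  FastPoints.okPts_sound table 12 pts60_ok (points59)

theorem points61 : ∀ d < 15500, FastPoints.okPt table 12 fast d = true :=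
  FastPoints.okPts_sound table 12 pts61_ok (points60)

theorem points62 : ∀ d < 15750, FastPoints.okPt table 12 fast d = true :=
  FastPoints.okPts_sound table 12 pts62_ok (points61)

theorem points63 : ∀ d < 16000, FastPoints.okPt table 12 fast d = true :=
  FastPoints.okPts_sound table 12 pts63_ok (points62)

theorem points64 : ∀ d < 16250, FastPoints.okPt table 12 fast d = true :=
  FastPoints.okPts_sound table 12 pts64_ok (points63)

theorem points65 : ∀ d < 16500, FastPoints.okPt table 12 fast d = true :=
  FastPoints.okPts_sound table 12 pts65_ok (points64)

theorem points66 : ∀ d < 16750, FastPoints.okPt table 12 fast d = true :=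
  FastPoints.okPts_sound table 12 pts66_ok (points65)

theorem points67 : ∀ d < 17000, FastPoints.okPt table 12 fast d = true :=
  FastPoints.okPts_sound table 12 pts67_ok (points66)

theorem points68 : ∀ d < 17250, FastPoints.okPt table 12 fast d = true :=
  FastPoints.okPts_sound table 12 pts68_ok (points67)

theorem points69 : ∀ d < 17500, FastPoints.okPt table 12 fast d = true :=
  FastPoints.okPts_sound table 12 pts69_ok (points68)

theorem points70 : ∀ d < 17750, FastPoints.okPt table 12 fast d = true :=
  FastPoints.okPts_sound table 12 pts70_ok (points69)

theorem points71 : ∀ d < 18000, FastPoints.okPt table 12 fast d = true :=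
  FastPoints.okPts_sound table 12 pts71_ok (points70)

theorem points72 : ∀ d < 18250, FastPoints.okPt table 12 fast d = true :=
  FastPoints.okPts_sound table 12 pts72_ok (points71)

theorem points73 : ∀ d < 18500, FastPoints.okPt table 12 fast d = true :=
  FastPoints.okPts_sound table 12 pts73_ok (points72)

theorem points74 : ∀ d < 18750, FastPoints.okPt table 12 fast d = true :=
  FastPoints.okPts_sound table 12 pts74_ok (points73)

theorem points75 : ∀ d < 19000, FastPoints.okPt table 12 fast d = true :=
  FastPoints.okPts_sound table 12 pts75_ok (points74)

theorem points76 : ∀ d < 19250, FastPoints.okPt table 12 fast d = true :=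
  FastPoints.okPts_sound table 12 pts76_ok (points75)

theorem points77 : ∀ d < 19500, FastPoints.okPt table 12 fast d = true :=
  FastPoints.okPts_sound table 12 pts77_ok (points76)

theorem points78 : ∀ d < 19750, FastPoints.okPt table 12 fast d = true :=
  FastPoints.okPts_sound table 12 pts78_ok (points77)

theorem points79 : ∀ d < 20000, FastPoints.okPt table 12 fast d = true :=
  FastPoints.okPts_sound table 12 pts79_ok (points78)

theorem points80 : ∀ d < 20250, FastPoints.okPt table 12 fast d = true :=
  FastPoints.okPts_sound table 12 pts80_ok (points79)

theorem points81 : ∀ d < 20500, FastPoints.okPt table 12 fast d = true :=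
  FastPoints.okPts_sound table 12 pts81_ok (points80)

theorem points82 : ∀ d < 20750, FastPoints.okPt table 12 fast d = true :=
  FastPoints.okPts_sound table 12 pts82_ok (points81)

theorem points83 : ∀ d < 21000, FastPoints.okPt table 12 fast d = true :=
  FastPoints.okPts_sound table 12 pts83_ok (points82)

theorem points84 : ∀ d < 21250, FastPoints.okPt table 12 fast d = true :=
  FastPoints.okPts_sound table 12 pts84_ok (points83)

theorem points85 : ∀ d < 21500, FastPoints.okPt table 12 fast d = true :=
  FastPoints.okPts_sound table 12 pts85_ok (points84)

theorem points86 : ∀ d < 21750, FastPoints.okPt table 12 fast d = true :=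
  FastPoints.okPts_sound table 12 pts86_ok (points85)

theorem points87 : ∀ d < 22000, FastPoints.okPt table 12 fast d = true :=
  FastPoints.okPts_sound table 12 pts87_ok (points86)

theorem points88 : ∀ d < 22250, FastPoints.okPt table 12 fast d = true :=
  FastPoints.okPts_sound table 12 pts88_ok (points87)

theorem points89 : ∀ d < 22500, FastPoints.okPt table 12 fast d = true :=
  FastPoints.okPts_sound table 12 pts89_ok (points88)

theorem points90 : ∀ d < 22750, FastPoints.okPt table 12 fast d = true :=
  FastPoints.okPts_sound table 12 pts90_ok (points89)

theorem points91 : ∀ d < 23000, FastPoints.okPt table 12 fast d = true :=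
  FastPoints.okPts_sound table 12 pts91_ok (points90)

theorem points92 : ∀ d < 23250, FastPoints.okPt table 12 fast d = true :=
  FastPoints.okPts_sound table 12 pts92_ok (points91)

theorem points93 : ∀ d < 23500, FastPoints.okPt table 12 fast d = true :=
  FastPoints.okPts_sound table 12 pts93_ok (points92)

theorem points94 : ∀ d < 23750, FastPoints.okPt table 12 fast d = true :=
  FastPoints.okPts_sound table 12 pts94_ok (points93)

theorem points95 : ∀ d < 24000, FastPoints.okPt table 12 fast d = true :=
  FastPoints.okPts_sound table 12 pts95_ok (points94)

theorem points96 : ∀ d < 24250, FastPoints.okPt table 12 fast d = true :=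
  FastPoints.okPts_sound table 12 pts96_ok (points95)

theorem points97 : ∀ d < 24500, FastPoints.okPt table 12 fast d = true :=
  FastPoints.okPts_sound table 12 pts97_ok (points96)

theorem points98 : ∀ d < 24750, FastPoints.okPt table 12 fast d = true :=
  FastPoints.okPts_sound table 12 pts98_ok (points97)

theorem points99 : ∀ d < 25000, FastPoints.okPt table 12 fast d = true :=
  FastPoints.okPts_sound table 12 pts99_ok (points98)

theorem points100 : ∀ d < 25250, FastPoints.okPt table 12 fast d = true :=
  FastPoints.okPts_sound table 12 pts100_ok (points99)

theorem points101 : ∀ d < 25500, FastPoints.okPt table 12 fast d = true :=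
  FastPoints.okPts_sound table 12 pts101_ok (points100)

theorem points102 : ∀ d < 25750, FastPoints.okPt table 12 fast d = true :=
  FastPoints.okPts_sound table 12 pts102_ok (points101)

theorem points103 : ∀ d < 26000, FastPoints.okPt table 12 fast d = true :=
  FastPoints.okPts_sound table 12 pts103_ok (points102)

theorem points104 : ∀ d < 26250, FastPoints.okPt table 12 fast d = true :=
  FastPoints.okPts_sound table 12 pts104_ok (points103)

theorem points105 : ∀ d < 26500, FastPoints.okPt table 12 fast d = true :=
  FastPoints.okPts_sound table 12 pts105_ok (points104)

theorem points106 : ∀ d < 26750, FastPoints.okPt table 12 fast d = true :=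
  FastPoints.okPts_sound table 12 pts106_ok (points105)

theorem points107 : ∀ d < 27000, FastPoints.okPt table 12 fast d = true :=
  FastPoints.okPts_sound table 12 pts107_ok (points106)

theorem points108 : ∀ d < 27250, FastPoints.okPt table 12 fast d = true :=
  FastPoints.okPts_sound table 12 pts108_ok (points107)

theorem points109 : ∀ d < 27500, FastPoints.okPt table 12 fast d = true :=
  FastPoints.okPts_sound table 12 pts109_ok (points108)

theorem points110 : ∀ d < 27750, FastPoints.okPt table 12 fast d = true :=
  FastPoints.okPts_sound table 12 pts110_ok (points109)

theorem points111 : ∀ d < 28000, FastPoints.okPt table 12 fast d = true :=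
  FastPoints.okPts_sound table 12 pts111_ok (points110)

theorem points112 : ∀ d < 28250, FastPoints.okPt table 12 fast d = true :=
  FastPoints.okPts_sound table 12 pts112_ok (points111)

theorem points113 : ∀ d < 28500, FastPoints.okPt table 12 fast d = true :=
  FastPoints.okPts_sound table 12 pts113_ok (points112)

theorem points114 : ∀ d < 28750, FastPoints.okPt table 12 fast d = true :=
  FastPoints.okPts_sound table 12 pts114_ok (points113)

theorem points115 : ∀ d < 29000, FastPoints.okPt table 12 fast d = true :=
  FastPoints.okPts_sound table 12 pts115_ok (points114)

theorem points116 : ∀ d < 29250, FastPoints.okPt table 12 fast d = true :=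
  FastPoints.okPts_sound table 12 pts116_ok (points115)

theorem points117 : ∀ d < 29500, FastPoints.okPt table 12 fast d = true :=
  FastPoints.okPts_sound table 12 pts117_ok (points116)

theorem points118 : ∀ d < 29750, FastPoints.okPt table 12 fast d = true :=
  FastPoints.okPts_sound table 12 pts118_ok (points117)

theorem points119 : ∀ d < 30000, FastPoints.okPt table 12 fast d = true :=
  FastPoints.okPts_sound table 12 pts119_ok (points118)

theorem points120 : ∀ d < 30250, FastPoints.okPt table 12 fast d = true :=
  FastPoints.okPts_sound table 12 pts120_ok (points119)

theorem points121 : ∀ d < 30500, FastPoints.okPt table 12 fast d = true :=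
  FastPoints.okPts_sound table 12 pts121_ok (points120)

theorem points122 : ∀ d < 30750, FastPoints.okPt table 12 fast d = true :=
  FastPoints.okPts_sound table 12 pts122_ok (points121)

theorem points123 : ∀ d < 31000, FastPoints.okPt table 12 fast d = true :=
  FastPoints.okPts_sound table 12 pts123_ok (points122)

theorem points124 : ∀ d < 31250, FastPoints.okPt table 12 fast d = true :=
  FastPoints.okPts_sound table 12 pts124_ok (points123)

theorem points125 : ∀ d < 31500, FastPoints.okPt table 12 fast d = true :=
  FastPoints.okPts_sound table 12 pts125_ok (points124)

theorem points126 : ∀ d < 31750, FastPoints.okPt table 12 fast d = true :=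
  FastPoints.okPts_sound table 12 pts126_ok (points125)

theorem points127 : ∀ d < 32000, FastPoints.okPt table 12 fast d = true :=
  FastPoints.okPts_sound table 12 pts127_ok (points126)

theorem points128 : ∀ d < 32250, FastPoints.okPt table 12 fast d = true :=
  FastPoints.okPts_sound table 12 pts128_ok (points127)

theorem points129 : ∀ d < 32500, FastPoints.okPt table 12 fast d = true :=
  FastPoints.okPts_sound table 12 pts129_ok (points128)

theorem points130 : ∀ d < 32750, FastPoints.okPt table 12 fast d = true :=
  FastPoints.okPts_sound table 12 pts130_ok (points129)

theorem points131 : ∀ d < 33000, FastPoints.okPt table 12 fast d = true :=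
  FastPoints.okPts_sound table 12 pts131_ok (points130)

theorem points132 : ∀ d < 33250, FastPoints.okPt table 12 fast d = true :=
  FastPoints.okPts_sound table 12 pts132_ok (points131)

theorem points133 : ∀ d < 33500, FastPoints.okPt table 12 fast d = true :=
  FastPoints.okPts_sound table 12 pts133_ok (points132)

theorem points134 : ∀ d < 33750, FastPoints.okPt table 12 fast d = true :=
  FastPoints.okPts_sound table 12 pts134_ok (points133)

theorem points135 : ∀ d < 34000, FastPoints.okPt table 12 fast d = true :=
  FastPoints.okPts_sound table 12 pts135_ok (points134)

theorem points136 : ∀ d < 34250, FastPoints.okPt table 12 fast d = true :=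
  FastPoints.okPts_sound table 12 pts136_ok (points135)

theorem points137 : ∀ d < 34500, FastPoints.okPt table 12 fast d = true :=
  FastPoints.okPts_sound table 12 pts137_ok (points136)

theorem points138 : ∀ d < 34750, FastPoints.okPt table 12 fast d = true :=
  FastPoints.okPts_sound table 12 pts138_ok (points137)

theorem points139 : ∀ d < 35000, FastPoints.okPt table 12 fast d = true :=
  FastPoints.okPts_sound table 12 pts139_ok (points138)

theorem points140 : ∀ d < 35250, FastPoints.okPt table 12 fast d = true :=
  FastPoints.okPts_sound table 12 pts140_ok (points139)

theorem points141 : ∀ d < 35500, FastPoints.okPt table 12 fast d = true :=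
  FastPoints.okPts_sound table 12 pts141_ok (points140)

theorem points142 : ∀ d < 35750, FastPoints.okPt table 12 fast d = true :=
  FastPoints.okPts_sound table 12 pts142_ok (points141)

theorem points143 : ∀ d < 36000, FastPoints.okPt table 12 fast d = true :=
  FastPoints.okPts_sound table 12 pts143_ok (points142)

theorem points144 : ∀ d < 36250, FastPoints.okPt table 12 fast d = true :=
  FastPoints.okPts_sound table 12 pts144_ok (points143)

theorem points145 : ∀ d < 36500, FastPoints.okPt table 12 fast d = true :=
  FastPoints.okPts_sound table 12 pts145_ok (points144)

theorem points146 : ∀ d < 36750, FastPoints.okPt table 12 fast d = true :=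
  FastPoints.okPts_sound table 12 pts146_ok (points145)

theorem points147 : ∀ d < 37000, FastPoints.okPt table 12 fast d = true :=
  FastPoints.okPts_sound table 12 pts147_ok (points146)

theorem points148 : ∀ d < 37250, FastPoints.okPt table 12 fast d = true :=
  FastPoints.okPts_sound table 12 pts148_ok (points147)

theorem points149 : ∀ d < 37500, FastPoints.okPt table 12 fast d = true :=
  FastPoints.okPts_sound table 12 pts149_ok (points148)

theorem points150 : ∀ d < 37750, FastPoints.okPt table 12 fast d = true :=
  FastPoints.okPts_sound table 12 pts150_ok (points149)

theorem points151 : ∀ d < 38000, FastPoints.okPt table 12 fast d = true :=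
  FastPoints.okPts_sound table 12 pts151_ok (points150)

theorem points152 : ∀ d < 38250, FastPoints.okPt table 12 fast d = true :=
  FastPoints.okPts_sound table 12 pts152_ok (points151)

theorem points153 : ∀ d < 38500, FastPoints.okPt table 12 fast d = true :=
  FastPoints.okPts_sound table 12 pts153_ok (points152)

theorem points154 : ∀ d < 38750, FastPoints.okPt table 12 fast d = true :=
  FastPoints.okPts_sound table 12 pts154_ok (points153)

theorem points155 : ∀ d < 39000, FastPoints.okPt table 12 fast d = true :=
  FastPoints.okPts_sound table 12 pts155_ok (points154)

theorem points156 : ∀ d < 39250, FastPoints.okPt table 12 fast d = true :=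
  FastPoints.okPts_sound table 12 pts156_ok (points155)

theorem points157 : ∀ d < 39500, FastPoints.okPt table 12 fast d = true :=
  FastPoints.okPts_sound table 12 pts157_ok (points156)

theorem points158 : ∀ d < 39750, FastPoints.okPt table 12 fast d = true :=
  FastPoints.okPts_sound table 12 pts158_ok (points157)

theorem points159 : ∀ d < 40000, FastPoints.okPt table 12 fast d = true :=
  FastPoints.okPts_sound table 12 pts159_ok (points158)

theorem points160 : ∀ d < 40250, FastPoints.okPt table 12 fast d = true :=
  FastPoints.okPts_sound table 12 pts160_ok (points159)

theorem points161 : ∀ d < 40500, FastPoints.okPt table 12 fast d = true :=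
  FastPoints.okPts_sound table 12 pts161_ok (points160)

theorem points162 : ∀ d < 40750, FastPoints.okPt table 12 fast d = true :=
  FastPoints.okPts_sound table 12 pts162_ok (points161)

theorem points163 : ∀ d < 41000, FastPoints.okPt table 12 fast d = true :=
  FastPoints.okPts_sound table 12 pts163_ok (points162)

theorem points164 : ∀ d < 41250, FastPoints.okPt table 12 fast d = true :=
  FastPoints.okPts_sound table 12 pts164_ok (points163)

theorem points165 : ∀ d < 41500, FastPoints.okPt table 12 fast d = true :=
  FastPoints.okPts_sound table 12 pts165_ok (points164)

theorem points166 : ∀ d < 41750, FastPoints.okPt table 12 fast d = true :=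
  FastPoints.okPts_sound table 12 pts166_ok (points165)

theorem points167 : ∀ d < 42000, FastPoints.okPt table 12 fast d = true :=
  FastPoints.okPts_sound table 12 pts167_ok (points166)

theorem points168 : ∀ d < 42250, FastPoints.okPt table 12 fast d = true :=
  FastPoints.okPts_sound table 12 pts168_ok (points167)

theorem points169 : ∀ d < 42500, FastPoints.okPt table 12 fast d = true :=
  FastPoints.okPts_sound table 12 pts169_ok (points168)

theorem points170 : ∀ d < 42750, FastPoints.okPt table 12 fast d = true :=
  FastPoints.okPts_sound table 12 pts170_ok (points169)

theorem points171 : ∀ d < 43000, FastPoints.okPt table 12 fast d = true :=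
  FastPoints.okPts_sound table 12 pts171_ok (points170)

theorem points172 : ∀ d < 43250, FastPoints.okPt table 12 fast d = true :=
  FastPoints.okPts_sound table 12 pts172_ok (points171)

theorem points173 : ∀ d < 43500, FastPoints.okPt table 12 fast d = true :=
  FastPoints.okPts_sound table 12 pts173_ok (points172)

theorem points174 : ∀ d < 43750, FastPoints.okPt table 12 fast d = true :=
  FastPoints.okPts_sound table 12 pts174_ok (points173)

theorem points175 : ∀ d < 44000, FastPoints.okPt table 12 fast d = true :=
  FastPoints.okPts_sound table 12 pts175_ok (points174)

theorem points176 : ∀ d < 44250, FastPoints.okPt table 12 fast d = true :=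
  FastPoints.okPts_sound table 12 pts176_ok (points175)

theorem points177 : ∀ d < 44500, FastPoints.okPt table 12 fast d = true :=
  FastPoints.okPts_sound table 12 pts177_ok (points176)

theorem points178 : ∀ d < 44750, FastPoints.okPt table 12 fast d = true :=
  FastPoints.okPts_sound table 12 pts178_ok (points177)

theorem points179 : ∀ d < 45000, FastPoints.okPt table 12 fast d = true :=
  FastPoints.okPts_sound table 12 pts179_ok (points178)

theorem points180 : ∀ d < 45250, FastPoints.okPt table 12 fast d = true :=
  FastPoints.okPts_sound table 12 pts180_ok (points179)

theorem points181 : ∀ d < 45500, FastPoints.okPt table 12 fast d = true :=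
  FastPoints.okPts_sound table 12 pts181_ok (points180)

theorem points182 : ∀ d < 45750, FastPoints.okPt table 12 fast d = true :=
  FastPoints.okPts_sound table 12 pts182_ok (points181)

theorem points183 : ∀ d < 46000, FastPoints.okPt table 12 fast d = true :=
  FastPoints.okPts_sound table 12 pts183_ok (points182)

theorem points184 : ∀ d < 46250, FastPoints.okPt table 12 fast d = true :=
  FastPoints.okPts_sound table 12 pts184_ok (points183)

theorem points185 : ∀ d < 46500, FastPoints.okPt table 12 fast d = true :=
  FastPoints.okPts_sound table 12 pts185_ok (points184)

theorem points186 : ∀ d < 46750, FastPoints.okPt table 12 fast d = true :=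
  FastPoints.okPts_sound table 12 pts186_ok (points185)

theorem points187 : ∀ d < 47000, FastPoints.okPt table 12 fast d = true :=
  FastPoints.okPts_sound table 12 pts187_ok (points186)

theorem points188 : ∀ d < 47250, FastPoints.okPt table 12 fast d = true :=
  FastPoints.okPts_sound table 12 pts188_ok (points187)

theorem points189 : ∀ d < 47500, FastPoints.okPt table 12 fast d = true :=
  FastPoints.okPts_sound table 12 pts189_ok (points188)

theorem points190 : ∀ d < 47750, FastPoints.okPt table 12 fast d = true :=
  FastPoints.okPts_sound table 12 pts190_ok (points189)

theorem points191 : ∀ d < 48000, FastPoints.okPt table 12 fast d = true :=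
  FastPoints.okPts_sound table 12 pts191_ok (points190)

theorem points192 : ∀ d < 48250, FastPoints.okPt table 12 fast d = true :=
  FastPoints.okPts_sound table 12 pts192_ok (points191)

theorem points193 : ∀ d < 48500, FastPoints.okPt table 12 fast d = true :=
  FastPoints.okPts_sound table 12 pts193_ok (points192)

theorem points194 : ∀ d < 48750, FastPoints.okPt table 12 fast d = true :=
  FastPoints.okPts_sound table 12 pts194_ok (points193)

theorem points195 : ∀ d < 49000, FastPoints.okPt table 12 fast d = true :=
  FastPoints.okPts_sound table 12 pts195_ok (points194)

theorem points196 : ∀ d < 49250, FastPoints.okPt table 12 fast d = true :=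
  FastPoints.okPts_sound table 12 pts196_ok (points195)

theorem points197 : ∀ d < 49500, FastPoints.okPt table 12 fast d = true :=
  FastPoints.okPts_sound table 12 pts197_ok (points196)

theorem points198 : ∀ d < 49750, FastPoints.okPt table 12 fast d = true :=
  FastPoints.okPts_sound table 12 pts198_ok (points197)

theorem points199 : ∀ d < 50000, FastPoints.okPt table 12 fast d = true :=
  FastPoints.okPts_sound table 12 pts199_ok (points198)

theorem points200 : ∀ d < 50250, FastPoints.okPt table 12 fast d = true :=
  FastPoints.okPts_sound table 12 pts200_ok (points199)

theorem points201 : ∀ d < 50500, FastPoints.okPt table 12 fast d = true :=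
  FastPoints.okPts_sound table 12 pts201_ok (points200)

theorem points202 : ∀ d < 50750, FastPoints.okPt table 12 fast d = true :=
  FastPoints.okPts_sound table 12 pts202_ok (points201)

theorem points203 : ∀ d < 51000, FastPoints.okPt table 12 fast d = true :=
  FastPoints.okPts_sound table 12 pts203_ok (points202)

theorem points204 : ∀ d < 51250, FastPoints.okPt table 12 fast d = true :=
  FastPoints.okPts_sound table 12 pts204_ok (points203)

theorem points205 : ∀ d < 51500, FastPoints.okPt table 12 fast d = true :=
  FastPoints.okPts_sound table 12 pts205_ok (points204)

theorem points206 : ∀ d < 51750, FastPoints.okPt table 12 fast d = true :=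
  FastPoints.okPts_sound table 12 pts206_ok (points205)

theorem points207 : ∀ d < 52000, FastPoints.okPt table 12 fast d = true :=
  FastPoints.okPts_sound table 12 pts207_ok (points206)

theorem points208 : ∀ d < 52250, FastPoints.okPt table 12 fast d = true :=
  FastPoints.okPts_sound table 12 pts208_ok (points207)

theorem points209 : ∀ d < 52500, FastPoints.okPt table 12 fast d = true :=
  FastPoints.okPts_sound table 12 pts209_ok (points208)

theorem points210 : ∀ d < 52750, FastPoints.okPt table 12 fast d = true :=
  FastPoints.okPts_sound table 12 pts210_ok (points209)

theorem points211 : ∀ d < 53000, FastPoints.okPt table 12 fast d = true :=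
  FastPoints.okPts_sound table 12 pts211_ok (points210)

theorem points212 : ∀ d < 53250, FastPoints.okPt table 12 fast d = true :=
  FastPoints.okPts_sound table 12 pts212_ok (points211)

theorem points213 : ∀ d < 53500, FastPoints.okPt table 12 fast d = true :=
  FastPoints.okPts_sound table 12 pts213_ok (points212)

theorem points214 : ∀ d < 53750, FastPoints.okPt table 12 fast d = true :=
  FastPoints.okPts_sound table 12 pts214_ok (points213)

theorem points215 : ∀ d < 54000, FastPoints.okPt table 12 fast d = true :=
  FastPoints.okPts_sound table 12 pts215_ok (points214)

theorem points216 : ∀ d < 54250, FastPoints.okPt table 12 fast d = true :=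
  FastPoints.okPts_sound table 12 pts216_ok (points215)

theorem points217 : ∀ d < 54500, FastPoints.okPt table 12 fast d = true :=
  FastPoints.okPts_sound table 12 pts217_ok (points216)

theorem points218 : ∀ d < 54750, FastPoints.okPt table 12 fast d = true :=
  FastPoints.okPts_sound table 12 pts218_ok (points217)

theorem points219 : ∀ d < 55000, FastPoints.okPt table 12 fast d = true :=
  FastPoints.okPts_sound table 12 pts219_ok (points218)

theorem points220 : ∀ d < 55250, FastPoints.okPt table 12 fast d = true :=
  FastPoints.okPts_sound table 12 pts220_ok (points219)

theorem points221 : ∀ d < 55500, FastPoints.okPt table 12 fast d = true :=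
  FastPoints.okPts_sound table 12 pts221_ok (points220)

theorem points222 : ∀ d < 55750, FastPoints.okPt table 12 fast d = true :=
  FastPoints.okPts_sound table 12 pts222_ok (points221)

theorem points223 : ∀ d < 56000, FastPoints.okPt table 12 fast d = true :=
  FastPoints.okPts_sound table 12 pts223_ok (points222)

theorem points224 : ∀ d < 56250, FastPoints.okPt table 12 fast d = true :=
  FastPoints.okPts_sound table 12 pts224_ok (points223)

theorem points225 : ∀ d < 56500, FastPoints.okPt table 12 fast d = true :=
  FastPoints.okPts_sound table 12 pts225_ok (points224)

theorem points226 : ∀ d < 56750, FastPoints.okPt table 12 fast d = true :=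
  FastPoints.okPts_sound table 12 pts226_ok (points225)

theorem points227 : ∀ d < 57000, FastPoints.okPt table 12 fast d = true :=
  FastPoints.okPts_sound table 12 pts227_ok (points226)

theorem points228 : ∀ d < 57250, FastPoints.okPt table 12 fast d = true :=
  FastPoints.okPts_sound table 12 pts228_ok (points227)

theorem points229 : ∀ d < 57500, FastPoints.okPt table 12 fast d = true :=
  FastPoints.okPts_sound table 12 pts229_ok (points228)

theorem points230 : ∀ d < 57750, FastPoints.okPt table 12 fast d = true :=
  FastPoints.okPts_sound table 12 pts230_ok (points229)

theorem points231 : ∀ d < 58000, FastPoints.okPt table 12 fast d = true :=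
  FastPoints.okPts_sound table 12 pts231_ok (points230)

theorem points232 : ∀ d < 58250, FastPoints.okPt table 12 fast d = true :=
  FastPoints.okPts_sound table 12 pts232_ok (points231)

theorem points233 : ∀ d < 58500, FastPoints.okPt table 12 fast d = true :=
  FastPoints.okPts_sound table 12 pts233_ok (points232)

theorem points234 : ∀ d < 58750, FastPoints.okPt table 12 fast d = true :=
  FastPoints.okPts_sound table 12 pts234_ok (points233)

theorem points235 : ∀ d < 59000, FastPoints.okPt table 12 fast d = true :=
  FastPoints.okPts_sound table 12 pts235_ok (points234)

theorem points236 : ∀ d < 59250, FastPoints.okPt table 12 fast d = true :=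
  FastPoints.okPts_sound table 12 pts236_ok (points235)

theorem points237 : ∀ d < 59500, FastPoints.okPt table 12 fast d = true :=
  FastPoints.okPts_sound table 12 pts237_ok (points236)

theorem points238 : ∀ d < 59750, FastPoints.okPt table 12 fast d = true :=
  FastPoints.okPts_sound table 12 pts238_ok (points237)

theorem points239 : ∀ d < 60000, FastPoints.okPt table 12 fast d = true :=
  FastPoints.okPts_sound table 12 pts239_ok (points238)

theorem points240 : ∀ d < 60250, FastPoints.okPt table 12 fast d = true :=
  FastPoints.okPts_sound table 12 pts240_ok (points239)

theorem points241 : ∀ d < 60500, FastPoints.okPt table 12 fast d = true :=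
  FastPoints.okPts_sound table 12 pts241_ok (points240)

theorem points242 : ∀ d < 60750, FastPoints.okPt table 12 fast d = true :=
  FastPoints.okPts_sound table 12 pts242_ok (points241)

theorem points243 : ∀ d < 61000, FastPoints.okPt table 12 fast d = true :=
  FastPoints.okPts_sound table 12 pts243_ok (points242)

theorem points244 : ∀ d < 61250, FastPoints.okPt table 12 fast d = true :=
  FastPoints.okPts_sound table 12 pts244_ok (points243)

theorem points245 : ∀ d < 61500, FastPoints.okPt table 12 fast d = true :=
  FastPoints.okPts_sound table 12 pts245_ok (points244)

theorem points246 : ∀ d < 61750, FastPoints.okPt table 12 fast d = true :=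
  FastPoints.okPts_sound table 12 pts246_ok (points245)

theorem points247 : ∀ d < 62000, FastPoints.okPt table 12 fast d = true :=
  FastPoints.okPts_sound table 12 pts247_ok (points246)

theorem points248 : ∀ d < 62250, FastPoints.okPt table 12 fast d = true :=
  FastPoints.okPts_sound table 12 pts248_ok (points247)

theorem points249 : ∀ d < 62500, FastPoints.okPt table 12 fast d = true :=
  FastPoints.okPts_sound table 12 pts249_ok (points248)

theorem points250 : ∀ d < 62750, FastPoints.okPt table 12 fast d = true :=
  FastPoints.okPts_sound table 12 pts250_ok (points249)

theorem points251 : ∀ d < 63000, FastPoints.okPt table 12 fast d = true :=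
  FastPoints.okPts_sound table 12 pts251_ok (points250)

theorem points252 : ∀ d < 63250, FastPoints.okPt table 12 fast d = true :=
  FastPoints.okPts_sound table 12 pts252_ok (points251)

theorem points253 : ∀ d < 63500, FastPoints.okPt table 12 fast d = true :=
  FastPoints.okPts_sound table 12 pts253_ok (points252)

theorem points254 : ∀ d < 63750, FastPoints.okPt table 12 fast d = true :=
  FastPoints.okPts_sound table 12 pts254_ok (points253)

theorem points255 : ∀ d < 64000, FastPoints.okPt table 12 fast d = true :=
  FastPoints.okPts_sound table 12 pts255_ok (points254)

theorem points256 : ∀ d < 64250, FastPoints.okPt table 12 fast d = true :=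
  FastPoints.okPts_sound table 12 pts256_ok (points255)

theorem points257 : ∀ d < 64500, FastPoints.okPt table 12 fast d = true :=
  FastPoints.okPts_sound table 12 pts257_ok (points256)

theorem points258 : ∀ d < 64750, FastPoints.okPt table 12 fast d = true :=
  FastPoints.okPts_sound table 12 pts258_ok (points257)

theorem points259 : ∀ d < 65000, FastPoints.okPt table 12 fast d = true :=
  FastPoints.okPts_sound table 12 pts259_ok (points258)

theorem points260 : ∀ d < 65250, FastPoints.okPt table 12 fast d = true :=
  FastPoints.okPts_sound table 12 pts260_ok (points259)

theorem points261 : ∀ d < 65500, FastPoints.okPt table 12 fast d = true :=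
  FastPoints.okPts_sound table 12 pts261_ok (points260)

theorem points262 : ∀ d < 65750, FastPoints.okPt table 12 fast d = true :=
  FastPoints.okPts_sound table 12 pts262_ok (points261)

theorem points263 : ∀ d < 66000, FastPoints.okPt table 12 fast d = true :=
  FastPoints.okPts_sound table 12 pts263_ok (points262)

theorem points264 : ∀ d < 66250, FastPoints.okPt table 12 fast d = true :=
  FastPoints.okPts_sound table 12 pts264_ok (points263)

theorem points265 : ∀ d < 66500, FastPoints.okPt table 12 fast d = true :=
  FastPoints.okPts_sound table 12 pts265_ok (points264)

theorem points266 : ∀ d < 66750, FastPoints.okPt table 12 fast d = true :=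
  FastPoints.okPts_sound table 12 pts266_ok (points265)

theorem points267 : ∀ d < 67000, FastPoints.okPt table 12 fast d = true :=
  FastPoints.okPts_sound table 12 pts267_ok (points266)

theorem points268 : ∀ d < 67250, FastPoints.okPt table 12 fast d = true :=
  FastPoints.okPts_sound table 12 pts268_ok (points267)

theorem points269 : ∀ d < 67500, FastPoints.okPt table 12 fast d = true :=
  FastPoints.okPts_sound table 12 pts269_ok (points268)

theorem points270 : ∀ d < 67750, FastPoints.okPt table 12 fast d = true :=
  FastPoints.okPts_sound table 12 pts270_ok (points269)

theorem points271 : ∀ d < 68000, FastPoints.okPt table 12 fast d = true :=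
  FastPoints.okPts_sound table 12 pts271_ok (points270)

theorem points272 : ∀ d < 68250, FastPoints.okPt table 12 fast d = true :=
  FastPoints.okPts_sound table 12 pts272_ok (points271)

theorem points273 : ∀ d < 68500, FastPoints.okPt table 12 fast d = true :=
  FastPoints.okPts_sound table 12 pts273_ok (points272)

theorem points274 : ∀ d < 68750, FastPoints.okPt table 12 fast d = true :=
  FastPoints.okPts_sound table 12 pts274_ok (points273)

theorem points275 : ∀ d < 69000, FastPoints.okPt table 12 fast d = true :=
  FastPoints.okPts_sound table 12 pts275_ok (points274)

theorem points276 : ∀ d < 69250, FastPoints.okPt table 12 fast d = true :=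
  FastPoints.okPts_sound table 12 pts276_ok (points275)

theorem points277 : ∀ d < 69500, FastPoints.okPt table 12 fast d = true :=
  FastPoints.okPts_sound table 12 pts277_ok (points276)

theorem points278 : ∀ d < 69750, FastPoints.okPt table 12 fast d = true :=
  FastPoints.okPts_sound table 12 pts278_ok (points277)

theorem points279 : ∀ d < 70000, FastPoints.okPt table 12 fast d = true :=
  FastPoints.okPts_sound table 12 pts279_ok (points278)

theorem points280 : ∀ d < 70250, FastPoints.okPt table 12 fast d = true :=
  FastPoints.okPts_sound table 12 pts280_ok (points279)

theorem points281 : ∀ d < 70500, FastPoints.okPt table 12 fast d = true :=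
  FastPoints.okPts_sound table 12 pts281_ok (points280)

theorem points282 : ∀ d < 70750, FastPoints.okPt table 12 fast d = true :=
  FastPoints.okPts_sound table 12 pts282_ok (points281)

theorem points283 : ∀ d < 71000, FastPoints.okPt table 12 fast d = true :=
  FastPoints.okPts_sound table 12 pts283_ok (points282)

theorem points284 : ∀ d < 71250, FastPoints.okPt table 12 fast d = true :=
  FastPoints.okPts_sound table 12 pts284_ok (points283)

theorem points285 : ∀ d < 71500, FastPoints.okPt table 12 fast d = true :=
  FastPoints.okPts_sound table 12 pts285_ok (points284)

theorem points286 : ∀ d < 71750, FastPoints.okPt table 12 fast d = true :=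
  FastPoints.okPts_sound table 12 pts286_ok (points285)

theorem points287 : ∀ d < 72000, FastPoints.okPt table 12 fast d = true :=
  FastPoints.okPts_sound table 12 pts287_ok (points286)

theorem points288 : ∀ d < 72250, FastPoints.okPt table 12 fast d = true :=
  FastPoints.okPts_sound table 12 pts288_ok (points287)

theorem points289 : ∀ d < 72500, FastPoints.okPt table 12 fast d = true :=
  FastPoints.okPts_sound table 12 pts289_ok (points288)

theorem points290 : ∀ d < 72750, FastPoints.okPt table 12 fast d = true :=
  FastPoints.okPts_sound table 12 pts290_ok (points289)

theorem points291 : ∀ d < 73000, FastPoints.okPt table 12 fast d = true :=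
  FastPoints.okPts_sound table 12 pts291_ok (points290)

theorem points292 : ∀ d < 73250, FastPoints.okPt table 12 fast d = true :=
  FastPoints.okPts_sound table 12 pts292_ok (points291)

theorem points293 : ∀ d < 73500, FastPoints.okPt table 12 fast d = true :=
  FastPoints.okPts_sound table 12 pts293_ok (points292)

theorem points294 : ∀ d < 73750, FastPoints.okPt table 12 fast d = true :=
  FastPoints.okPts_sound table 12 pts294_ok (points293)

theorem points295 : ∀ d < 74000, FastPoints.okPt table 12 fast d = true :=
  FastPoints.okPts_sound table 12 pts295_ok (points294)

theorem points296 : ∀ d < 74250, FastPoints.okPt table 12 fast d = true :=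
  FastPoints.okPts_sound table 12 pts296_ok (points295)

theorem points297 : ∀ d < 74500, FastPoints.okPt table 12 fast d = true :=
  FastPoints.okPts_sound table 12 pts297_ok (points296)

theorem points298 : ∀ d < 74750, FastPoints.okPt table 12 fast d = true :=
  FastPoints.okPts_sound table 12 pts298_ok (points297)

theorem points299 : ∀ d < 75000, FastPoints.okPt table 12 fast d = true :=
  FastPoints.okPts_sound table 12 pts299_ok (points298)

theorem points300 : ∀ d < 75250, FastPoints.okPt table 12 fast d = true :=
  FastPoints.okPts_sound table 12 pts300_ok (points299)

theorem points301 : ∀ d < 75500, FastPoints.okPt table 12 fast d = true :=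
  FastPoints.okPts_sound table 12 pts301_ok (points300)

theorem points302 : ∀ d < 75750, FastPoints.okPt table 12 fast d = true :=
  FastPoints.okPts_sound table 12 pts302_ok (points301)

theorem points303 : ∀ d < 76000, FastPoints.okPt table 12 fast d = true :=
  FastPoints.okPts_sound table 12 pts303_ok (points302)

theorem points304 : ∀ d < 76250, FastPoints.okPt table 12 fast d = true :=
  FastPoints.okPts_sound table 12 pts304_ok (points303)

theorem points305 : ∀ d < 76500, FastPoints.okPt table 12 fast d = true :=
  FastPoints.okPts_sound table 12 pts305_ok (points304)

theorem points306 : ∀ d < 76750, FastPoints.okPt table 12 fast d = true :=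
  FastPoints.okPts_sound table 12 pts306_ok (points305)

theorem points307 : ∀ d < 77000, FastPoints.okPt table 12 fast d = true :=
  FastPoints.okPts_sound table 12 pts307_ok (points306)

theorem points308 : ∀ d < 77250, FastPoints.okPt table 12 fast d = true :=
  FastPoints.okPts_sound table 12 pts308_ok (points307)

theorem points309 : ∀ d < 77500, FastPoints.okPt table 12 fast d = true :=
  FastPoints.okPts_sound table 12 pts309_ok (points308)

theorem points310 : ∀ d < 77750, FastPoints.okPt table 12 fast d = true :=
  FastPoints.okPts_sound table 12 pts310_ok (points309)

theorem points311 : ∀ d < 78000, FastPoints.okPt table 12 fast d = true :=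
  FastPoints.okPts_sound table 12 pts311_ok (points310)

theorem points312 : ∀ d < 78250, FastPoints.okPt table 12 fast d = true :=
  FastPoints.okPts_sound table 12 pts312_ok (points311)

theorem points313 : ∀ d < 78500, FastPoints.okPt table 12 fast d = true :=
  FastPoints.okPts_sound table 12 pts313_ok (points312)

theorem points314 : ∀ d < 78750, FastPoints.okPt table 12 fast d = true :=
  FastPoints.okPts_sound table 12 pts314_ok (points313)

theorem points315 : ∀ d < 79000, FastPoints.okPt table 12 fast d = true :=
  FastPoints.okPts_sound table 12 pts315_ok (points314)

theorem points316 : ∀ d < 79250, FastPoints.okPt table 12 fast d = true :=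
  FastPoints.okPts_sound table 12 pts316_ok (points315)

theorem points317 : ∀ d < 79500, FastPoints.okPt table 12 fast d = true :=
  FastPoints.okPts_sound table 12 pts317_ok (points316)

theorem points318 : ∀ d < 79750, FastPoints.okPt table 12 fast d = true :=
  FastPoints.okPts_sound table 12 pts318_ok (points317)

theorem points319 : ∀ d < 80000, FastPoints.okPt table 12 fast d = true :=
  FastPoints.okPts_sound table 12 pts319_ok (points318)

theorem points320 : ∀ d < 80250, FastPoints.okPt table 12 fast d = true :=
  FastPoints.okPts_sound table 12 pts320_ok (points319)

theorem points321 : ∀ d < 80500, FastPoints.okPt table 12 fast d = true :=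
  FastPoints.okPts_sound table 12 pts321_ok (points320)

theorem points322 : ∀ d < 80750, FastPoints.okPt table 12 fast d = true :=
  FastPoints.okPts_sound table 12 pts322_ok (points321)

theorem points323 : ∀ d < 81000, FastPoints.okPt table 12 fast d = true :=
  FastPoints.okPts_sound table 12 pts323_ok (points322)

theorem points324 : ∀ d < 81250, FastPoints.okPt table 12 fast d = true :=
  FastPoints.okPts_sound table 12 pts324_ok (points323)

theorem points325 : ∀ d < 81500, FastPoints.okPt table 12 fast d = true :=
  FastPoints.okPts_sound table 12 pts325_ok (points324)

theorem points326 : ∀ d < 81750, FastPoints.okPt table 12 fast d = true :=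
  FastPoints.okPts_sound table 12 pts326_ok (points325)

theorem points327 : ∀ d < 82000, FastPoints.okPt table 12 fast d = true :=
  FastPoints.okPts_sound table 12 pts327_ok (points326)

theorem points328 : ∀ d < 82250, FastPoints.okPt table 12 fast d = true :=
  FastPoints.okPts_sound table 12 pts328_ok (points327)

theorem points329 : ∀ d < 82500, FastPoints.okPt table 12 fast d = true :=
  FastPoints.okPts_sound table 12 pts329_ok (points328)

theorem points330 : ∀ d < 82750, FastPoints.okPt table 12 fast d = true :=
  FastPoints.okPts_sound table 12 pts330_ok (points329)

theorem points331 : ∀ d < 83000, FastPoints.okPt table 12 fast d = true :=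
  FastPoints.okPts_sound table 12 pts331_ok (points330)

theorem points332 : ∀ d < 83250, FastPoints.okPt table 12 fast d = true :=
  FastPoints.okPts_sound table 12 pts332_ok (points331)

theorem points333 : ∀ d < 83500, FastPoints.okPt table 12 fast d = true :=
  FastPoints.okPts_sound table 12 pts333_ok (points332)

theorem points334 : ∀ d < 83750, FastPoints.okPt table 12 fast d = true :=
  FastPoints.okPts_sound table 12 pts334_ok (points333)

theorem points335 : ∀ d < 84000, FastPoints.okPt table 12 fast d = true :=
  FastPoints.okPts_sound table 12 pts335_ok (points334)

theorem points336 : ∀ d < 84250, FastPoints.okPt table 12 fast d = true :=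
  FastPoints.okPts_sound table 12 pts336_ok (points335)

theorem points337 : ∀ d < 84500, FastPoints.okPt table 12 fast d = true :=
  FastPoints.okPts_sound table 12 pts337_ok (points336)

theorem points338 : ∀ d < 84750, FastPoints.okPt table 12 fast d = true :=
  FastPoints.okPts_sound table 12 pts338_ok (points337)

theorem points339 : ∀ d < 85000, FastPoints.okPt table 12 fast d = true :=
  FastPoints.okPts_sound table 12 pts339_ok (points338)

theorem points340 : ∀ d < 85250, FastPoints.okPt table 12 fast d = true :=
  FastPoints.okPts_sound table 12 pts340_ok (points339)

theorem points341 : ∀ d < 85500, FastPoints.okPt table 12 fast d = true :=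
  FastPoints.okPts_sound table 12 pts341_ok (points340)

theorem points342 : ∀ d < 85750, FastPoints.okPt table 12 fast d = true :=
  FastPoints.okPts_sound table 12 pts342_ok (points341)

theorem points343 : ∀ d < 86000, FastPoints.okPt table 12 fast d = true :=
  FastPoints.okPts_sound table 12 pts343_ok (points342)

theorem points344 : ∀ d < 86250, FastPoints.okPt table 12 fast d = true :=
  FastPoints.okPts_sound table 12 pts344_ok (points343)

theorem points345 : ∀ d < 86500, FastPoints.okPt table 12 fast d = true :=
  FastPoints.okPts_sound table 12 pts345_ok (points344)

theorem points346 : ∀ d < 86750, FastPoints.okPt table 12 fast d = true :=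
  FastPoints.okPts_sound table 12 pts346_ok (points345)

theorem points347 : ∀ d < 87000, FastPoints.okPt table 12 fast d = true :=
  FastPoints.okPts_sound table 12 pts347_ok (points346)

theorem points348 : ∀ d < 87250, FastPoints.okPt table 12 fast d = true :=
  FastPoints.okPts_sound table 12 pts348_ok (points347)

theorem points349 : ∀ d < 87500, FastPoints.okPt table 12 fast d = true :=
  FastPoints.okPts_sound table 12 pts349_ok (points348)

theorem points350 : ∀ d < 87750, FastPoints.okPt table 12 fast d = true :=
  FastPoints.okPts_sound table 12 pts350_ok (points349)

theorem points351 : ∀ d < 88000, FastPoints.okPt table 12 fast d = true :=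
  FastPoints.okPts_sound table 12 pts351_ok (points350)

theorem points352 : ∀ d < 88250, FastPoints.okPt table 12 fast d = true :=
  FastPoints.okPts_sound table 12 pts352_ok (points351)

theorem points353 : ∀ d < 88500, FastPoints.okPt table 12 fast d = true :=
  FastPoints.okPts_sound table 12 pts353_ok (points352)

theorem points354 : ∀ d < 88750, FastPoints.okPt table 12 fast d = true :=
  FastPoints.okPts_sound table 12 pts354_ok (points353)

theorem points355 : ∀ d < 89000, FastPoints.okPt table 12 fast d = true :=
  FastPoints.okPts_sound table 12 pts355_ok (points354)

theorem points356 : ∀ d < 89250, FastPoints.okPt table 12 fast d = true :=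
  FastPoints.okPts_sound table 12 pts356_ok (points355)

theorem points357 : ∀ d < 89500, FastPoints.okPt table 12 fast d = true :=
  FastPoints.okPts_sound table 12 pts357_ok (points356)

theorem points358 : ∀ d < 89750, FastPoints.okPt table 12 fast d = true :=
  FastPoints.okPts_sound table 12 pts358_ok (points357)

theorem points359 : ∀ d < 90000, FastPoints.okPt table 12 fast d = true :=
  FastPoints.okPts_sound table 12 pts359_ok (points358)

theorem points360 : ∀ d < 90250, FastPoints.okPt table 12 fast d = true :=
  FastPoints.okPts_sound table 12 pts360_ok (points359)

theorem points361 : ∀ d < 90500, FastPoints.okPt table 12 fast d = true :=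
  FastPoints.okPts_sound table 12 pts361_ok (points360)

theorem points362 : ∀ d < 90750, FastPoints.okPt table 12 fast d = true :=
  FastPoints.okPts_sound table 12 pts362_ok (points361)

theorem points363 : ∀ d < 91000, FastPoints.okPt table 12 fast d = true :=
  FastPoints.okPts_sound table 12 pts363_ok (points362)

theorem points364 : ∀ d < 91250, FastPoints.okPt table 12 fast d = true :=
  FastPoints.okPts_sound table 12 pts364_ok (points363)

theorem points365 : ∀ d < 91500, FastPoints.okPt table 12 fast d = true :=
  FastPoints.okPts_sound table 12 pts365_ok (points364)

theorem points366 : ∀ d < 91750, FastPoints.okPt table 12 fast d = true :=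
  FastPoints.okPts_sound table 12 pts366_ok (points365)

theorem points367 : ∀ d < 92000, FastPoints.okPt table 12 fast d = true :=
  FastPoints.okPts_sound table 12 pts367_ok (points366)

theorem points368 : ∀ d < 92250, FastPoints.okPt table 12 fast d = true :=
  FastPoints.okPts_sound table 12 pts368_ok (points367)

theorem points369 : ∀ d < 92500, FastPoints.okPt table 12 fast d = true :=
  FastPoints.okPts_sound table 12 pts369_ok (points368)

theorem points370 : ∀ d < 92750, FastPoints.okPt table 12 fast d = true :=
  FastPoints.okPts_sound table 12 pts370_ok (points369)

theorem points371 : ∀ d < 93000, FastPoints.okPt table 12 fast d = true :=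
  FastPoints.okPts_sound table 12 pts371_ok (points370)

theorem points372 : ∀ d < 93250, FastPoints.okPt table 12 fast d = true :=
  FastPoints.okPts_sound table 12 pts372_ok (points371)

theorem points373 : ∀ d < 93500, FastPoints.okPt table 12 fast d = true :=
  FastPoints.okPts_sound table 12 pts373_ok (points372)

theorem points374 : ∀ d < 93750, FastPoints.okPt table 12 fast d = true :=
  FastPoints.okPts_sound table 12 pts374_ok (points373)

theorem points375 : ∀ d < 94000, FastPoints.okPt table 12 fast d = true :=
  FastPoints.okPts_sound table 12 pts375_ok (points374)

theorem points376 : ∀ d < 94250, FastPoints.okPt table 12 fast d = true :=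
  FastPoints.okPts_sound table 12 pts376_ok (points375)

theorem points377 : ∀ d < 94500, FastPoints.okPt table 12 fast d = true :=
  FastPoints.okPts_sound table 12 pts377_ok (points376)

theorem points378 : ∀ d < 94750, FastPoints.okPt table 12 fast d = true :=
  FastPoints.okPts_sound table 12 pts378_ok (points377)

theorem points379 : ∀ d < 95000, FastPoints.okPt table 12 fast d = true :=
  FastPoints.okPts_sound table 12 pts379_ok (points378)

theorem points380 : ∀ d < 95250, FastPoints.okPt table 12 fast d = true :=
  FastPoints.okPts_sound table 12 pts380_ok (points379)

theorem points381 : ∀ d < 95500, FastPoints.okPt table 12 fast d = true :=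
  FastPoints.okPts_sound table 12 pts381_ok (points380)

theorem points382 : ∀ d < 95750, FastPoints.okPt table 12 fast d = true :=
  FastPoints.okPts_sound table 12 pts382_ok (points381)

theorem points383 : ∀ d < 96000, FastPoints.okPt table 12 fast d = true :=
  FastPoints.okPts_sound table 12 pts383_ok (points382)

theorem points384 : ∀ d < 96250, FastPoints.okPt table 12 fast d = true :=
  FastPoints.okPts_sound table 12 pts384_ok (points383)

theorem points385 : ∀ d < 96500, FastPoints.okPt table 12 fast d = true :=
  FastPoints.okPts_sound table 12 pts385_ok (points384)

theorem points386 : ∀ d < 96750, FastPoints.okPt table 12 fast d = true :=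
  FastPoints.okPts_sound table 12 pts386_ok (points385)

theorem points387 : ∀ d < 97000, FastPoints.okPt table 12 fast d = true :=
  FastPoints.okPts_sound table 12 pts387_ok (points386)

theorem points388 : ∀ d < 97250, FastPoints.okPt table 12 fast d = true :=
  FastPoints.okPts_sound table 12 pts388_ok (points387)

theorem points389 : ∀ d < 97500, FastPoints.okPt table 12 fast d = true :=
  FastPoints.okPts_sound table 12 pts389_ok (points388)

theorem points390 : ∀ d < 97750, FastPoints.okPt table 12 fast d = true :=
  FastPoints.okPts_sound table 12 pts390_ok (points389)

theorem points391 : ∀ d < 98000, FastPoints.okPt table 12 fast d = true :=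
  FastPoints.okPts_sound table 12 pts391_ok (points390)

theorem points392 : ∀ d < 98250, FastPoints.okPt table 12 fast d = true :=
  FastPoints.okPts_sound table 12 pts392_ok (points391)

theorem points393 : ∀ d < 98500, FastPoints.okPt table 12 fast d = true :=
  FastPoints.okPts_sound table 12 pts393_ok (points392)

theorem points394 : ∀ d < 98750, FastPoints.okPt table 12 fast d = true :=
  FastPoints.okPts_sound table 12 pts394_ok (points393)

theorem points395 : ∀ d < 99000, FastPoints.okPt table 12 fast d = true :=
  FastPoints.okPts_sound table 12 pts395_ok (points394)

theorem points396 : ∀ d < 99250, FastPoints.okPt table 12 fast d = true :=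
  FastPoints.okPts_sound table 12 pts396_ok (points395)

theorem points397 : ∀ d < 99500, FastPoints.okPt table 12 fast d = true :=
  FastPoints.okPts_sound table 12 pts397_ok (points396)

theorem points398 : ∀ d < 99750, FastPoints.okPt table 12 fast d = true :=
  FastPoints.okPts_sound table 12 pts398_ok (points397)

theorem points399 : ∀ d < 100000, FastPoints.okPt table 12 fast d = true :=
  FastPoints.okPts_sound table 12 pts399_ok (points398)

theorem points400 : ∀ d < 100250, FastPoints.okPt table 12 fast d = true :=
  FastPoints.okPts_sound table 12 pts400_ok (points399)

theorem points401 : ∀ d < 100500, FastPoints.okPt table 12 fast d = true :=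
  FastPoints.okPts_sound table 12 pts401_ok (points400)

theorem points402 : ∀ d < 100750, FastPoints.okPt table 12 fast d = true :=
  FastPoints.okPts_sound table 12 pts402_ok (points401)

theorem points403 : ∀ d < 101000, FastPoints.okPt table 12 fast d = true :=
  FastPoints.okPts_sound table 12 pts403_ok (points402)

theorem points404 : ∀ d < 101250, FastPoints.okPt table 12 fast d = true :=
  FastPoints.okPts_sound table 12 pts404_ok (points403)

theorem points405 : ∀ d < 101500, FastPoints.okPt table 12 fast d = true :=
  FastPoints.okPts_sound table 12 pts405_ok (points404)

theorem points406 : ∀ d < 101750, FastPoints.okPt table 12 fast d = true :=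
  FastPoints.okPts_sound table 12 pts406_ok (points405)

theorem points407 : ∀ d < 102000, FastPoints.okPt table 12 fast d = true :=
  FastPoints.okPts_sound table 12 pts407_ok (points406)

theorem points408 : ∀ d < 102250, FastPoints.okPt table 12 fast d = true :=
  FastPoints.okPts_sound table 12 pts408_ok (points407)

theorem points409 : ∀ d < 102500, FastPoints.okPt table 12 fast d = true :=
  FastPoints.okPts_sound table 12 pts409_ok (points408)

theorem points410 : ∀ d < 102750, FastPoints.okPt table 12 fast d = true :=
  FastPoints.okPts_sound table 12 pts410_ok (points409)

theorem points411 : ∀ d < 103000, FastPoints.okPt table 12 fast d = true :=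
  FastPoints.okPts_sound table 12 pts411_ok (points410)

theorem points412 : ∀ d < 103250, FastPoints.okPt table 12 fast d = true :=
  FastPoints.okPts_sound table 12 pts412_ok (points411)

theorem points413 : ∀ d < 103500, FastPoints.okPt table 12 fast d = true :=
  FastPoints.okPts_sound table 12 pts413_ok (points412)

theorem points414 : ∀ d < 103750, FastPoints.okPt table 12 fast d = true :=
  FastPoints.okPts_sound table 12 pts414_ok (points413)

theorem points415 : ∀ d < 104000, FastPoints.okPt table 12 fast d = true :=
  FastPoints.okPts_sound table 12 pts415_ok (points414)

theorem points416 : ∀ d < 104250, FastPoints.okPt table 12 fast d = true :=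
  FastPoints.okPts_sound table 12 pts416_ok (points415)

theorem points417 : ∀ d < 104500, FastPoints.okPt table 12 fast d = true :=
  FastPoints.okPts_sound table 12 pts417_ok (points416)

theorem points418 : ∀ d < 104750, FastPoints.okPt table 12 fast d = true :=
  FastPoints.okPts_sound table 12 pts418_ok (points417)

theorem points419 : ∀ d < 105000, FastPoints.okPt table 12 fast d = true :=
  FastPoints.okPts_sound table 12 pts419_ok (points418)

theorem points420 : ∀ d < 105250, FastPoints.okPt table 12 fast d = true :=
  FastPoints.okPts_sound table 12 pts420_ok (points419)

theorem points421 : ∀ d < 105500, FastPoints.okPt table 12 fast d = true :=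
  FastPoints.okPts_sound table 12 pts421_ok (points420)

theorem points422 : ∀ d < 105750, FastPoints.okPt table 12 fast d = true :=
  FastPoints.okPts_sound table 12 pts422_ok (points421)

theorem points423 : ∀ d < 106000, FastPoints.okPt table 12 fast d = true :=
  FastPoints.okPts_sound table 12 pts423_ok (points422)

theorem points424 : ∀ d < 106250, FastPoints.okPt table 12 fast d = true :=
  FastPoints.okPts_sound table 12 pts424_ok (points423)

theorem points425 : ∀ d < 106500, FastPoints.okPt table 12 fast d = true :=
  FastPoints.okPts_sound table 12 pts425_ok (points424)

theorem points426 : ∀ d < 106750, FastPoints.okPt table 12 fast d = true :=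
  FastPoints.okPts_sound table 12 pts426_ok (points425)

theorem points427 : ∀ d < 107000, FastPoints.okPt table 12 fast d = true :=
  FastPoints.okPts_sound table 12 pts427_ok (points426)

theorem points428 : ∀ d < 107250, FastPoints.okPt table 12 fast d = true :=
  FastPoints.okPts_sound table 12 pts428_ok (points427)

theorem points429 : ∀ d < 107500, FastPoints.okPt table 12 fast d = true :=
  FastPoints.okPts_sound table 12 pts429_ok (points428)

theorem points430 : ∀ d < 107750, FastPoints.okPt table 12 fast d = true :=
  FastPoints.okPts_sound table 12 pts430_ok (points429)

theorem points431 : ∀ d < 108000, FastPoints.okPt table 12 fast d = true :=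
  FastPoints.okPts_sound table 12 pts431_ok (points430)

theorem points432 : ∀ d < 108250, FastPoints.okPt table 12 fast d = true :=
  FastPoints.okPts_sound table 12 pts432_ok (points431)

theorem points433 : ∀ d < 108500, FastPoints.okPt table 12 fast d = true :=
  FastPoints.okPts_sound table 12 pts433_ok (points432)

theorem points434 : ∀ d < 108750, FastPoints.okPt table 12 fast d = true :=
  FastPoints.okPts_sound table 12 pts434_ok (points433)

theorem points435 : ∀ d < 109000, FastPoints.okPt table 12 fast d = true :=
  FastPoints.okPts_sound table 12 pts435_ok (points434)

theorem points436 : ∀ d < 109250, FastPoints.okPt table 12 fast d = true :=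
  FastPoints.okPts_sound table 12 pts436_ok (points435)

theorem points437 : ∀ d < 109500, FastPoints.okPt table 12 fast d = true :=
  FastPoints.okPts_sound table 12 pts437_ok (points436)

theorem points438 : ∀ d < 109750, FastPoints.okPt table 12 fast d = true :=
  FastPoints.okPts_sound table 12 pts438_ok (points437)

theorem points439 : ∀ d < 110000, FastPoints.okPt table 12 fast d = true :=
  FastPoints.okPts_sound table 12 pts439_ok (points438)

theorem points440 : ∀ d < 110250, FastPoints.okPt table 12 fast d = true :=
  FastPoints.okPts_sound table 12 pts440_ok (points439)

theorem points441 : ∀ d < 110500, FastPoints.okPt table 12 fast d = true :=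
  FastPoints.okPts_sound table 12 pts441_ok (points440)

theorem points442 : ∀ d < 110750, FastPoints.okPt table 12 fast d = true :=
  FastPoints.okPts_sound table 12 pts442_ok (points441)

theorem points443 : ∀ d < 111000, FastPoints.okPt table 12 fast d = true :=
  FastPoints.okPts_sound table 12 pts443_ok (points442)

theorem points444 : ∀ d < 111250, FastPoints.okPt table 12 fast d = true :=
  FastPoints.okPts_sound table 12 pts444_ok (points443)

theorem points445 : ∀ d < 111500, FastPoints.okPt table 12 fast d = true :=
  FastPoints.okPts_sound table 12 pts445_ok (points444)

theorem points446 : ∀ d < 111750, FastPoints.okPt table 12 fast d = true :=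
  FastPoints.okPts_sound table 12 pts446_ok (points445)

theorem points447 : ∀ d < 112000, FastPoints.okPt table 12 fast d = true :=
  FastPoints.okPts_sound table 12 pts447_ok (points446)

theorem points448 : ∀ d < 112250, FastPoints.okPt table 12 fast d = true :=
  FastPoints.okPts_sound table 12 pts448_ok (points447)

theorem points449 : ∀ d < 112500, FastPoints.okPt table 12 fast d = true :=
  FastPoints.okPts_sound table 12 pts449_ok (points448)

theorem points450 : ∀ d < 112750, FastPoints.okPt table 12 fast d = true :=
  FastPoints.okPts_sound table 12 pts450_ok (points449)

theorem points451 : ∀ d < 113000, FastPoints.okPt table 12 fast d = true :=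
  FastPoints.okPts_sound table 12 pts451_ok (points450)

theorem points452 : ∀ d < 113250, FastPoints.okPt table 12 fast d = true :=
  FastPoints.okPts_sound table 12 pts452_ok (points451)

theorem points453 : ∀ d < 113500, FastPoints.okPt table 12 fast d = true :=
  FastPoints.okPts_sound table 12 pts453_ok (points452)

theorem points454 : ∀ d < 113750, FastPoints.okPt table 12 fast d = true :=
  FastPoints.okPts_sound table 12 pts454_ok (points453)

theorem points455 : ∀ d < 114000, FastPoints.okPt table 12 fast d = true :=
  FastPoints.okPts_sound table 12 pts455_ok (points454)

theorem points456 : ∀ d < 114250, FastPoints.okPt table 12 fast d = true :=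
  FastPoints.okPts_sound table 12 pts456_ok (points455)

theorem points457 : ∀ d < 114500, FastPoints.okPt table 12 fast d = true :=
  FastPoints.okPts_sound table 12 pts457_ok (points456)

theorem points458 : ∀ d < 114750, FastPoints.okPt table 12 fast d = true :=
  FastPoints.okPts_sound table 12 pts458_ok (points457)

theorem points459 : ∀ d < 115000, FastPoints.okPt table 12 fast d = true :=
  FastPoints.okPts_sound table 12 pts459_ok (points458)

theorem points460 : ∀ d < 115250, FastPoints.okPt table 12 fast d = true :=
  FastPoints.okPts_sound table 12 pts460_ok (points459)

theorem points461 : ∀ d < 115500, FastPoints.okPt table 12 fast d = true :=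
  FastPoints.okPts_sound table 12 pts461_ok (points460)

theorem points462 : ∀ d < 115750, FastPoints.okPt table 12 fast d = true :=
  FastPoints.okPts_sound table 12 pts462_ok (points461)

theorem points463 : ∀ d < 116000, FastPoints.okPt table 12 fast d = true :=
  FastPoints.okPts_sound table 12 pts463_ok (points462)

theorem points464 : ∀ d < 116250, FastPoints.okPt table 12 fast d = true :=
  FastPoints.okPts_sound table 12 pts464_ok (points463)

theorem points465 : ∀ d < 116500, FastPoints.okPt table 12 fast d = true :=
  FastPoints.okPts_sound table 12 pts465_ok (points464)

theorem points466 : ∀ d < 116750, FastPoints.okPt table 12 fast d = true :=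
  FastPoints.okPts_sound table 12 pts466_ok (points465)

theorem points467 : ∀ d < 117000, FastPoints.okPt table 12 fast d = true :=
  FastPoints.okPts_sound table 12 pts467_ok (points466)

theorem points468 : ∀ d < 117250, FastPoints.okPt table 12 fast d = true :=
  FastPoints.okPts_sound table 12 pts468_ok (points467)

theorem points469 : ∀ d < 117500, FastPoints.okPt table 12 fast d = true :=
  FastPoints.okPts_sound table 12 pts469_ok (points468)

theorem points470 : ∀ d < 117750, FastPoints.okPt table 12 fast d = true :=
  FastPoints.okPts_sound table 12 pts470_ok (points469)

theorem points471 : ∀ d < 118000, FastPoints.okPt table 12 fast d = true :=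
  FastPoints.okPts_sound table 12 pts471_ok (points470)

theorem points472 : ∀ d < 118250, FastPoints.okPt table 12 fast d = true :=
  FastPoints.okPts_sound table 12 pts472_ok (points471)

theorem points473 : ∀ d < 118500, FastPoints.okPt table 12 fast d = true :=
  FastPoints.okPts_sound table 12 pts473_ok (points472)

theorem points474 : ∀ d < 118750, FastPoints.okPt table 12 fast d = true :=
  FastPoints.okPts_sound table 12 pts474_ok (points473)

theorem points475 : ∀ d < 119000, FastPoints.okPt table 12 fast d = true :=
  FastPoints.okPts_sound table 12 pts475_ok (points474)

theorem points476 : ∀ d < 119250, FastPoints.okPt table 12 fast d = true :=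
  FastPoints.okPts_sound table 12 pts476_ok (points475)

theorem points477 : ∀ d < 119500, FastPoints.okPt table 12 fast d = true :=
  FastPoints.okPts_sound table 12 pts477_ok (points476)

theorem points478 : ∀ d < 119750, FastPoints.okPt table 12 fast d = true :=
  FastPoints.okPts_sound table 12 pts478_ok (points477)

theorem points479 : ∀ d < 120000, FastPoints.okPt table 12 fast d = true :=
  FastPoints.okPts_sound table 12 pts479_ok (points478)

theorem points480 : ∀ d < 120250, FastPoints.okPt table 12 fast d = true :=
  FastPoints.okPts_sound table 12 pts480_ok (points479)

theorem points481 : ∀ d < 120500, FastPoints.okPt table 12 fast d = true :=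
  FastPoints.okPts_sound table 12 pts481_ok (points480)

theorem points482 : ∀ d < 120750, FastPoints.okPt table 12 fast d = true :=
  FastPoints.okPts_sound table 12 pts482_ok (points481)

theorem points483 : ∀ d < 121000, FastPoints.okPt table 12 fast d = true :=
  FastPoints.okPts_sound table 12 pts483_ok (points482)

theorem points484 : ∀ d < 121250, FastPoints.okPt table 12 fast d = true :=
  FastPoints.okPts_sound table 12 pts484_ok (points483)

theorem points485 : ∀ d < 121500, FastPoints.okPt table 12 fast d = true :=
  FastPoints.okPts_sound table 12 pts485_ok (points484)

theorem points486 : ∀ d < 121750, FastPoints.okPt table 12 fast d = true :=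
  FastPoints.okPts_sound table 12 pts486_ok (points485)

theorem points487 : ∀ d < 122000, FastPoints.okPt table 12 fast d = true :=
  FastPoints.okPts_sound table 12 pts487_ok (points486)

theorem points488 : ∀ d < 122250, FastPoints.okPt table 12 fast d = true :=
  FastPoints.okPts_sound table 12 pts488_ok (points487)

theorem points489 : ∀ d < 122500, FastPoints.okPt table 12 fast d = true :=
  FastPoints.okPts_sound table 12 pts489_ok (points488)

theorem points490 : ∀ d < 122750, FastPoints.okPt table 12 fast d = true :=
  FastPoints.okPts_sound table 12 pts490_ok (points489)

theorem points491 : ∀ d < 123000, FastPoints.okPt table 12 fast d = true :=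
  FastPoints.okPts_sound table 12 pts491_ok (points490)

theorem points492 : ∀ d < 123250, FastPoints.okPt table 12 fast d = true :=
  FastPoints.okPts_sound table 12 pts492_ok (points491)

theorem points493 : ∀ d < 123500, FastPoints.okPt table 12 fast d = true :=
  FastPoints.okPts_sound table 12 pts493_ok (points492)

theorem points494 : ∀ d < 123750, FastPoints.okPt table 12 fast d = true :=
  FastPoints.okPts_sound table 12 pts494_ok (points493)

theorem points495 : ∀ d < 124000, FastPoints.okPt table 12 fast d = true :=
  FastPoints.okPts_sound table 12 pts495_ok (points494)

theorem points496 : ∀ d < 124250, FastPoints.okPt table 12 fast d = true :=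
  FastPoints.okPts_sound table 12 pts496_ok (points495)

theorem points497 : ∀ d < 124500, FastPoints.okPt table 12 fast d = true :=
  FastPoints.okPts_sound table 12 pts497_ok (points496)

theorem points498 : ∀ d < 124750, FastPoints.okPt table 12 fast d = true :=
  FastPoints.okPts_sound table 12 pts498_ok (points497)

theorem points499 : ∀ d < 125000, FastPoints.okPt table 12 fast d = true :=
  FastPoints.okPts_sound table 12 pts499_ok (points498)

theorem points500 : ∀ d < 125250, FastPoints.okPt table 12 fast d = true :=
  FastPoints.okPts_sound table 12 pts500_ok (points499)

theorem points501 : ∀ d < 125500, FastPoints.okPt table 12 fast d = true :=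
  FastPoints.okPts_sound table 12 pts501_ok (points500)

theorem points502 : ∀ d < 125750, FastPoints.okPt table 12 fast d = true :=
  FastPoints.okPts_sound table 12 pts502_ok (points501)

theorem points503 : ∀ d < 126000, FastPoints.okPt table 12 fast d = true :=
  FastPoints.okPts_sound table 12 pts503_ok (points502)

theorem points504 : ∀ d < 126250, FastPoints.okPt table 12 fast d = true :=
  FastPoints.okPts_sound table 12 pts504_ok (points503)

theorem points505 : ∀ d < 126500, FastPoints.okPt table 12 fast d = true :=
  FastPoints.okPts_sound table 12 pts505_ok (points504)

theorem points506 : ∀ d < 126750, FastPoints.okPt table 12 fast d = true :=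
  FastPoints.okPts_sound table 12 pts506_ok (points505)

theorem points507 : ∀ d < 127000, FastPoints.okPt table 12 fast d = true :=
  FastPoints.okPts_sound table 12 pts507_ok (points506)

theorem points508 : ∀ d < 127250, FastPoints.okPt table 12 fast d = true :=
  FastPoints.okPts_sound table 12 pts508_ok (points507)

theorem points509 : ∀ d < 127500, FastPoints.okPt table 12 fast d = true :=
  FastPoints.okPts_sound table 12 pts509_ok (points508)

theorem points510 : ∀ d < 127750, FastPoints.okPt table 12 fast d = true :=
  FastPoints.okPts_sound table 12 pts510_ok (points509)

theorem points511 : ∀ d < 128000, FastPoints.okPt table 12 fast d = true :=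
  FastPoints.okPts_sound table 12 pts511_ok (points510)

theorem points512 : ∀ d < 128250, FastPoints.okPt table 12 fast d = true :=
  FastPoints.okPts_sound table 12 pts512_ok (points511)

theorem points513 : ∀ d < 128500, FastPoints.okPt table 12 fast d = true :=
  FastPoints.okPts_sound table 12 pts513_ok (points512)

theorem points514 : ∀ d < 128750, FastPoints.okPt table 12 fast d = true :=
  FastPoints.okPts_sound table 12 pts514_ok (points513)

theorem points515 : ∀ d < 129000, FastPoints.okPt table 12 fast d = true :=
  FastPoints.okPts_sound table 12 pts515_ok (points514)

theorem points516 : ∀ d < 129250, FastPoints.okPt table 12 fast d = true :=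
  FastPoints.okPts_sound table 12 pts516_ok (points515)

theorem points517 : ∀ d < 129500, FastPoints.okPt table 12 fast d = true :=
  FastPoints.okPts_sound table 12 pts517_ok (points516)

theorem points518 : ∀ d < 129750, FastPoints.okPt table 12 fast d = true :=
  FastPoints.okPts_sound table 12 pts518_ok (points517)

theorem points519 : ∀ d < 130000, FastPoints.okPt table 12 fast d = true :=
  FastPoints.okPts_sound table 12 pts519_ok (points518)

theorem points520 : ∀ d < 130250, FastPoints.okPt table 12 fast d = true :=
  FastPoints.okPts_sound table 12 pts520_ok (points519)

theorem points521 : ∀ d < 130500, FastPoints.okPt table 12 fast d = true :=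
  FastPoints.okPts_sound table 12 pts521_ok (points520)

theorem points522 : ∀ d < 130750, FastPoints.okPt table 12 fast d = true :=
  FastPoints.okPts_sound table 12 pts522_ok (points521)

theorem points523 : ∀ d < 131000, FastPoints.okPt table 12 fast d = true :=
  FastPoints.okPts_sound table 12 pts523_ok (points522)

theorem points524 : ∀ d < 131250, FastPoints.okPt table 12 fast d = true :=
  FastPoints.okPts_sound table 12 pts524_ok (points523)

theorem points525 : ∀ d < 131500, FastPoints.okPt table 12 fast d = true :=
  FastPoints.okPts_sound table 12 pts525_ok (points524)

theorem points526 : ∀ d < 131750, FastPoints.okPt table 12 fast d = true :=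
  FastPoints.okPts_sound table 12 pts526_ok (points525)

theorem points527 : ∀ d < 132000, FastPoints.okPt table 12 fast d = true :=
  FastPoints.okPts_sound table 12 pts527_ok (points526)

theorem points528 : ∀ d < 132250, FastPoints.okPt table 12 fast d = true :=
  FastPoints.okPts_sound table 12 pts528_ok (points527)

theorem points529 : ∀ d < 132500, FastPoints.okPt table 12 fast d = true :=
  FastPoints.okPts_sound table 12 pts529_ok (points528)

theorem points530 : ∀ d < 132750, FastPoints.okPt table 12 fast d = true :=
  FastPoints.okPts_sound table 12 pts530_ok (points529)

theorem points531 : ∀ d < 133000, FastPoints.okPt table 12 fast d = true :=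
  FastPoints.okPts_sound table 12 pts531_ok (points530)

theorem points532 : ∀ d < 133250, FastPoints.okPt table 12 fast d = true :=
  FastPoints.okPts_sound table 12 pts532_ok (points531)

theorem points533 : ∀ d < 133500, FastPoints.okPt table 12 fast d = true :=
  FastPoints.okPts_sound table 12 pts533_ok (points532)

theorem points534 : ∀ d < 133750, FastPoints.okPt table 12 fast d = true :=
  FastPoints.okPts_sound table 12 pts534_ok (points533)

theorem points535 : ∀ d < 134000, FastPoints.okPt table 12 fast d = true :=
  FastPoints.okPts_sound table 12 pts535_ok (points534)

theorem points536 : ∀ d < 134250, FastPoints.okPt table 12 fast d = true :=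
  FastPoints.okPts_sound table 12 pts536_ok (points535)

theorem points537 : ∀ d < 134500, FastPoints.okPt table 12 fast d = true :=
  FastPoints.okPts_sound table 12 pts537_ok (points536)

theorem points538 : ∀ d < 134750, FastPoints.okPt table 12 fast d = true :=
  FastPoints.okPts_sound table 12 pts538_ok (points537)

theorem points539 : ∀ d < 135000, FastPoints.okPt table 12 fast d = true :=
  FastPoints.okPts_sound table 12 pts539_ok (points538)

theorem points540 : ∀ d < 135250, FastPoints.okPt table 12 fast d = true :=
  FastPoints.okPts_sound table 12 pts540_ok (points539)

theorem points541 : ∀ d < 135500, FastPoints.okPt table 12 fast d = true :=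
  FastPoints.okPts_sound table 12 pts541_ok (points540)

theorem points542 : ∀ d < 135750, FastPoints.okPt table 12 fast d = true :=
  FastPoints.okPts_sound table 12 pts542_ok (points541)

theorem points543 : ∀ d < 136000, FastPoints.okPt table 12 fast d = true :=
  FastPoints.okPts_sound table 12 pts543_ok (points542)

theorem points544 : ∀ d < 136250, FastPoints.okPt table 12 fast d = true :=
  FastPoints.okPts_sound table 12 pts544_ok (points543)

theorem points545 : ∀ d < 136500, FastPoints.okPt table 12 fast d = true :=
  FastPoints.okPts_sound table 12 pts545_ok (points544)

theorem points546 : ∀ d < 136750, FastPoints.okPt table 12 fast d = true :=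
  FastPoints.okPts_sound table 12 pts546_ok (points545)

theorem points547 : ∀ d < 137000, FastPoints.okPt table 12 fast d = true :=
  FastPoints.okPts_sound table 12 pts547_ok (points546)

theorem points548 : ∀ d < 137250, FastPoints.okPt table 12 fast d = true :=
  FastPoints.okPts_sound table 12 pts548_ok (points547)

theorem points549 : ∀ d < 137500, FastPoints.okPt table 12 fast d = true :=
  FastPoints.okPts_sound table 12 pts549_ok (points548)

theorem points550 : ∀ d < 137750, FastPoints.okPt table 12 fast d = true :=
  FastPoints.okPts_sound table 12 pts550_ok (points549)

theorem points551 : ∀ d < 138000, FastPoints.okPt table 12 fast d = true :=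
  FastPoints.okPts_sound table 12 pts551_ok (points550)

theorem points552 : ∀ d < 138250, FastPoints.okPt table 12 fast d = true :=
  FastPoints.okPts_sound table 12 pts552_ok (points551)

theorem points553 : ∀ d < 138500, FastPoints.okPt table 12 fast d = true :=
  FastPoints.okPts_sound table 12 pts553_ok (points552)

theorem points554 : ∀ d < 138750, FastPoints.okPt table 12 fast d = true :=
  FastPoints.okPts_sound table 12 pts554_ok (points553)

theorem points555 : ∀ d < 139000, FastPoints.okPt table 12 fast d = true :=
  FastPoints.okPts_sound table 12 pts555_ok (points554)

theorem points556 : ∀ d < 139250, FastPoints.okPt table 12 fast d = true :=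
  FastPoints.okPts_sound table 12 pts556_ok (points555)

theorem points557 : ∀ d < 139500, FastPoints.okPt table 12 fast d = true :=
  FastPoints.okPts_sound table 12 pts557_ok (points556)

theorem points558 : ∀ d < 139750, FastPoints.okPt table 12 fast d = true :=
  FastPoints.okPts_sound table 12 pts558_ok (points557)

theorem points559 : ∀ d < 140000, FastPoints.okPt table 12 fast d = true :=
  FastPoints.okPts_sound table 12 pts559_ok (points558)

theorem points560 : ∀ d < 140250, FastPoints.okPt table 12 fast d = true :=
  FastPoints.okPts_sound table 12 pts560_ok (points559)

theorem points561 : ∀ d < 140500, FastPoints.okPt table 12 fast d = true :=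
  FastPoints.okPts_sound table 12 pts561_ok (points560)

theorem points562 : ∀ d < 140750, FastPoints.okPt table 12 fast d = true :=
  FastPoints.okPts_sound table 12 pts562_ok (points561)

theorem points563 : ∀ d < 141000, FastPoints.okPt table 12 fast d = true :=
  FastPoints.okPts_sound table 12 pts563_ok (points562)

theorem points564 : ∀ d < 141250, FastPoints.okPt table 12 fast d = true :=
  FastPoints.okPts_sound table 12 pts564_ok (points563)

theorem points565 : ∀ d < 141500, FastPoints.okPt table 12 fast d = true :=
  FastPoints.okPts_sound table 12 pts565_ok (points564)

theorem points566 : ∀ d < 141750, FastPoints.okPt table 12 fast d = true :=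
  FastPoints.okPts_sound table 12 pts566_ok (points565)

theorem points567 : ∀ d < 142000, FastPoints.okPt table 12 fast d = true :=
  FastPoints.okPts_sound table 12 pts567_ok (points566)

theorem points568 : ∀ d < 142250, FastPoints.okPt table 12 fast d = true :=
  FastPoints.okPts_sound table 12 pts568_ok (points567)

theorem points569 : ∀ d < 142500, FastPoints.okPt table 12 fast d = true :=
  FastPoints.okPts_sound table 12 pts569_ok (points568)

theorem points570 : ∀ d < 142750, FastPoints.okPt table 12 fast d = true :=
  FastPoints.okPts_sound table 12 pts570_ok (points569)

theorem points571 : ∀ d < 143000, FastPoints.okPt table 12 fast d = true :=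
  FastPoints.okPts_sound table 12 pts571_ok (points570)

theorem points572 : ∀ d < 143250, FastPoints.okPt table 12 fast d = true :=
  FastPoints.okPts_sound table 12 pts572_ok (points571)

theorem points573 : ∀ d < 143500, FastPoints.okPt table 12 fast d = true :=
  FastPoints.okPts_sound table 12 pts573_ok (points572)

theorem points574 : ∀ d < 143750, FastPoints.okPt table 12 fast d = true :=
  FastPoints.okPts_sound table 12 pts574_ok (points573)

theorem points575 : ∀ d < 144000, FastPoints.okPt table 12 fast d = true :=
  FastPoints.okPts_sound table 12 pts575_ok (points574)

theorem points576 : ∀ d < 144250, FastPoints.okPt table 12 fast d = true :=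
  FastPoints.okPts_sound table 12 pts576_ok (points575)

theorem points577 : ∀ d < 144500, FastPoints.okPt table 12 fast d = true :=
  FastPoints.okPts_sound table 12 pts577_ok (points576)

theorem points578 : ∀ d < 144750, FastPoints.okPt table 12 fast d = true :=
  FastPoints.okPts_sound table 12 pts578_ok (points577)

theorem points579 : ∀ d < 145000, FastPoints.okPt table 12 fast d = true :=
  FastPoints.okPts_sound table 12 pts579_ok (points578)

theorem points580 : ∀ d < 145250, FastPoints.okPt table 12 fast d = true :=
  FastPoints.okPts_sound table 12 pts580_ok (points579)

theorem points581 : ∀ d < 145500, FastPoints.okPt table 12 fast d = true :=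
  FastPoints.okPts_sound table 12 pts581_ok (points580)

theorem points582 : ∀ d < 145750, FastPoints.okPt table 12 fast d = true :=
  FastPoints.okPts_sound table 12 pts582_ok (points581)

theorem points583 : ∀ d < 146000, FastPoints.okPt table 12 fast d = true :=
  FastPoints.okPts_sound table 12 pts583_ok (points582)

theorem points584 : ∀ d < 146250, FastPoints.okPt table 12 fast d = true :=
  FastPoints.okPts_sound table 12 pts584_ok (points583)

theorem points585 : ∀ d < 146500, FastPoints.okPt table 12 fast d = true :=
  FastPoints.okPts_sound table 12 pts585_ok (points584)

theorem points586 : ∀ d < 146750, FastPoints.okPt table 12 fast d = true :=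
  FastPoints.okPts_sound table 12 pts586_ok (points585)

theorem points587 : ∀ d < 147000, FastPoints.okPt table 12 fast d = true :=
  FastPoints.okPts_sound table 12 pts587_ok (points586)

theorem points588 : ∀ d < 147250, FastPoints.okPt table 12 fast d = true :=
  FastPoints.okPts_sound table 12 pts588_ok (points587)

theorem points589 : ∀ d < 147500, FastPoints.okPt table 12 fast d = true :=
  FastPoints.okPts_sound table 12 pts589_ok (points588)

theorem points590 : ∀ d < 147750, FastPoints.okPt table 12 fast d = true :=
  FastPoints.okPts_sound table 12 pts590_ok (points589)

theorem points591 : ∀ d < 148000, FastPoints.okPt table 12 fast d = true :=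
  FastPoints.okPts_sound table 12 pts591_ok (points590)

theorem points592 : ∀ d < 148250, FastPoints.okPt table 12 fast d = true :=
  FastPoints.okPts_sound table 12 pts592_ok (points591)

theorem points593 : ∀ d < 148500, FastPoints.okPt table 12 fast d = true :=
  FastPoints.okPts_sound table 12 pts593_ok (points592)

theorem points594 : ∀ d < 148750, FastPoints.okPt table 12 fast d = true :=
  FastPoints.okPts_sound table 12 pts594_ok (points593)

theorem points595 : ∀ d < 149000, FastPoints.okPt table 12 fast d = true :=
  FastPoints.okPts_sound table 12 pts595_ok (points594)

theorem points596 : ∀ d < 149250, FastPoints.okPt table 12 fast d = true :=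
  FastPoints.okPts_sound table 12 pts596_ok (points595)

theorem points597 : ∀ d < 149500, FastPoints.okPt table 12 fast d = true :=
  FastPoints.okPts_sound table 12 pts597_ok (points596)

theorem points598 : ∀ d < 149750, FastPoints.okPt table 12 fast d = true :=
  FastPoints.okPts_sound table 12 pts598_ok (points597)

theorem points599 : ∀ d < 150000, FastPoints.okPt table 12 fast d = true :=
  FastPoints.okPts_sound table 12 pts599_ok (points598)

theorem points600 : ∀ d < 150250, FastPoints.okPt table 12 fast d = true :=
  FastPoints.okPts_sound table 12 pts600_ok (points599)

theorem points601 : ∀ d < 150500, FastPoints.okPt table 12 fast d = true :=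
  FastPoints.okPts_sound table 12 pts601_ok (points600)

theorem points602 : ∀ d < 150750, FastPoints.okPt table 12 fast d = true :=
  FastPoints.okPts_sound table 12 pts602_ok (points601)

theorem points603 : ∀ d < 151000, FastPoints.okPt table 12 fast d = true :=
  FastPoints.okPts_sound table 12 pts603_ok (points602)

theorem points604 : ∀ d < 151250, FastPoints.okPt table 12 fast d = true :=
  FastPoints.okPts_sound table 12 pts604_ok (points603)

theorem points605 : ∀ d < 151500, FastPoints.okPt table 12 fast d = true :=
  FastPoints.okPts_sound table 12 pts605_ok (points604)

theorem points606 : ∀ d < 151750, FastPoints.okPt table 12 fast d = true :=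
  FastPoints.okPts_sound table 12 pts606_ok (points605)

theorem points607 : ∀ d < 152000, FastPoints.okPt table 12 fast d = true :=
  FastPoints.okPts_sound table 12 pts607_ok (points606)

theorem points608 : ∀ d < 152250, FastPoints.okPt table 12 fast d = true :=
  FastPoints.okPts_sound table 12 pts608_ok (points607)

theorem points609 : ∀ d < 152500, FastPoints.okPt table 12 fast d = true :=
  FastPoints.okPts_sound table 12 pts609_ok (points608)

theorem points610 : ∀ d < 152750, FastPoints.okPt table 12 fast d = true :=
  FastPoints.okPts_sound table 12 pts610_ok (points609)

theorem points611 : ∀ d < 153000, FastPoints.okPt table 12 fast d = true :=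
  FastPoints.okPts_sound table 12 pts611_ok (points610)

theorem points612 : ∀ d < 153250, FastPoints.okPt table 12 fast d = true :=
  FastPoints.okPts_sound table 12 pts612_ok (points611)

theorem points613 : ∀ d < 153500, FastPoints.okPt table 12 fast d = true :=
  FastPoints.okPts_sound table 12 pts613_ok (points612)

theorem points614 : ∀ d < 153750, FastPoints.okPt table 12 fast d = true :=
  FastPoints.okPts_sound table 12 pts614_ok (points613)

theorem points615 : ∀ d < 154000, FastPoints.okPt table 12 fast d = true :=
  FastPoints.okPts_sound table 12 pts615_ok (points614)

theorem points616 : ∀ d < 154250, FastPoints.okPt table 12 fast d = true :=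
  FastPoints.okPts_sound table 12 pts616_ok (points615)

theorem points617 : ∀ d < 154500, FastPoints.okPt table 12 fast d = true :=
  FastPoints.okPts_sound table 12 pts617_ok (points616)

theorem points618 : ∀ d < 154750, FastPoints.okPt table 12 fast d = true :=
  FastPoints.okPts_sound table 12 pts618_ok (points617)

theorem points619 : ∀ d < 155000, FastPoints.okPt table 12 fast d = true :=
  FastPoints.okPts_sound table 12 pts619_ok (points618)

theorem points620 : ∀ d < 155250, FastPoints.okPt table 12 fast d = true :=
  FastPoints.okPts_sound table 12 pts620_ok (points619)

theorem points621 : ∀ d < 155500, FastPoints.okPt table 12 fast d = true :=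
  FastPoints.okPts_sound table 12 pts621_ok (points620)

theorem points622 : ∀ d < 155750, FastPoints.okPt table 12 fast d = true :=
  FastPoints.okPts_sound table 12 pts622_ok (points621)

theorem points623 : ∀ d < 156000, FastPoints.okPt table 12 fast d = true :=
  FastPoints.okPts_sound table 12 pts623_ok (points622)

theorem points624 : ∀ d < 156250, FastPoints.okPt table 12 fast d = true :=
  FastPoints.okPts_sound table 12 pts624_ok (points623)

theorem points625 : ∀ d < 156500, FastPoints.okPt table 12 fast d = true :=
  FastPoints.okPts_sound table 12 pts625_ok (points624)

theorem points626 : ∀ d < 156750, FastPoints.okPt table 12 fast d = true :=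
  FastPoints.okPts_sound table 12 pts626_ok (points625)

theorem points627 : ∀ d < 157000, FastPoints.okPt table 12 fast d = true :=
  FastPoints.okPts_sound table 12 pts627_ok (points626)

theorem points628 : ∀ d < 157250, FastPoints.okPt table 12 fast d = true :=
  FastPoints.okPts_sound table 12 pts628_ok (points627)

theorem points629 : ∀ d < 157500, FastPoints.okPt table 12 fast d = true :=
  FastPoints.okPts_sound table 12 pts629_ok (points628)

theorem points630 : ∀ d < 157750, FastPoints.okPt table 12 fast d = true :=
  FastPoints.okPts_sound table 12 pts630_ok (points629)

theorem points631 : ∀ d < 158000, FastPoints.okPt table 12 fast d = true :=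
  FastPoints.okPts_sound table 12 pts631_ok (points630)

theorem points632 : ∀ d < 158250, FastPoints.okPt table 12 fast d = true :=
  FastPoints.okPts_sound table 12 pts632_ok (points631)

theorem points633 : ∀ d < 158500, FastPoints.okPt table 12 fast d = true :=
  FastPoints.okPts_sound table 12 pts633_ok (points632)

theorem points634 : ∀ d < 158750, FastPoints.okPt table 12 fast d = true :=
  FastPoints.okPts_sound table 12 pts634_ok (points633)

theorem points635 : ∀ d < 159000, FastPoints.okPt table 12 fast d = true :=
  FastPoints.okPts_sound table 12 pts635_ok (points634)

theorem points636 : ∀ d < 159250, FastPoints.okPt table 12 fast d = true :=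
  FastPoints.okPts_sound table 12 pts636_ok (points635)

theorem points637 : ∀ d < 159500, FastPoints.okPt table 12 fast d = true :=
  FastPoints.okPts_sound table 12 pts637_ok (points636)

theorem points638 : ∀ d < 159750, FastPoints.okPt table 12 fast d = true :=
  FastPoints.okPts_sound table 12 pts638_ok (points637)

theorem points639 : ∀ d < 160000, FastPoints.okPt table 12 fast d = true :=
  FastPoints.okPts_sound table 12 pts639_ok (points638)

theorem points640 : ∀ d < 160250, FastPoints.okPt table 12 fast d = true :=
  FastPoints.okPts_sound table 12 pts640_ok (points639)

theorem points641 : ∀ d < 160500, FastPoints.okPt table 12 fast d = true :=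
  FastPoints.okPts_sound table 12 pts641_ok (points640)

theorem points642 : ∀ d < 160750, FastPoints.okPt table 12 fast d = true :=
  FastPoints.okPts_sound table 12 pts642_ok (points641)

theorem points643 : ∀ d < 161000, FastPoints.okPt table 12 fast d = true :=
  FastPoints.okPts_sound table 12 pts643_ok (points642)

theorem points644 : ∀ d < 161250, FastPoints.okPt table 12 fast d = true :=
  FastPoints.okPts_sound table 12 pts644_ok (points643)

theorem points645 : ∀ d < 161500, FastPoints.okPt table 12 fast d = true :=
  FastPoints.okPts_sound table 12 pts645_ok (points644)

theorem points646 : ∀ d < 161750, FastPoints.okPt table 12 fast d = true :=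
  FastPoints.okPts_sound table 12 pts646_ok (points645)

theorem points647 : ∀ d < 162000, FastPoints.okPt table 12 fast d = true :=
  FastPoints.okPts_sound table 12 pts647_ok (points646)

theorem points648 : ∀ d < 162250, FastPoints.okPt table 12 fast d = true :=
  FastPoints.okPts_sound table 12 pts648_ok (points647)

theorem points649 : ∀ d < 162500, FastPoints.okPt table 12 fast d = true :=
  FastPoints.okPts_sound table 12 pts649_ok (points648)

theorem points650 : ∀ d < 162750, FastPoints.okPt table 12 fast d = true :=
  FastPoints.okPts_sound table 12 pts650_ok (points649)

theorem points651 : ∀ d < 163000, FastPoints.okPt table 12 fast d = true :=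
  FastPoints.okPts_sound table 12 pts651_ok (points650)

theorem points652 : ∀ d < 163250, FastPoints.okPt table 12 fast d = true :=
  FastPoints.okPts_sound table 12 pts652_ok (points651)

theorem points653 : ∀ d < 163500, FastPoints.okPt table 12 fast d = true :=
  FastPoints.okPts_sound table 12 pts653_ok (points652)

theorem points654 : ∀ d < 163750, FastPoints.okPt table 12 fast d = true :=
  FastPoints.okPts_sound table 12 pts654_ok (points653)

theorem points655 : ∀ d < 164000, FastPoints.okPt table 12 fast d = true :=
  FastPoints.okPts_sound table 12 pts655_ok (points654)

theorem points656 : ∀ d < 164250, FastPoints.okPt table 12 fast d = true :=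
  FastPoints.okPts_sound table 12 pts656_ok (points655)

theorem points657 : ∀ d < 164500, FastPoints.okPt table 12 fast d = true :=
  FastPoints.okPts_sound table 12 pts657_ok (points656)

theorem points658 : ∀ d < 164750, FastPoints.okPt table 12 fast d = true :=
  FastPoints.okPts_sound table 12 pts658_ok (points657)

theorem points659 : ∀ d < 165000, FastPoints.okPt table 12 fast d = true :=
  FastPoints.okPts_sound table 12 pts659_ok (points658)

theorem points660 : ∀ d < 165250, FastPoints.okPt table 12 fast d = true :=
  FastPoints.okPts_sound table 12 pts660_ok (points659)

theorem points661 : ∀ d < 165500, FastPoints.okPt table 12 fast d = true :=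
  FastPoints.okPts_sound table 12 pts661_ok (points660)

theorem points662 : ∀ d < 165750, FastPoints.okPt table 12 fast d = true :=
  FastPoints.okPts_sound table 12 pts662_ok (points661)

theorem points663 : ∀ d < 166000, FastPoints.okPt table 12 fast d = true :=
  FastPoints.okPts_sound table 12 pts663_ok (points662)

theorem points664 : ∀ d < 166250, FastPoints.okPt table 12 fast d = true :=
  FastPoints.okPts_sound table 12 pts664_ok (points663)

theorem points665 : ∀ d < 166500, FastPoints.okPt table 12 fast d = true :=
  FastPoints.okPts_sound table 12 pts665_ok (points664)

theorem points666 : ∀ d < 166750, FastPoints.okPt table 12 fast d = true :=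
  FastPoints.okPts_sound table 12 pts666_ok (points665)

theorem points667 : ∀ d < 167000, FastPoints.okPt table 12 fast d = true :=
  FastPoints.okPts_sound table 12 pts667_ok (points666)

theorem points668 : ∀ d < 167250, FastPoints.okPt table 12 fast d = true :=
  FastPoints.okPts_sound table 12 pts668_ok (points667)

theorem points669 : ∀ d < 167500, FastPoints.okPt table 12 fast d = true :=
  FastPoints.okPts_sound table 12 pts669_ok (points668)

theorem points670 : ∀ d < 167750, FastPoints.okPt table 12 fast d = true :=
  FastPoints.okPts_sound table 12 pts670_ok (points669)

theorem points671 : ∀ d < 168000, FastPoints.okPt table 12 fast d = true :=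
  FastPoints.okPts_sound table 12 pts671_ok (points670)

theorem points672 : ∀ d < 168250, FastPoints.okPt table 12 fast d = true :=
  FastPoints.okPts_sound table 12 pts672_ok (points671)

theorem points673 : ∀ d < 168500, FastPoints.okPt table 12 fast d = true :=
  FastPoints.okPts_sound table 12 pts673_ok (points672)

theorem points674 : ∀ d < 168750, FastPoints.okPt table 12 fast d = true :=
  FastPoints.okPts_sound table 12 pts674_ok (points673)

theorem points675 : ∀ d < 169000, FastPoints.okPt table 12 fast d = true :=
  FastPoints.okPts_sound table 12 pts675_ok (points674)

theorem points676 : ∀ d < 169250, FastPoints.okPt table 12 fast d = true :=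
  FastPoints.okPts_sound table 12 pts676_ok (points675)

theorem points677 : ∀ d < 169500, FastPoints.okPt table 12 fast d = true :=
  FastPoints.okPts_sound table 12 pts677_ok (points676)

theorem points678 : ∀ d < 169750, FastPoints.okPt table 12 fast d = true :=
  FastPoints.okPts_sound table 12 pts678_ok (points677)

theorem points679 : ∀ d < 170000, FastPoints.okPt table 12 fast d = true :=
  FastPoints.okPts_sound table 12 pts679_ok (points678)

theorem points680 : ∀ d < 170250, FastPoints.okPt table 12 fast d = true :=
  FastPoints.okPts_sound table 12 pts680_ok (points679)

theorem points681 : ∀ d < 170500, FastPoints.okPt table 12 fast d = true :=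
  FastPoints.okPts_sound table 12 pts681_ok (points680)

theorem points682 : ∀ d < 170750, FastPoints.okPt table 12 fast d = true :=
  FastPoints.okPts_sound table 12 pts682_ok (points681)

theorem points683 : ∀ d < 171000, FastPoints.okPt table 12 fast d = true :=
  FastPoints.okPts_sound table 12 pts683_ok (points682)

theorem points684 : ∀ d < 171250, FastPoints.okPt table 12 fast d = true :=
  FastPoints.okPts_sound table 12 pts684_ok (points683)

theorem points685 : ∀ d < 171500, FastPoints.okPt table 12 fast d = true :=
  FastPoints.okPts_sound table 12 pts685_ok (points684)

theorem points686 : ∀ d < 171750, FastPoints.okPt table 12 fast d = true :=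
  FastPoints.okPts_sound table 12 pts686_ok (points685)

theorem points687 : ∀ d < 172000, FastPoints.okPt table 12 fast d = true :=
  FastPoints.okPts_sound table 12 pts687_ok (points686)

theorem points688 : ∀ d < 172250, FastPoints.okPt table 12 fast d = true :=
  FastPoints.okPts_sound table 12 pts688_ok (points687)

theorem points689 : ∀ d < 172500, FastPoints.okPt table 12 fast d = true :=
  FastPoints.okPts_sound table 12 pts689_ok (points688)

theorem points690 : ∀ d < 172750, FastPoints.okPt table 12 fast d = true :=
  FastPoints.okPts_sound table 12 pts690_ok (points689)

theorem points691 : ∀ d < 173000, FastPoints.okPt table 12 fast d = true :=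
  FastPoints.okPts_sound table 12 pts691_ok (points690)

theorem points692 : ∀ d < 173250, FastPoints.okPt table 12 fast d = true :=
  FastPoints.okPts_sound table 12 pts692_ok (points691)

theorem points693 : ∀ d < 173500, FastPoints.okPt table 12 fast d = true :=
  FastPoints.okPts_sound table 12 pts693_ok (points692)

theorem points694 : ∀ d < 173750, FastPoints.okPt table 12 fast d = true :=
  FastPoints.okPts_sound table 12 pts694_ok (points693)

theorem points695 : ∀ d < 174000, FastPoints.okPt table 12 fast d = true :=
  FastPoints.okPts_sound table 12 pts695_ok (points694)

theorem points696 : ∀ d < 174250, FastPoints.okPt table 12 fast d = true :=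
  FastPoints.okPts_sound table 12 pts696_ok (points695)

theorem points697 : ∀ d < 174500, FastPoints.okPt table 12 fast d = true :=
  FastPoints.okPts_sound table 12 pts697_ok (points696)

theorem points698 : ∀ d < 174750, FastPoints.okPt table 12 fast d = true :=
  FastPoints.okPts_sound table 12 pts698_ok (points697)

theorem points699 : ∀ d < 175000, FastPoints.okPt table 12 fast d = true :=
  FastPoints.okPts_sound table 12 pts699_ok (points698)

theorem points700 : ∀ d < 175250, FastPoints.okPt table 12 fast d = true :=
  FastPoints.okPts_sound table 12 pts700_ok (points699)

theorem points701 : ∀ d < 175500, FastPoints.okPt table 12 fast d = true :=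
  FastPoints.okPts_sound table 12 pts701_ok (points700)

theorem points702 : ∀ d < 175750, FastPoints.okPt table 12 fast d = true :=
  FastPoints.okPts_sound table 12 pts702_ok (points701)

theorem points703 : ∀ d < 176000, FastPoints.okPt table 12 fast d = true :=
  FastPoints.okPts_sound table 12 pts703_ok (points702)

theorem points704 : ∀ d < 176250, FastPoints.okPt table 12 fast d = true :=
  FastPoints.okPts_sound table 12 pts704_ok (points703)

theorem points705 : ∀ d < 176500, FastPoints.okPt table 12 fast d = true :=
  FastPoints.okPts_sound table 12 pts705_ok (points704)

theorem points706 : ∀ d < 176750, FastPoints.okPt table 12 fast d = true :=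
  FastPoints.okPts_sound table 12 pts706_ok (points705)

theorem points707 : ∀ d < 177000, FastPoints.okPt table 12 fast d = true :=
  FastPoints.okPts_sound table 12 pts707_ok (points706)

theorem points708 : ∀ d < 177250, FastPoints.okPt table 12 fast d = true :=
  FastPoints.okPts_sound table 12 pts708_ok (points707)

theorem points709 : ∀ d < 177500, FastPoints.okPt table 12 fast d = true :=
  FastPoints.okPts_sound table 12 pts709_ok (points708)

theorem points710 : ∀ d < 177750, FastPoints.okPt table 12 fast d = true :=
  FastPoints.okPts_sound table 12 pts710_ok (points709)

theorem points711 : ∀ d < 178000, FastPoints.okPt table 12 fast d = true :=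
  FastPoints.okPts_sound table 12 pts711_ok (points710)

theorem points712 : ∀ d < 178250, FastPoints.okPt table 12 fast d = true :=
  FastPoints.okPts_sound table 12 pts712_ok (points711)

theorem points713 : ∀ d < 178500, FastPoints.okPt table 12 fast d = true :=
  FastPoints.okPts_sound table 12 pts713_ok (points712)

theorem points714 : ∀ d < 178750, FastPoints.okPt table 12 fast d = true :=
  FastPoints.okPts_sound table 12 pts714_ok (points713)

theorem points715 : ∀ d < 179000, FastPoints.okPt table 12 fast d = true :=
  FastPoints.okPts_sound table 12 pts715_ok (points714)

theorem points716 : ∀ d < 179250, FastPoints.okPt table 12 fast d = true :=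
  FastPoints.okPts_sound table 12 pts716_ok (points715)

theorem points717 : ∀ d < 179500, FastPoints.okPt table 12 fast d = true :=
  FastPoints.okPts_sound table 12 pts717_ok (points716)

theorem points718 : ∀ d < 179750, FastPoints.okPt table 12 fast d = true :=
  FastPoints.okPts_sound table 12 pts718_ok (points717)

theorem points719 : ∀ d < 180000, FastPoints.okPt table 12 fast d = true :=
  FastPoints.okPts_sound table 12 pts719_ok (points718)

theorem points720 : ∀ d < 180250, FastPoints.okPt table 12 fast d = true :=
  FastPoints.okPts_sound table 12 pts720_ok (points719)

theorem points721 : ∀ d < 180500, FastPoints.okPt table 12 fast d = true :=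
  FastPoints.okPts_sound table 12 pts721_ok (points720)

theorem points722 : ∀ d < 180750, FastPoints.okPt table 12 fast d = true :=
  FastPoints.okPts_sound table 12 pts722_ok (points721)

theorem points723 : ∀ d < 181000, FastPoints.okPt table 12 fast d = true :=
  FastPoints.okPts_sound table 12 pts723_ok (points722)

theorem points724 : ∀ d < 181250, FastPoints.okPt table 12 fast d = true :=
  FastPoints.okPts_sound table 12 pts724_ok (points723)

theorem points725 : ∀ d < 181500, FastPoints.okPt table 12 fast d = true :=
  FastPoints.okPts_sound table 12 pts725_ok (points724)

theorem points726 : ∀ d < 181750, FastPoints.okPt table 12 fast d = true :=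
  FastPoints.okPts_sound table 12 pts726_ok (points725)

theorem points727 : ∀ d < 182000, FastPoints.okPt table 12 fast d = true :=
  FastPoints.okPts_sound table 12 pts727_ok (points726)

theorem points728 : ∀ d < 182250, FastPoints.okPt table 12 fast d = true :=
  FastPoints.okPts_sound table 12 pts728_ok (points727)

theorem points729 : ∀ d < 182500, FastPoints.okPt table 12 fast d = true :=
  FastPoints.okPts_sound table 12 pts729_ok (points728)

theorem points730 : ∀ d < 182750, FastPoints.okPt table 12 fast d = true :=
  FastPoints.okPts_sound table 12 pts730_ok (points729)

theorem points731 : ∀ d < 183000, FastPoints.okPt table 12 fast d = true :=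
  FastPoints.okPts_sound table 12 pts731_ok (points730)

theorem points732 : ∀ d < 183250, FastPoints.okPt table 12 fast d = true :=
  FastPoints.okPts_sound table 12 pts732_ok (points731)

theorem points733 : ∀ d < 183500, FastPoints.okPt table 12 fast d = true :=
  FastPoints.okPts_sound table 12 pts733_ok (points732)

theorem points734 : ∀ d < 183750, FastPoints.okPt table 12 fast d = true :=
  FastPoints.okPts_sound table 12 pts734_ok (points733)

theorem points735 : ∀ d < 184000, FastPoints.okPt table 12 fast d = true :=
  FastPoints.okPts_sound table 12 pts735_ok (points734)

theorem points736 : ∀ d < 184250, FastPoints.okPt table 12 fast d = true :=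
  FastPoints.okPts_sound table 12 pts736_ok (points735)

theorem points737 : ∀ d < 184500, FastPoints.okPt table 12 fast d = true :=
  FastPoints.okPts_sound table 12 pts737_ok (points736)

theorem points738 : ∀ d < 184750, FastPoints.okPt table 12 fast d = true :=
  FastPoints.okPts_sound table 12 pts738_ok (points737)

theorem points739 : ∀ d < 185000, FastPoints.okPt table 12 fast d = true :=
  FastPoints.okPts_sound table 12 pts739_ok (points738)

theorem points740 : ∀ d < 185250, FastPoints.okPt table 12 fast d = true :=
  FastPoints.okPts_sound table 12 pts740_ok (points739)

theorem points741 : ∀ d < 185500, FastPoints.okPt table 12 fast d = true :=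
  FastPoints.okPts_sound table 12 pts741_ok (points740)

theorem points742 : ∀ d < 185750, FastPoints.okPt table 12 fast d = true :=
  FastPoints.okPts_sound table 12 pts742_ok (points741)

theorem points743 : ∀ d < 186000, FastPoints.okPt table 12 fast d = true :=
  FastPoints.okPts_sound table 12 pts743_ok (points742)

theorem points744 : ∀ d < 186250, FastPoints.okPt table 12 fast d = true :=
  FastPoints.okPts_sound table 12 pts744_ok (points743)

theorem points745 : ∀ d < 186500, FastPoints.okPt table 12 fast d = true :=
  FastPoints.okPts_sound table 12 pts745_ok (points744)

theorem points746 : ∀ d < 186750, FastPoints.okPt table 12 fast d = true :=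
  FastPoints.okPts_sound table 12 pts746_ok (points745)

theorem points747 : ∀ d < 187000, FastPoints.okPt table 12 fast d = true :=
  FastPoints.okPts_sound table 12 pts747_ok (points746)

theorem points748 : ∀ d < 187250, FastPoints.okPt table 12 fast d = true :=
  FastPoints.okPts_sound table 12 pts748_ok (points747)

theorem points749 : ∀ d < 187500, FastPoints.okPt table 12 fast d = true :=
  FastPoints.okPts_sound table 12 pts749_ok (points748)

theorem points750 : ∀ d < 187750, FastPoints.okPt table 12 fast d = true :=
  FastPoints.okPts_sound table 12 pts750_ok (points749)

theorem points751 : ∀ d < 188000, FastPoints.okPt table 12 fast d = true :=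
  FastPoints.okPts_sound table 12 pts751_ok (points750)

theorem points752 : ∀ d < 188250, FastPoints.okPt table 12 fast d = true :=
  FastPoints.okPts_sound table 12 pts752_ok (points751)

theorem points753 : ∀ d < 188500, FastPoints.okPt table 12 fast d = true :=
  FastPoints.okPts_sound table 12 pts753_ok (points752)

theorem points754 : ∀ d < 188750, FastPoints.okPt table 12 fast d = true :=
  FastPoints.okPts_sound table 12 pts754_ok (points753)

theorem points755 : ∀ d < 189000, FastPoints.okPt table 12 fast d = true :=
  FastPoints.okPts_sound table 12 pts755_ok (points754)

theorem points756 : ∀ d < 189250, FastPoints.okPt table 12 fast d = true :=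
  FastPoints.okPts_sound table 12 pts756_ok (points755)

theorem points757 : ∀ d < 189500, FastPoints.okPt table 12 fast d = true :=
  FastPoints.okPts_sound table 12 pts757_ok (points756)

theorem points758 : ∀ d < 189750, FastPoints.okPt table 12 fast d = true :=
  FastPoints.okPts_sound table 12 pts758_ok (points757)

theorem points759 : ∀ d < 190000, FastPoints.okPt table 12 fast d = true :=
  FastPoints.okPts_sound table 12 pts759_ok (points758)

theorem points760 : ∀ d < 190250, FastPoints.okPt table 12 fast d = true :=
  FastPoints.okPts_sound table 12 pts760_ok (points759)

theorem points761 : ∀ d < 190500, FastPoints.okPt table 12 fast d = true :=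
  FastPoints.okPts_sound table 12 pts761_ok (points760)

theorem points762 : ∀ d < 190750, FastPoints.okPt table 12 fast d = true :=
  FastPoints.okPts_sound table 12 pts762_ok (points761)

theorem points763 : ∀ d < 191000, FastPoints.okPt table 12 fast d = true :=
  FastPoints.okPts_sound table 12 pts763_ok (points762)

theorem points764 : ∀ d < 191250, FastPoints.okPt table 12 fast d = true :=
  FastPoints.okPts_sound table 12 pts764_ok (points763)

theorem points765 : ∀ d < 191500, FastPoints.okPt table 12 fast d = true :=
  FastPoints.okPts_sound table 12 pts765_ok (points764)

theorem points766 : ∀ d < 191750, FastPoints.okPt table 12 fast d = true :=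
  FastPoints.okPts_sound table 12 pts766_ok (points765)

theorem points767 : ∀ d < 192000, FastPoints.okPt table 12 fast d = true :=
  FastPoints.okPts_sound table 12 pts767_ok (points766)

theorem points768 : ∀ d < 192250, FastPoints.okPt table 12 fast d = true :=
  FastPoints.okPts_sound table 12 pts768_ok (points767)

theorem points769 : ∀ d < 192500, FastPoints.okPt table 12 fast d = true :=
  FastPoints.okPts_sound table 12 pts769_ok (points768)

theorem points770 : ∀ d < 192750, FastPoints.okPt table 12 fast d = true :=
  FastPoints.okPts_sound table 12 pts770_ok (points769)

theorem points771 : ∀ d < 193000, FastPoints.okPt table 12 fast d = true :=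
  FastPoints.okPts_sound table 12 pts771_ok (points770)

theorem points772 : ∀ d < 193250, FastPoints.okPt table 12 fast d = true :=
  FastPoints.okPts_sound table 12 pts772_ok (points771)

theorem points773 : ∀ d < 193500, FastPoints.okPt table 12 fast d = true :=
  FastPoints.okPts_sound table 12 pts773_ok (points772)

theorem points774 : ∀ d < 193750, FastPoints.okPt table 12 fast d = true :=
  FastPoints.okPts_sound table 12 pts774_ok (points773)

theorem points775 : ∀ d < 194000, FastPoints.okPt table 12 fast d = true :=
  FastPoints.okPts_sound table 12 pts775_ok (points774)

theorem points776 : ∀ d < 194250, FastPoints.okPt table 12 fast d = true :=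
  FastPoints.okPts_sound table 12 pts776_ok (points775)

theorem points777 : ∀ d < 194500, FastPoints.okPt table 12 fast d = true :=
  FastPoints.okPts_sound table 12 pts777_ok (points776)

theorem points778 : ∀ d < 194750, FastPoints.okPt table 12 fast d = true :=
  FastPoints.okPts_sound table 12 pts778_ok (points777)

theorem points779 : ∀ d < 195000, FastPoints.okPt table 12 fast d = true :=
  FastPoints.okPts_sound table 12 pts779_ok (points778)

theorem points780 : ∀ d < 195250, FastPoints.okPt table 12 fast d = true :=
  FastPoints.okPts_sound table 12 pts780_ok (points779)

theorem points781 : ∀ d < 195500, FastPoints.okPt table 12 fast d = true :=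
  FastPoints.okPts_sound table 12 pts781_ok (points780)

theorem points782 : ∀ d < 195750, FastPoints.okPt table 12 fast d = true :=
  FastPoints.okPts_sound table 12 pts782_ok (points781)

theorem points783 : ∀ d < 196000, FastPoints.okPt table 12 fast d = true :=
  FastPoints.okPts_sound table 12 pts783_ok (points782)

theorem points784 : ∀ d < 196250, FastPoints.okPt table 12 fast d = true :=
  FastPoints.okPts_sound table 12 pts784_ok (points783)

theorem points785 : ∀ d < 196500, FastPoints.okPt table 12 fast d = true :=
  FastPoints.okPts_sound table 12 pts785_ok (points784)

theorem points786 : ∀ d < 196750, FastPoints.okPt table 12 fast d = true :=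
  FastPoints.okPts_sound table 12 pts786_ok (points785)

theorem points787 : ∀ d < 197000, FastPoints.okPt table 12 fast d = true :=
  FastPoints.okPts_sound table 12 pts787_ok (points786)

theorem points788 : ∀ d < 197250, FastPoints.okPt table 12 fast d = true :=
  FastPoints.okPts_sound table 12 pts788_ok (points787)

theorem points789 : ∀ d < 197500, FastPoints.okPt table 12 fast d = true :=
  FastPoints.okPts_sound table 12 pts789_ok (points788)

theorem points790 : ∀ d < 197750, FastPoints.okPt table 12 fast d = true :=
  FastPoints.okPts_sound table 12 pts790_ok (points789)

theorem points791 : ∀ d < 198000, FastPoints.okPt table 12 fast d = true :=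
  FastPoints.okPts_sound table 12 pts791_ok (points790)

theorem points792 : ∀ d < 198250, FastPoints.okPt table 12 fast d = true :=
  FastPoints.okPts_sound table 12 pts792_ok (points791)

theorem points793 : ∀ d < 198500, FastPoints.okPt table 12 fast d = true :=
  FastPoints.okPts_sound table 12 pts793_ok (points792)

theorem points794 : ∀ d < 198750, FastPoints.okPt table 12 fast d = true :=
  FastPoints.okPts_sound table 12 pts794_ok (points793)

theorem points795 : ∀ d < 199000, FastPoints.okPt table 12 fast d = true :=
  FastPoints.okPts_sound table 12 pts795_ok (points794)

theorem points796 : ∀ d < 199250, FastPoints.okPt table 12 fast d = true :=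
  FastPoints.okPts_sound table 12 pts796_ok (points795)

theorem points797 : ∀ d < 199500, FastPoints.okPt table 12 fast d = true :=
  FastPoints.okPts_sound table 12 pts797_ok (points796)

theorem points798 : ∀ d < 199750, FastPoints.okPt table 12 fast d = true :=
  FastPoints.okPts_sound table 12 pts798_ok (points797)

theorem points799 : ∀ d < 200000, FastPoints.okPt table 12 fast d = true :=
  FastPoints.okPts_sound table 12 pts799_ok (points798)

theorem points800 : ∀ d < 200250, FastPoints.okPt table 12 fast d = true :=
  FastPoints.okPts_sound table 12 pts800_ok (points799)

theorem points801 : ∀ d < 200500, FastPoints.okPt table 12 fast d = true :=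
  FastPoints.okPts_sound table 12 pts801_ok (points800)

theorem points802 : ∀ d < 200750, FastPoints.okPt table 12 fast d = true :=
  FastPoints.okPts_sound table 12 pts802_ok (points801)

theorem points803 : ∀ d < 201000, FastPoints.okPt table 12 fast d = true :=
  FastPoints.okPts_sound table 12 pts803_ok (points802)

theorem points804 : ∀ d < 201250, FastPoints.okPt table 12 fast d = true :=
  FastPoints.okPts_sound table 12 pts804_ok (points803)

theorem points805 : ∀ d < 201500, FastPoints.okPt table 12 fast d = true :=
  FastPoints.okPts_sound table 12 pts805_ok (points804)

theorem points806 : ∀ d < 201750, FastPoints.okPt table 12 fast d = true :=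
  FastPoints.okPts_sound table 12 pts806_ok (points805)

theorem points807 : ∀ d < 202000, FastPoints.okPt table 12 fast d = true :=
  FastPoints.okPts_sound table 12 pts807_ok (points806)

theorem points808 : ∀ d < 202250, FastPoints.okPt table 12 fast d = true :=
  FastPoints.okPts_sound table 12 pts808_ok (points807)

theorem points809 : ∀ d < 202500, FastPoints.okPt table 12 fast d = true :=
  FastPoints.okPts_sound table 12 pts809_ok (points808)

theorem points810 : ∀ d < 202750, FastPoints.okPt table 12 fast d = true :=
  FastPoints.okPts_sound table 12 pts810_ok (points809)

theorem points811 : ∀ d < 203000, FastPoints.okPt table 12 fast d = true :=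
  FastPoints.okPts_sound table 12 pts811_ok (points810)

theorem points812 : ∀ d < 203250, FastPoints.okPt table 12 fast d = true :=
  FastPoints.okPts_sound table 12 pts812_ok (points811)

theorem points813 : ∀ d < 203500, FastPoints.okPt table 12 fast d = true :=
  FastPoints.okPts_sound table 12 pts813_ok (points812)

theorem points814 : ∀ d < 203750, FastPoints.okPt table 12 fast d = true :=
  FastPoints.okPts_sound table 12 pts814_ok (points813)

theorem points815 : ∀ d < 204000, FastPoints.okPt table 12 fast d = true :=
  FastPoints.okPts_sound table 12 pts815_ok (points814)

theorem points816 : ∀ d < 204250, FastPoints.okPt table 12 fast d = true :=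
  FastPoints.okPts_sound table 12 pts816_ok (points815)

theorem points817 : ∀ d < 204500, FastPoints.okPt table 12 fast d = true :=
  FastPoints.okPts_sound table 12 pts817_ok (points816)

theorem points818 : ∀ d < 204750, FastPoints.okPt table 12 fast d = true :=
  FastPoints.okPts_sound table 12 pts818_ok (points817)

theorem points819 : ∀ d < 205000, FastPoints.okPt table 12 fast d = true :=
  FastPoints.okPts_sound table 12 pts819_ok (points818)

theorem points820 : ∀ d < 205250, FastPoints.okPt table 12 fast d = true :=
  FastPoints.okPts_sound table 12 pts820_ok (points819)

theorem points821 : ∀ d < 205500, FastPoints.okPt table 12 fast d = true :=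
  FastPoints.okPts_sound table 12 pts821_ok (points820)

theorem points822 : ∀ d < 205750, FastPoints.okPt table 12 fast d = true :=
  FastPoints.okPts_sound table 12 pts822_ok (points821)

theorem points823 : ∀ d < 206000, FastPoints.okPt table 12 fast d = true :=
  FastPoints.okPts_sound table 12 pts823_ok (points822)

theorem points824 : ∀ d < 206250, FastPoints.okPt table 12 fast d = true :=
  FastPoints.okPts_sound table 12 pts824_ok (points823)

theorem points825 : ∀ d < 206500, FastPoints.okPt table 12 fast d = true :=
  FastPoints.okPts_sound table 12 pts825_ok (points824)

theorem points826 : ∀ d < 206750, FastPoints.okPt table 12 fast d = true :=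
  FastPoints.okPts_sound table 12 pts826_ok (points825)

theorem points827 : ∀ d < 207000, FastPoints.okPt table 12 fast d = true :=
  FastPoints.okPts_sound table 12 pts827_ok (points826)

theorem points828 : ∀ d < 207250, FastPoints.okPt table 12 fast d = true :=
  FastPoints.okPts_sound table 12 pts828_ok (points827)

theorem points829 : ∀ d < 207500, FastPoints.okPt table 12 fast d = true :=
  FastPoints.okPts_sound table 12 pts829_ok (points828)

theorem points830 : ∀ d < 207750, FastPoints.okPt table 12 fast d = true :=
  FastPoints.okPts_sound table 12 pts830_ok (points829)

theorem points831 : ∀ d < 208000, FastPoints.okPt table 12 fast d = true :=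
  FastPoints.okPts_sound table 12 pts831_ok (points830)

theorem points832 : ∀ d < 208250, FastPoints.okPt table 12 fast d = true :=
  FastPoints.okPts_sound table 12 pts832_ok (points831)

theorem points833 : ∀ d < 208500, FastPoints.okPt table 12 fast d = true :=
  FastPoints.okPts_sound table 12 pts833_ok (points832)

theorem points834 : ∀ d < 208750, FastPoints.okPt table 12 fast d = true :=
  FastPoints.okPts_sound table 12 pts834_ok (points833)

theorem points835 : ∀ d < 209000, FastPoints.okPt table 12 fast d = true :=
  FastPoints.okPts_sound table 12 pts835_ok (points834)

theorem points836 : ∀ d < 209250, FastPoints.okPt table 12 fast d = true :=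
  FastPoints.okPts_sound table 12 pts836_ok (points835)

theorem points837 : ∀ d < 209500, FastPoints.okPt table 12 fast d = true :=
  FastPoints.okPts_sound table 12 pts837_ok (points836)

theorem points838 : ∀ d < 209750, FastPoints.okPt table 12 fast d = true :=
  FastPoints.okPts_sound table 12 pts838_ok (points837)

theorem points839 : ∀ d < 210000, FastPoints.okPt table 12 fast d = true :=
  FastPoints.okPts_sound table 12 pts839_ok (points838)

theorem points840 : ∀ d < 210250, FastPoints.okPt table 12 fast d = true :=
  FastPoints.okPts_sound table 12 pts840_ok (points839)

theorem points841 : ∀ d < 210500, FastPoints.okPt table 12 fast d = true :=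
  FastPoints.okPts_sound table 12 pts841_ok (points840)

theorem points842 : ∀ d < 210750, FastPoints.okPt table 12 fast d = true :=
  FastPoints.okPts_sound table 12 pts842_ok (points841)

theorem points843 : ∀ d < 211000, FastPoints.okPt table 12 fast d = true :=
  FastPoints.okPts_sound table 12 pts843_ok (points842)

theorem points844 : ∀ d < 211250, FastPoints.okPt table 12 fast d = true :=
  FastPoints.okPts_sound table 12 pts844_ok (points843)

theorem points845 : ∀ d < 211500, FastPoints.okPt table 12 fast d = true :=
  FastPoints.okPts_sound table 12 pts845_ok (points844)

theorem points846 : ∀ d < 211750, FastPoints.okPt table 12 fast d = true :=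
  FastPoints.okPts_sound table 12 pts846_ok (points845)

theorem points847 : ∀ d < 212000, FastPoints.okPt table 12 fast d = true :=
  FastPoints.okPts_sound table 12 pts847_ok (points846)

theorem points848 : ∀ d < 212250, FastPoints.okPt table 12 fast d = true :=
  FastPoints.okPts_sound table 12 pts848_ok (points847)

theorem points849 : ∀ d < 212500, FastPoints.okPt table 12 fast d = true :=
  FastPoints.okPts_sound table 12 pts849_ok (points848)

theorem points850 : ∀ d < 212750, FastPoints.okPt table 12 fast d = true :=
  FastPoints.okPts_sound table 12 pts850_ok (points849)

theorem points851 : ∀ d < 213000, FastPoints.okPt table 12 fast d = true :=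
  FastPoints.okPts_sound table 12 pts851_ok (points850)

theorem points852 : ∀ d < 213250, FastPoints.okPt table 12 fast d = true :=
  FastPoints.okPts_sound table 12 pts852_ok (points851)

theorem points853 : ∀ d < 213500, FastPoints.okPt table 12 fast d = true :=
  FastPoints.okPts_sound table 12 pts853_ok (points852)

theorem points854 : ∀ d < 213750, FastPoints.okPt table 12 fast d = true :=
  FastPoints.okPts_sound table 12 pts854_ok (points853)

theorem points855 : ∀ d < 214000, FastPoints.okPt table 12 fast d = true :=
  FastPoints.okPts_sound table 12 pts855_ok (points854)

theorem points856 : ∀ d < 214250, FastPoints.okPt table 12 fast d = true :=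
  FastPoints.okPts_sound table 12 pts856_ok (points855)

theorem points857 : ∀ d < 214500, FastPoints.okPt table 12 fast d = true :=
  FastPoints.okPts_sound table 12 pts857_ok (points856)

theorem points858 : ∀ d < 214750, FastPoints.okPt table 12 fast d = true :=
  FastPoints.okPts_sound table 12 pts858_ok (points857)

theorem points859 : ∀ d < 215000, FastPoints.okPt table 12 fast d = true :=
  FastPoints.okPts_sound table 12 pts859_ok (points858)

theorem points860 : ∀ d < 215250, FastPoints.okPt table 12 fast d = true :=
  FastPoints.okPts_sound table 12 pts860_ok (points859)

theorem points861 : ∀ d < 215500, FastPoints.okPt table 12 fast d = true :=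
  FastPoints.okPts_sound table 12 pts861_ok (points860)

theorem points862 : ∀ d < 215750, FastPoints.okPt table 12 fast d = true :=
  FastPoints.okPts_sound table 12 pts862_ok (points861)

theorem points863 : ∀ d < 216000, FastPoints.okPt table 12 fast d = true :=
  FastPoints.okPts_sound table 12 pts863_ok (points862)

theorem points864 : ∀ d < 216250, FastPoints.okPt table 12 fast d = true :=
  FastPoints.okPts_sound table 12 pts864_ok (points863)

theorem points865 : ∀ d < 216500, FastPoints.okPt table 12 fast d = true :=
  FastPoints.okPts_sound table 12 pts865_ok (points864)

theorem points866 : ∀ d < 216750, FastPoints.okPt table 12 fast d = true :=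
  FastPoints.okPts_sound table 12 pts866_ok (points865)

theorem points867 : ∀ d < 217000, FastPoints.okPt table 12 fast d = true :=
  FastPoints.okPts_sound table 12 pts867_ok (points866)

theorem points868 : ∀ d < 217250, FastPoints.okPt table 12 fast d = true :=
  FastPoints.okPts_sound table 12 pts868_ok (points867)

theorem points869 : ∀ d < 217500, FastPoints.okPt table 12 fast d = true :=
  FastPoints.okPts_sound table 12 pts869_ok (points868)

theorem points870 : ∀ d < 217750, FastPoints.okPt table 12 fast d = true :=
  FastPoints.okPts_sound table 12 pts870_ok (points869)

theorem points871 : ∀ d < 218000, FastPoints.okPt table 12 fast d = true :=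
  FastPoints.okPts_sound table 12 pts871_ok (points870)

theorem points872 : ∀ d < 218250, FastPoints.okPt table 12 fast d = true :=
  FastPoints.okPts_sound table 12 pts872_ok (points871)

theorem points873 : ∀ d < 218500, FastPoints.okPt table 12 fast d = true :=
  FastPoints.okPts_sound table 12 pts873_ok (points872)

theorem points874 : ∀ d < 218750, FastPoints.okPt table 12 fast d = true :=
  FastPoints.okPts_sound table 12 pts874_ok (points873)

theorem points875 : ∀ d < 219000, FastPoints.okPt table 12 fast d = true :=
  FastPoints.okPts_sound table 12 pts875_ok (points874)

theorem points876 : ∀ d < 219250, FastPoints.okPt table 12 fast d = true :=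
  FastPoints.okPts_sound table 12 pts876_ok (points875)

theorem points877 : ∀ d < 219500, FastPoints.okPt table 12 fast d = true :=
  FastPoints.okPts_sound table 12 pts877_ok (points876)

theorem points878 : ∀ d < 219750, FastPoints.okPt table 12 fast d = true :=
  FastPoints.okPts_sound table 12 pts878_ok (points877)

theorem points879 : ∀ d < 220000, FastPoints.okPt table 12 fast d = true :=
  FastPoints.okPts_sound table 12 pts879_ok (points878)

theorem points880 : ∀ d < 220250, FastPoints.okPt table 12 fast d = true :=
  FastPoints.okPts_sound table 12 pts880_ok (points879)

theorem points881 : ∀ d < 220500, FastPoints.okPt table 12 fast d = true :=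
  FastPoints.okPts_sound table 12 pts881_ok (points880)

theorem points882 : ∀ d < 220750, FastPoints.okPt table 12 fast d = true :=
  FastPoints.okPts_sound table 12 pts882_ok (points881)

theorem points883 : ∀ d < 221000, FastPoints.okPt table 12 fast d = true :=
  FastPoints.okPts_sound table 12 pts883_ok (points882)

theorem points884 : ∀ d < 221250, FastPoints.okPt table 12 fast d = true :=
  FastPoints.okPts_sound table 12 pts884_ok (points883)

theorem points885 : ∀ d < 221500, FastPoints.okPt table 12 fast d = true :=
  FastPoints.okPts_sound table 12 pts885_ok (points884)

theorem points886 : ∀ d < 221750, FastPoints.okPt table 12 fast d = true :=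
  FastPoints.okPts_sound table 12 pts886_ok (points885)

theorem points887 : ∀ d < 222000, FastPoints.okPt table 12 fast d = true :=
  FastPoints.okPts_sound table 12 pts887_ok (points886)

theorem points888 : ∀ d < 222250, FastPoints.okPt table 12 fast d = true :=
  FastPoints.okPts_sound table 12 pts888_ok (points887)

theorem points889 : ∀ d < 222500, FastPoints.okPt table 12 fast d = true :=
  FastPoints.okPts_sound table 12 pts889_ok (points888)

theorem points890 : ∀ d < 222750, FastPoints.okPt table 12 fast d = true :=
  FastPoints.okPts_sound table 12 pts890_ok (points889)

theorem points891 : ∀ d < 223000, FastPoints.okPt table 12 fast d = true :=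
  FastPoints.okPts_sound table 12 pts891_ok (points890)

theorem points892 : ∀ d < 223250, FastPoints.okPt table 12 fast d = true :=
  FastPoints.okPts_sound table 12 pts892_ok (points891)

theorem points893 : ∀ d < 223500, FastPoints.okPt table 12 fast d = true :=
  FastPoints.okPts_sound table 12 pts893_ok (points892)

theorem points894 : ∀ d < 223750, FastPoints.okPt table 12 fast d = true :=
  FastPoints.okPts_sound table 12 pts894_ok (points893)

theorem points895 : ∀ d < 224000, FastPoints.okPt table 12 fast d = true :=
  FastPoints.okPts_sound table 12 pts895_ok (points894)

theorem points896 : ∀ d < 224250, FastPoints.okPt table 12 fast d = true :=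
  FastPoints.okPts_sound table 12 pts896_ok (points895)

theorem points897 : ∀ d < 224500, FastPoints.okPt table 12 fast d = true :=
  FastPoints.okPts_sound table 12 pts897_ok (points896)

theorem points898 : ∀ d < 224750, FastPoints.okPt table 12 fast d = true :=
  FastPoints.okPts_sound table 12 pts898_ok (points897)

theorem points899 : ∀ d < 225000, FastPoints.okPt table 12 fast d = true :=
  FastPoints.okPts_sound table 12 pts899_ok (points898)

theorem points900 : ∀ d < 225250, FastPoints.okPt table 12 fast d = true :=
  FastPoints.okPts_sound table 12 pts900_ok (points899)

theorem points901 : ∀ d < 225500, FastPoints.okPt table 12 fast d = true :=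
  FastPoints.okPts_sound table 12 pts901_ok (points900)

theorem points902 : ∀ d < 225750, FastPoints.okPt table 12 fast d = true :=
  FastPoints.okPts_sound table 12 pts902_ok (points901)

theorem points903 : ∀ d < 226000, FastPoints.okPt table 12 fast d = true :=
  FastPoints.okPts_sound table 12 pts903_ok (points902)

theorem points904 : ∀ d < 226250, FastPoints.okPt table 12 fast d = true :=
  FastPoints.okPts_sound table 12 pts904_ok (points903)

theorem points905 : ∀ d < 226500, FastPoints.okPt table 12 fast d = true :=
  FastPoints.okPts_sound table 12 pts905_ok (points904)

theorem points906 : ∀ d < 226750, FastPoints.okPt table 12 fast d = true :=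
  FastPoints.okPts_sound table 12 pts906_ok (points905)

theorem points907 : ∀ d < 227000, FastPoints.okPt table 12 fast d = true :=
  FastPoints.okPts_sound table 12 pts907_ok (points906)

theorem points908 : ∀ d < 227250, FastPoints.okPt table 12 fast d = true :=
  FastPoints.okPts_sound table 12 pts908_ok (points907)

theorem points909 : ∀ d < 227500, FastPoints.okPt table 12 fast d = true :=
  FastPoints.okPts_sound table 12 pts909_ok (points908)

theorem points910 : ∀ d < 227750, FastPoints.okPt table 12 fast d = true :=
  FastPoints.okPts_sound table 12 pts910_ok (points909)

theorem points911 : ∀ d < 228000, FastPoints.okPt table 12 fast d = true :=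
  FastPoints.okPts_sound table 12 pts911_ok (points910)

theorem points912 : ∀ d < 228250, FastPoints.okPt table 12 fast d = true :=
  FastPoints.okPts_sound table 12 pts912_ok (points911)

theorem points913 : ∀ d < 228500, FastPoints.okPt table 12 fast d = true :=
  FastPoints.okPts_sound table 12 pts913_ok (points912)

theorem points914 : ∀ d < 228750, FastPoints.okPt table 12 fast d = true :=
  FastPoints.okPts_sound table 12 pts914_ok (points913)

theorem points915 : ∀ d < 229000, FastPoints.okPt table 12 fast d = true :=
  FastPoints.okPts_sound table 12 pts915_ok (points914)

theorem points916 : ∀ d < 229250, FastPoints.okPt table 12 fast d = true :=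
  FastPoints.okPts_sound table 12 pts916_ok (points915)

theorem points917 : ∀ d < 229500, FastPoints.okPt table 12 fast d = true :=
  FastPoints.okPts_sound table 12 pts917_ok (points916)

theorem points918 : ∀ d < 229750, FastPoints.okPt table 12 fast d = true :=
  FastPoints.okPts_sound table 12 pts918_ok (points917)

theorem points919 : ∀ d < 230000, FastPoints.okPt table 12 fast d = true :=
  FastPoints.okPts_sound table 12 pts919_ok (points918)

theorem points920 : ∀ d < 230250, FastPoints.okPt table 12 fast d = true :=
  FastPoints.okPts_sound table 12 pts920_ok (points919)

theorem points921 : ∀ d < 230500, FastPoints.okPt table 12 fast d = true :=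
  FastPoints.okPts_sound table 12 pts921_ok (points920)

theorem points922 : ∀ d < 230750, FastPoints.okPt table 12 fast d = true :=
  FastPoints.okPts_sound table 12 pts922_ok (points921)

theorem points923 : ∀ d < 231000, FastPoints.okPt table 12 fast d = true :=
  FastPoints.okPts_sound table 12 pts923_ok (points922)

theorem points924 : ∀ d < 231250, FastPoints.okPt table 12 fast d = true :=
  FastPoints.okPts_sound table 12 pts924_ok (points923)

theorem points925 : ∀ d < 231500, FastPoints.okPt table 12 fast d = true :=
  FastPoints.okPts_sound table 12 pts925_ok (points924)

theorem points926 : ∀ d < 231750, FastPoints.okPt table 12 fast d = true :=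
  FastPoints.okPts_sound table 12 pts926_ok (points925)

theorem points927 : ∀ d < 232000, FastPoints.okPt table 12 fast d = true :=
  FastPoints.okPts_sound table 12 pts927_ok (points926)

theorem points928 : ∀ d < 232250, FastPoints.okPt table 12 fast d = true :=
  FastPoints.okPts_sound table 12 pts928_ok (points927)

theorem points929 : ∀ d < 232500, FastPoints.okPt table 12 fast d = true :=
  FastPoints.okPts_sound table 12 pts929_ok (points928)

theorem points930 : ∀ d < 232750, FastPoints.okPt table 12 fast d = true :=
  FastPoints.okPts_sound table 12 pts930_ok (points929)

theorem points931 : ∀ d < 233000, FastPoints.okPt table 12 fast d = true :=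
  FastPoints.okPts_sound table 12 pts931_ok (points930)

theorem points932 : ∀ d < 233250, FastPoints.okPt table 12 fast d = true :=
  FastPoints.okPts_sound table 12 pts932_ok (points931)

theorem points933 : ∀ d < 233500, FastPoints.okPt table 12 fast d = true :=
  FastPoints.okPts_sound table 12 pts933_ok (points932)

theorem points934 : ∀ d < 233750, FastPoints.okPt table 12 fast d = true :=
  FastPoints.okPts_sound table 12 pts934_ok (points933)

theorem points935 : ∀ d < 234000, FastPoints.okPt table 12 fast d = true :=
  FastPoints.okPts_sound table 12 pts935_ok (points934)

theorem points936 : ∀ d < 234250, FastPoints.okPt table 12 fast d = true :=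
  FastPoints.okPts_sound table 12 pts936_ok (points935)

theorem points937 : ∀ d < 234500, FastPoints.okPt table 12 fast d = true :=
  FastPoints.okPts_sound table 12 pts937_ok (points936)

theorem points938 : ∀ d < 234750, FastPoints.okPt table 12 fast d = true :=
  FastPoints.okPts_sound table 12 pts938_ok (points937)

theorem points939 : ∀ d < 235000, FastPoints.okPt table 12 fast d = true :=
  FastPoints.okPts_sound table 12 pts939_ok (points938)

theorem points940 : ∀ d < 235250, FastPoints.okPt table 12 fast d = true :=
  FastPoints.okPts_sound table 12 pts940_ok (points939)

theorem points941 : ∀ d < 235500, FastPoints.okPt table 12 fast d = true :=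
  FastPoints.okPts_sound table 12 pts941_ok (points940)

theorem points942 : ∀ d < 235750, FastPoints.okPt table 12 fast d = true :=
  FastPoints.okPts_sound table 12 pts942_ok (points941)

theorem points943 : ∀ d < 236000, FastPoints.okPt table 12 fast d = true :=
  FastPoints.okPts_sound table 12 pts943_ok (points942)

theorem points944 : ∀ d < 236250, FastPoints.okPt table 12 fast d = true :=
  FastPoints.okPts_sound table 12 pts944_ok (points943)

theorem points945 : ∀ d < 236500, FastPoints.okPt table 12 fast d = true :=
  FastPoints.okPts_sound table 12 pts945_ok (points944)

theorem points946 : ∀ d < 236750, FastPoints.okPt table 12 fast d = true :=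
  FastPoints.okPts_sound table 12 pts946_ok (points945)

theorem points947 : ∀ d < 237000, FastPoints.okPt table 12 fast d = true :=
  FastPoints.okPts_sound table 12 pts947_ok (points946)

theorem points948 : ∀ d < 237250, FastPoints.okPt table 12 fast d = true :=
  FastPoints.okPts_sound table 12 pts948_ok (points947)

theorem points949 : ∀ d < 237500, FastPoints.okPt table 12 fast d = true :=
  FastPoints.okPts_sound table 12 pts949_ok (points948)

theorem points950 : ∀ d < 237750, FastPoints.okPt table 12 fast d = true :=
  FastPoints.okPts_sound table 12 pts950_ok (points949)

theorem points951 : ∀ d < 238000, FastPoints.okPt table 12 fast d = true :=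
  FastPoints.okPts_sound table 12 pts951_ok (points950)

theorem points952 : ∀ d < 238250, FastPoints.okPt table 12 fast d = true :=
  FastPoints.okPts_sound table 12 pts952_ok (points951)

theorem points953 : ∀ d < 238500, FastPoints.okPt table 12 fast d = true :=
  FastPoints.okPts_sound table 12 pts953_ok (points952)

theorem points954 : ∀ d < 238750, FastPoints.okPt table 12 fast d = true :=
  FastPoints.okPts_sound table 12 pts954_ok (points953)

theorem points955 : ∀ d < 239000, FastPoints.okPt table 12 fast d = true :=
  FastPoints.okPts_sound table 12 pts955_ok (points954)

theorem points956 : ∀ d < 239250, FastPoints.okPt table 12 fast d = true :=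
  FastPoints.okPts_sound table 12 pts956_ok (points955)

theorem points957 : ∀ d < 239500, FastPoints.okPt table 12 fast d = true :=
  FastPoints.okPts_sound table 12 pts957_ok (points956)

theorem points958 : ∀ d < 239750, FastPoints.okPt table 12 fast d = true :=
  FastPoints.okPts_sound table 12 pts958_ok (points957)

theorem points959 : ∀ d < 240000, FastPoints.okPt table 12 fast d = true :=
  FastPoints.okPts_sound table 12 pts959_ok (points958)

theorem points960 : ∀ d < 240250, FastPoints.okPt table 12 fast d = true :=
  FastPoints.okPts_sound table 12 pts960_ok (points959)

theorem points961 : ∀ d < 240500, FastPoints.okPt table 12 fast d = true :=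
  FastPoints.okPts_sound table 12 pts961_ok (points960)

theorem points962 : ∀ d < 240750, FastPoints.okPt table 12 fast d = true :=
  FastPoints.okPts_sound table 12 pts962_ok (points961)

theorem points963 : ∀ d < 241000, FastPoints.okPt table 12 fast d = true :=
  FastPoints.okPts_sound table 12 pts963_ok (points962)

theorem points964 : ∀ d < 241250, FastPoints.okPt table 12 fast d = true :=
  FastPoints.okPts_sound table 12 pts964_ok (points963)

theorem points965 : ∀ d < 241500, FastPoints.okPt table 12 fast d = true :=
  FastPoints.okPts_sound table 12 pts965_ok (points964)

theorem points966 : ∀ d < 241750, FastPoints.okPt table 12 fast d = true :=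
  FastPoints.okPts_sound table 12 pts966_ok (points965)

theorem points967 : ∀ d < 242000, FastPoints.okPt table 12 fast d = true :=
  FastPoints.okPts_sound table 12 pts967_ok (points966)

theorem points968 : ∀ d < 242250, FastPoints.okPt table 12 fast d = true :=
  FastPoints.okPts_sound table 12 pts968_ok (points967)

theorem points969 : ∀ d < 242500, FastPoints.okPt table 12 fast d = true :=
  FastPoints.okPts_sound table 12 pts969_ok (points968)

theorem points970 : ∀ d < 242750, FastPoints.okPt table 12 fast d = true :=
  FastPoints.okPts_sound table 12 pts970_ok (points969)

theorem points971 : ∀ d < 243000, FastPoints.okPt table 12 fast d = true :=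
  FastPoints.okPts_sound table 12 pts971_ok (points970)

theorem points972 : ∀ d < 243250, FastPoints.okPt table 12 fast d = true :=
  FastPoints.okPts_sound table 12 pts972_ok (points971)

theorem points973 : ∀ d < 243500, FastPoints.okPt table 12 fast d = true :=
  FastPoints.okPts_sound table 12 pts973_ok (points972)

theorem points974 : ∀ d < 243750, FastPoints.okPt table 12 fast d = true :=
  FastPoints.okPts_sound table 12 pts974_ok (points973)

theorem points975 : ∀ d < 244000, FastPoints.okPt table 12 fast d = true :=
  FastPoints.okPts_sound table 12 pts975_ok (points974)

theorem points976 : ∀ d < 244250, FastPoints.okPt table 12 fast d = true :=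
  FastPoints.okPts_sound table 12 pts976_ok (points975)

theorem points977 : ∀ d < 244500, FastPoints.okPt table 12 fast d = true :=
  FastPoints.okPts_sound table 12 pts977_ok (points976)

theorem points978 : ∀ d < 244750, FastPoints.okPt table 12 fast d = true :=
  FastPoints.okPts_sound table 12 pts978_ok (points977)

theorem points979 : ∀ d < 245000, FastPoints.okPt table 12 fast d = true :=
  FastPoints.okPts_sound table 12 pts979_ok (points978)

theorem points980 : ∀ d < 245250, FastPoints.okPt table 12 fast d = true :=
  FastPoints.okPts_sound table 12 pts980_ok (points979)

theorem points981 : ∀ d < 245500, FastPoints.okPt table 12 fast d = true :=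
  FastPoints.okPts_sound table 12 pts981_ok (points980)

theorem points982 : ∀ d < 245750, FastPoints.okPt table 12 fast d = true :=
  FastPoints.okPts_sound table 12 pts982_ok (points981)

theorem points983 : ∀ d < 246000, FastPoints.okPt table 12 fast d = true :=
  FastPoints.okPts_sound table 12 pts983_ok (points982)

theorem points984 : ∀ d < 246250, FastPoints.okPt table 12 fast d = true :=
  FastPoints.okPts_sound table 12 pts984_ok (points983)

theorem points985 : ∀ d < 246500, FastPoints.okPt table 12 fast d = true :=
  FastPoints.okPts_sound table 12 pts985_ok (points984)

theorem points986 : ∀ d < 246750, FastPoints.okPt table 12 fast d = true :=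
  FastPoints.okPts_sound table 12 pts986_ok (points985)

theorem points987 : ∀ d < 247000, FastPoints.okPt table 12 fast d = true :=
  FastPoints.okPts_sound table 12 pts987_ok (points986)

theorem points988 : ∀ d < 247250, FastPoints.okPt table 12 fast d = true :=
  FastPoints.okPts_sound table 12 pts988_ok (points987)

theorem points989 : ∀ d < 247500, FastPoints.okPt table 12 fast d = true :=
  FastPoints.okPts_sound table 12 pts989_ok (points988)

theorem points990 : ∀ d < 247750, FastPoints.okPt table 12 fast d = true :=
  FastPoints.okPts_sound table 12 pts990_ok (points989)

theorem points991 : ∀ d < 248000, FastPoints.okPt table 12 fast d = true :=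
  FastPoints.okPts_sound table 12 pts991_ok (points990)

theorem points992 : ∀ d < 248250, FastPoints.okPt table 12 fast d = true :=
  FastPoints.okPts_sound table 12 pts992_ok (points991)

theorem points993 : ∀ d < 248500, FastPoints.okPt table 12 fast d = true :=
  FastPoints.okPts_sound table 12 pts993_ok (points992)

theorem points994 : ∀ d < 248750, FastPoints.okPt table 12 fast d = true :=
  FastPoints.okPts_sound table 12 pts994_ok (points993)

theorem points995 : ∀ d < 249000, FastPoints.okPt table 12 fast d = true :=
  FastPoints.okPts_sound table 12 pts995_ok (points994)

theorem points996 : ∀ d < 249250, FastPoints.okPt table 12 fast d = true :=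
  FastPoints.okPts_sound table 12 pts996_ok (points995)

theorem points997 : ∀ d < 249500, FastPoints.okPt table 12 fast d = true :=
  FastPoints.okPts_sound table 12 pts997_ok (points996)

theorem points998 : ∀ d < 249750, FastPoints.okPt table 12 fast d = true :=
  FastPoints.okPts_sound table 12 pts998_ok (points997)

theorem points999 : ∀ d < 250000, FastPoints.okPt table 12 fast d = true :=
  FastPoints.okPts_sound table 12 pts999_ok (points998)

theorem points1000 : ∀ d < 250250, FastPoints.okPt table 12 fast d = true :=
  FastPoints.okPts_sound table 12 pts1000_ok (points999)

theorem points1001 : ∀ d < 250500, FastPoints.okPt table 12 fast d = true :=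
  FastPoints.okPts_sound table 12 pts1001_ok (points1000)

theorem points1002 : ∀ d < 250750, FastPoints.okPt table 12 fast d = true :=
  FastPoints.okPts_sound table 12 pts1002_ok (points1001)

theorem points1003 : ∀ d < 251000, FastPoints.okPt table 12 fast d = true :=
  FastPoints.okPts_sound table 12 pts1003_ok (points1002)

theorem points1004 : ∀ d < 251250, FastPoints.okPt table 12 fast d = true :=
  FastPoints.okPts_sound table 12 pts1004_ok (points1003)

theorem points1005 : ∀ d < 251500, FastPoints.okPt table 12 fast d = true :=
  FastPoints.okPts_sound table 12 pts1005_ok (points1004)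

theorem points1006 : ∀ d < 251750, FastPoints.okPt table 12 fast d = true :=
  FastPoints.okPts_sound table 12 pts1006_ok (points1005)

theorem points1007 : ∀ d < 252000, FastPoints.okPt table 12 fast d = true :=
  FastPoints.okPts_sound table 12 pts1007_ok (points1006)

theorem points1008 : ∀ d < 252250, FastPoints.okPt table 12 fast d = true :=
  FastPoints.okPts_sound table 12 pts1008_ok (points1007)

theorem points1009 : ∀ d < 252500, FastPoints.okPt table 12 fast d = true :=
  FastPoints.okPts_sound table 12 pts1009_ok (points1008)

theorem points1010 : ∀ d < 252750, FastPoints.okPt table 12 fast d = true :=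
  FastPoints.okPts_sound table 12 pts1010_ok (points1009)

theorem points1011 : ∀ d < 253000, FastPoints.okPt table 12 fast d = true :=
  FastPoints.okPts_sound table 12 pts1011_ok (points1010)

theorem points1012 : ∀ d < 253250, FastPoints.okPt table 12 fast d = true :=
  FastPoints.okPts_sound table 12 pts1012_ok (points1011)

theorem points1013 : ∀ d < 253500, FastPoints.okPt table 12 fast d = true :=
  FastPoints.okPts_sound table 12 pts1013_ok (points1012)

theorem points1014 : ∀ d < 253750, FastPoints.okPt table 12 fast d = true :=
  FastPoints.okPts_sound table 12 pts1014_ok (points1013)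

theorem points1015 : ∀ d < 254000, FastPoints.okPt table 12 fast d = true :=
  FastPoints.okPts_sound table 12 pts1015_ok (points1014)

theorem points1016 : ∀ d < 254250, FastPoints.okPt table 12 fast d = true :=
  FastPoints.okPts_sound table 12 pts1016_ok (points1015)

theorem points1017 : ∀ d < 254500, FastPoints.okPt table 12 fast d = true :=
  FastPoints.okPts_sound table 12 pts1017_ok (points1016)

theorem points1018 : ∀ d < 254750, FastPoints.okPt table 12 fast d = true :=
  FastPoints.okPts_sound table 12 pts1018_ok (points1017)

theorem points1019 : ∀ d < 255000, FastPoints.okPt table 12 fast d = true :=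
  FastPoints.okPts_sound table 12 pts1019_ok (points1018)

theorem points1020 : ∀ d < 255250, FastPoints.okPt table 12 fast d = true :=
  FastPoints.okPts_sound table 12 pts1020_ok (points1019)

theorem points1021 : ∀ d < 255500, FastPoints.okPt table 12 fast d = true :=
  FastPoints.okPts_sound table 12 pts1021_ok (points1020)

theorem points1022 : ∀ d < 255750, FastPoints.okPt table 12 fast d = true :=
  FastPoints.okPts_sound table 12 pts1022_ok (points1021)

theorem points1023 : ∀ d < 256000, FastPoints.okPt table 12 fast d = true :=
  FastPoints.okPts_sound table 12 pts1023_ok (points1022)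

theorem points1024 : ∀ d < 256250, FastPoints.okPt table 12 fast d = true :=
  FastPoints.okPts_sound table 12 pts1024_ok (points1023)

theorem points1025 : ∀ d < 256500, FastPoints.okPt table 12 fast d = true :=
  FastPoints.okPts_sound table 12 pts1025_ok (points1024)

theorem points1026 : ∀ d < 256750, FastPoints.okPt table 12 fast d = true :=
  FastPoints.okPts_sound table 12 pts1026_ok (points1025)

theorem points1027 : ∀ d < 257000, FastPoints.okPt table 12 fast d = true :=
  FastPoints.okPts_sound table 12 pts1027_ok (points1026)

theorem points1028 : ∀ d < 257250, FastPoints.okPt table 12 fast d = true :=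
  FastPoints.okPts_sound table 12 pts1028_ok (points1027)

theorem points1029 : ∀ d < 257500, FastPoints.okPt table 12 fast d = true :=
  FastPoints.okPts_sound table 12 pts1029_ok (points1028)

theorem points1030 : ∀ d < 257750, FastPoints.okPt table 12 fast d = true :=
  FastPoints.okPts_sound table 12 pts1030_ok (points1029)

theorem points1031 : ∀ d < 258000, FastPoints.okPt table 12 fast d = true :=
  FastPoints.okPts_sound table 12 pts1031_ok (points1030)

theorem points1032 : ∀ d < 258250, FastPoints.okPt table 12 fast d = true :=
  FastPoints.okPts_sound table 12 pts1032_ok (points1031)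

theorem points1033 : ∀ d < 258500, FastPoints.okPt table 12 fast d = true :=
  FastPoints.okPts_sound table 12 pts1033_ok (points1032)

theorem points1034 : ∀ d < 258750, FastPoints.okPt table 12 fast d = true :=
  FastPoints.okPts_sound table 12 pts1034_ok (points1033)

theorem points1035 : ∀ d < 259000, FastPoints.okPt table 12 fast d = true :=
  FastPoints.okPts_sound table 12 pts1035_ok (points1034)

theorem points1036 : ∀ d < 259250, FastPoints.okPt table 12 fast d = true :=
  FastPoints.okPts_sound table 12 pts1036_ok (points1035)

theorem points1037 : ∀ d < 259500, FastPoints.okPt table 12 fast d = true :=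
  FastPoints.okPts_sound table 12 pts1037_ok (points1036)

theorem points1038 : ∀ d < 259750, FastPoints.okPt table 12 fast d = true :=
  FastPoints.okPts_sound table 12 pts1038_ok (points1037)

theorem points1039 : ∀ d < 260000, FastPoints.okPt table 12 fast d = true :=
  FastPoints.okPts_sound table 12 pts1039_ok (points1038)

theorem points1040 : ∀ d < 260250, FastPoints.okPt table 12 fast d = true :=
  FastPoints.okPts_sound table 12 pts1040_ok (points1039)

theorem points1041 : ∀ d < 260500, FastPoints.okPt table 12 fast d = true :=
  FastPoints.okPts_sound table 12 pts1041_ok (points1040)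

theorem points1042 : ∀ d < 260750, FastPoints.okPt table 12 fast d = true :=
  FastPoints.okPts_sound table 12 pts1042_ok (points1041)

theorem points1043 : ∀ d < 261000, FastPoints.okPt table 12 fast d = true :=
  FastPoints.okPts_sound table 12 pts1043_ok (points1042)

theorem points1044 : ∀ d < 261250, FastPoints.okPt table 12 fast d = true :=
  FastPoints.okPts_sound table 12 pts1044_ok (points1043)

theorem points1045 : ∀ d < 261500, FastPoints.okPt table 12 fast d = true :=
  FastPoints.okPts_sound table 12 pts1045_ok (points1044)

theorem points1046 : ∀ d < 261750, FastPoints.okPt table 12 fast d = true :=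
  FastPoints.okPts_sound table 12 pts1046_ok (points1045)

theorem points1047 : ∀ d < 262000, FastPoints.okPt table 12 fast d = true :=
  FastPoints.okPts_sound table 12 pts1047_ok (points1046)

theorem points1048 : ∀ d < 262250, FastPoints.okPt table 12 fast d = true :=
  FastPoints.okPts_sound table 12 pts1048_ok (points1047)

theorem points1049 : ∀ d < 262500, FastPoints.okPt table 12 fast d = true :=
  FastPoints.okPts_sound table 12 pts1049_ok (points1048)

theorem points1050 : ∀ d < 262750, FastPoints.okPt table 12 fast d = true :=
  FastPoints.okPts_sound table 12 pts1050_ok (points1049)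

theorem points1051 : ∀ d < 263000, FastPoints.okPt table 12 fast d = true :=
  FastPoints.okPts_sound table 12 pts1051_ok (points1050)

theorem points1052 : ∀ d < 263250, FastPoints.okPt table 12 fast d = true :=
  FastPoints.okPts_sound table 12 pts1052_ok (points1051)

theorem points1053 : ∀ d < 263500, FastPoints.okPt table 12 fast d = true :=
  FastPoints.okPts_sound table 12 pts1053_ok (points1052)

theorem points1054 : ∀ d < 263750, FastPoints.okPt table 12 fast d = true :=
  FastPoints.okPts_sound table 12 pts1054_ok (points1053)

theorem points1055 : ∀ d < 264000, FastPoints.okPt table 12 fast d = true :=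
  FastPoints.okPts_sound table 12 pts1055_ok (points1054)

theorem points1056 : ∀ d < 264250, FastPoints.okPt table 12 fast d = true :=
  FastPoints.okPts_sound table 12 pts1056_ok (points1055)

theorem points1057 : ∀ d < 264500, FastPoints.okPt table 12 fast d = true :=
  FastPoints.okPts_sound table 12 pts1057_ok (points1056)

theorem points1058 : ∀ d < 264750, FastPoints.okPt table 12 fast d = true :=
  FastPoints.okPts_sound table 12 pts1058_ok (points1057)

theorem points1059 : ∀ d < 265000, FastPoints.okPt table 12 fast d = true :=
  FastPoints.okPts_sound table 12 pts1059_ok (points1058)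

theorem points1060 : ∀ d < 265250, FastPoints.okPt table 12 fast d = true :=
  FastPoints.okPts_sound table 12 pts1060_ok (points1059)

theorem points1061 : ∀ d < 265500, FastPoints.okPt table 12 fast d = true :=
  FastPoints.okPts_sound table 12 pts1061_ok (points1060)

theorem points1062 : ∀ d < 265750, FastPoints.okPt table 12 fast d = true :=
  FastPoints.okPts_sound table 12 pts1062_ok (points1061)

theorem points1063 : ∀ d < 266000, FastPoints.okPt table 12 fast d = true :=
  FastPoints.okPts_sound table 12 pts1063_ok (points1062)

theorem points1064 : ∀ d < 266250, FastPoints.okPt table 12 fast d = true :=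
  FastPoints.okPts_sound table 12 pts1064_ok (points1063)

theorem points1065 : ∀ d < 266500, FastPoints.okPt table 12 fast d = true :=
  FastPoints.okPts_sound table 12 pts1065_ok (points1064)

theorem points1066 : ∀ d < 266750, FastPoints.okPt table 12 fast d = true :=
  FastPoints.okPts_sound table 12 pts1066_ok (points1065)

theorem points1067 : ∀ d < 267000, FastPoints.okPt table 12 fast d = true :=
  FastPoints.okPts_sound table 12 pts1067_ok (points1066)

theorem points1068 : ∀ d < 267250, FastPoints.okPt table 12 fast d = true :=
  FastPoints.okPts_sound table 12 pts1068_ok (points1067)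

theorem points1069 : ∀ d < 267500, FastPoints.okPt table 12 fast d = true :=
  FastPoints.okPts_sound table 12 pts1069_ok (points1068)

theorem points1070 : ∀ d < 267750, FastPoints.okPt table 12 fast d = true :=
  FastPoints.okPts_sound table 12 pts1070_ok (points1069)

theorem points1071 : ∀ d < 268000, FastPoints.okPt table 12 fast d = true :=
  FastPoints.okPts_sound table 12 pts1071_ok (points1070)

theorem points1072 : ∀ d < 268250, FastPoints.okPt table 12 fast d = true :=
  FastPoints.okPts_sound table 12 pts1072_ok (points1071)

theorem points1073 : ∀ d < 268500, FastPoints.okPt table 12 fast d = true :=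
  FastPoints.okPts_sound table 12 pts1073_ok (points1072)

theorem points1074 : ∀ d < 268750, FastPoints.okPt table 12 fast d = true :=
  FastPoints.okPts_sound table 12 pts1074_ok (points1073)

theorem points1075 : ∀ d < 269000, FastPoints.okPt table 12 fast d = true :=
  FastPoints.okPts_sound table 12 pts1075_ok (points1074)

theorem points1076 : ∀ d < 269250, FastPoints.okPt table 12 fast d = true :=
  FastPoints.okPts_sound table 12 pts1076_ok (points1075)

theorem points1077 : ∀ d < 269500, FastPoints.okPt table 12 fast d = true :=
  FastPoints.okPts_sound table 12 pts1077_ok (points1076)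

theorem points1078 : ∀ d < 269750, FastPoints.okPt table 12 fast d = true :=
  FastPoints.okPts_sound table 12 pts1078_ok (points1077)

theorem points1079 : ∀ d < 270000, FastPoints.okPt table 12 fast d = true :=
  FastPoints.okPts_sound table 12 pts1079_ok (points1078)

theorem points1080 : ∀ d < 270250, FastPoints.okPt table 12 fast d = true :=
  FastPoints.okPts_sound table 12 pts1080_ok (points1079)

theorem points1081 : ∀ d < 270500, FastPoints.okPt table 12 fast d = true :=
  FastPoints.okPts_sound table 12 pts1081_ok (points1080)

theorem points1082 : ∀ d < 270750, FastPoints.okPt table 12 fast d = true :=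
  FastPoints.okPts_sound table 12 pts1082_ok (points1081)

theorem points1083 : ∀ d < 271000, FastPoints.okPt table 12 fast d = true :=
  FastPoints.okPts_sound table 12 pts1083_ok (points1082)

theorem points1084 : ∀ d < 271250, FastPoints.okPt table 12 fast d = true :=
  FastPoints.okPts_sound table 12 pts1084_ok (points1083)

theorem points1085 : ∀ d < 271500, FastPoints.okPt table 12 fast d = true :=
  FastPoints.okPts_sound table 12 pts1085_ok (points1084)

theorem points1086 : ∀ d < 271750, FastPoints.okPt table 12 fast d = true :=
  FastPoints.okPts_sound table 12 pts1086_ok (points1085)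

theorem points1087 : ∀ d < 272000, FastPoints.okPt table 12 fast d = true :=
  FastPoints.okPts_sound table 12 pts1087_ok (points1086)

theorem points1088 : ∀ d < 272250, FastPoints.okPt table 12 fast d = true :=
  FastPoints.okPts_sound table 12 pts1088_ok (points1087)

theorem points1089 : ∀ d < 272500, FastPoints.okPt table 12 fast d = true :=
  FastPoints.okPts_sound table 12 pts1089_ok (points1088)

theorem points1090 : ∀ d < 272750, FastPoints.okPt table 12 fast d = true :=
  FastPoints.okPts_sound table 12 pts1090_ok (points1089)

theorem points1091 : ∀ d < 273000, FastPoints.okPt table 12 fast d = true :=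
  FastPoints.okPts_sound table 12 pts1091_ok (points1090)

theorem points1092 : ∀ d < 273250, FastPoints.okPt table 12 fast d = true :=
  FastPoints.okPts_sound table 12 pts1092_ok (points1091)

theorem points1093 : ∀ d < 273500, FastPoints.okPt table 12 fast d = true :=
  FastPoints.okPts_sound table 12 pts1093_ok (points1092)

theorem points1094 : ∀ d < 273750, FastPoints.okPt table 12 fast d = true :=
  FastPoints.okPts_sound table 12 pts1094_ok (points1093)

theorem points1095 : ∀ d < 274000, FastPoints.okPt table 12 fast d = true :=
  FastPoints.okPts_sound table 12 pts1095_ok (points1094)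

theorem points1096 : ∀ d < 274250, FastPoints.okPt table 12 fast d = true :=
  FastPoints.okPts_sound table 12 pts1096_ok (points1095)

theorem points1097 : ∀ d < 274500, FastPoints.okPt table 12 fast d = true :=
  FastPoints.okPts_sound table 12 pts1097_ok (points1096)

theorem points1098 : ∀ d < 274750, FastPoints.okPt table 12 fast d = true :=
  FastPoints.okPts_sound table 12 pts1098_ok (points1097)

theorem points1099 : ∀ d < 275000, FastPoints.okPt table 12 fast d = true :=
  FastPoints.okPts_sound table 12 pts1099_ok (points1098)

theorem points1100 : ∀ d < 275250, FastPoints.okPt table 12 fast d = true :=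
  FastPoints.okPts_sound table 12 pts1100_ok (points1099)

theorem points1101 : ∀ d < 275500, FastPoints.okPt table 12 fast d = true :=
  FastPoints.okPts_sound table 12 pts1101_ok (points1100)

theorem points1102 : ∀ d < 275750, FastPoints.okPt table 12 fast d = true :=
  FastPoints.okPts_sound table 12 pts1102_ok (points1101)

theorem points1103 : ∀ d < 276000, FastPoints.okPt table 12 fast d = true :=
  FastPoints.okPts_sound table 12 pts1103_ok (points1102)

theorem points1104 : ∀ d < 276250, FastPoints.okPt table 12 fast d = true :=
  FastPoints.okPts_sound table 12 pts1104_ok (points1103)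

theorem points1105 : ∀ d < 276500, FastPoints.okPt table 12 fast d = true :=
  FastPoints.okPts_sound table 12 pts1105_ok (points1104)

theorem points1106 : ∀ d < 276750, FastPoints.okPt table 12 fast d = true :=
  FastPoints.okPts_sound table 12 pts1106_ok (points1105)

theorem points1107 : ∀ d < 277000, FastPoints.okPt table 12 fast d = true :=
  FastPoints.okPts_sound table 12 pts1107_ok (points1106)

theorem points1108 : ∀ d < 277250, FastPoints.okPt table 12 fast d = true :=
  FastPoints.okPts_sound table 12 pts1108_ok (points1107)

theorem points1109 : ∀ d < 277500, FastPoints.okPt table 12 fast d = true :=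
  FastPoints.okPts_sound table 12 pts1109_ok (points1108)

theorem points1110 : ∀ d < 277750, FastPoints.okPt table 12 fast d = true :=
  FastPoints.okPts_sound table 12 pts1110_ok (points1109)

theorem points1111 : ∀ d < 278000, FastPoints.okPt table 12 fast d = true :=
  FastPoints.okPts_sound table 12 pts1111_ok (points1110)

theorem points1112 : ∀ d < 278250, FastPoints.okPt table 12 fast d = true :=
  FastPoints.okPts_sound table 12 pts1112_ok (points1111)

theorem points1113 : ∀ d < 278500, FastPoints.okPt table 12 fast d = true :=
  FastPoints.okPts_sound table 12 pts1113_ok (points1112)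

theorem points1114 : ∀ d < 278750, FastPoints.okPt table 12 fast d = true :=
  FastPoints.okPts_sound table 12 pts1114_ok (points1113)

theorem points1115 : ∀ d < 279000, FastPoints.okPt table 12 fast d = true :=
  FastPoints.okPts_sound table 12 pts1115_ok (points1114)

theorem points1116 : ∀ d < 279250, FastPoints.okPt table 12 fast d = true :=
  FastPoints.okPts_sound table 12 pts1116_ok (points1115)

theorem points1117 : ∀ d < 279500, FastPoints.okPt table 12 fast d = true :=
  FastPoints.okPts_sound table 12 pts1117_ok (points1116)

theorem points1118 : ∀ d < 279750, FastPoints.okPt table 12 fast d = true :=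
  FastPoints.okPts_sound table 12 pts1118_ok (points1117)

theorem points1119 : ∀ d < 280000, FastPoints.okPt table 12 fast d = true :=
  FastPoints.okPts_sound table 12 pts1119_ok (points1118)

theorem points1120 : ∀ d < 280250, FastPoints.okPt table 12 fast d = true :=
  FastPoints.okPts_sound table 12 pts1120_ok (points1119)

theorem points1121 : ∀ d < 280500, FastPoints.okPt table 12 fast d = true :=
  FastPoints.okPts_sound table 12 pts1121_ok (points1120)

theorem points1122 : ∀ d < 280750, FastPoints.okPt table 12 fast d = true :=
  FastPoints.okPts_sound table 12 pts1122_ok (points1121)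

theorem points1123 : ∀ d < 281000, FastPoints.okPt table 12 fast d = true :=
  FastPoints.okPts_sound table 12 pts1123_ok (points1122)

theorem points1124 : ∀ d < 281250, FastPoints.okPt table 12 fast d = true :=
  FastPoints.okPts_sound table 12 pts1124_ok (points1123)

theorem points1125 : ∀ d < 281500, FastPoints.okPt table 12 fast d = true :=
  FastPoints.okPts_sound table 12 pts1125_ok (points1124)

theorem points1126 : ∀ d < 281750, FastPoints.okPt table 12 fast d = true :=
  FastPoints.okPts_sound table 12 pts1126_ok (points1125)

theorem points1127 : ∀ d < 282000, FastPoints.okPt table 12 fast d = true :=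
  FastPoints.okPts_sound table 12 pts1127_ok (points1126)

theorem points1128 : ∀ d < 282250, FastPoints.okPt table 12 fast d = true :=
  FastPoints.okPts_sound table 12 pts1128_ok (points1127)

theorem points1129 : ∀ d < 282500, FastPoints.okPt table 12 fast d = true :=
  FastPoints.okPts_sound table 12 pts1129_ok (points1128)

theorem points1130 : ∀ d < 282750, FastPoints.okPt table 12 fast d = true :=
  FastPoints.okPts_sound table 12 pts1130_ok (points1129)

theorem points1131 : ∀ d < 283000, FastPoints.okPt table 12 fast d = true :=
  FastPoints.okPts_sound table 12 pts1131_ok (points1130)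

theorem points1132 : ∀ d < 283250, FastPoints.okPt table 12 fast d = true :=
  FastPoints.okPts_sound table 12 pts1132_ok (points1131)

theorem points1133 : ∀ d < 283500, FastPoints.okPt table 12 fast d = true :=
  FastPoints.okPts_sound table 12 pts1133_ok (points1132)

theorem points1134 : ∀ d < 283750, FastPoints.okPt table 12 fast d = true :=
  FastPoints.okPts_sound table 12 pts1134_ok (points1133)

theorem points1135 : ∀ d < 284000, FastPoints.okPt table 12 fast d = true :=
  FastPoints.okPts_sound table 12 pts1135_ok (points1134)

theorem points1136 : ∀ d < 284250, FastPoints.okPt table 12 fast d = true :=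
  FastPoints.okPts_sound table 12 pts1136_ok (points1135)

theorem points1137 : ∀ d < 284500, FastPoints.okPt table 12 fast d = true :=
  FastPoints.okPts_sound table 12 pts1137_ok (points1136)

theorem points1138 : ∀ d < 284750, FastPoints.okPt table 12 fast d = true :=
  FastPoints.okPts_sound table 12 pts1138_ok (points1137)

theorem points1139 : ∀ d < 285000, FastPoints.okPt table 12 fast d = true :=
  FastPoints.okPts_sound table 12 pts1139_ok (points1138)

theorem points1140 : ∀ d < 285250, FastPoints.okPt table 12 fast d = true :=
  FastPoints.okPts_sound table 12 pts1140_ok (points1139)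

theorem points1141 : ∀ d < 285500, FastPoints.okPt table 12 fast d = true :=
  FastPoints.okPts_sound table 12 pts1141_ok (points1140)

theorem points1142 : ∀ d < 285750, FastPoints.okPt table 12 fast d = true :=
  FastPoints.okPts_sound table 12 pts1142_ok (points1141)

theorem points1143 : ∀ d < 286000, FastPoints.okPt table 12 fast d = true :=
  FastPoints.okPts_sound table 12 pts1143_ok (points1142)

theorem points1144 : ∀ d < 286250, FastPoints.okPt table 12 fast d = true :=
  FastPoints.okPts_sound table 12 pts1144_ok (points1143)

theorem points1145 : ∀ d < 286500, FastPoints.okPt table 12 fast d = true :=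
  FastPoints.okPts_sound table 12 pts1145_ok (points1144)

theorem points1146 : ∀ d < 286750, FastPoints.okPt table 12 fast d = true :=
  FastPoints.okPts_sound table 12 pts1146_ok (points1145)

theorem points1147 : ∀ d < 287000, FastPoints.okPt table 12 fast d = true :=
  FastPoints.okPts_sound table 12 pts1147_ok (points1146)

theorem points1148 : ∀ d < 287250, FastPoints.okPt table 12 fast d = true :=
  FastPoints.okPts_sound table 12 pts1148_ok (points1147)

theorem points1149 : ∀ d < 287500, FastPoints.okPt table 12 fast d = true :=
  FastPoints.okPts_sound table 12 pts1149_ok (points1148)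

theorem points1150 : ∀ d < 287750, FastPoints.okPt table 12 fast d = true :=
  FastPoints.okPts_sound table 12 pts1150_ok (points1149)

theorem points1151 : ∀ d < 288000, FastPoints.okPt table 12 fast d = true :=
  FastPoints.okPts_sound table 12 pts1151_ok (points1150)

theorem points1152 : ∀ d < 288250, FastPoints.okPt table 12 fast d = true :=
  FastPoints.okPts_sound table 12 pts1152_ok (points1151)

theorem points1153 : ∀ d < 288500, FastPoints.okPt table 12 fast d = true :=
  FastPoints.okPts_sound table 12 pts1153_ok (points1152)

theorem points1154 : ∀ d < 288750, FastPoints.okPt table 12 fast d = true :=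
  FastPoints.okPts_sound table 12 pts1154_ok (points1153)

theorem points1155 : ∀ d < 289000, FastPoints.okPt table 12 fast d = true :=
  FastPoints.okPts_sound table 12 pts1155_ok (points1154)

theorem points1156 : ∀ d < 289250, FastPoints.okPt table 12 fast d = true :=
  FastPoints.okPts_sound table 12 pts1156_ok (points1155)

theorem points1157 : ∀ d < 289500, FastPoints.okPt table 12 fast d = true :=
  FastPoints.okPts_sound table 12 pts1157_ok (points1156)

theorem points1158 : ∀ d < 289750, FastPoints.okPt table 12 fast d = true :=
  FastPoints.okPts_sound table 12 pts1158_ok (points1157)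

theorem points1159 : ∀ d < 290000, FastPoints.okPt table 12 fast d = true :=
  FastPoints.okPts_sound table 12 pts1159_ok (points1158)

theorem points1160 : ∀ d < 290250, FastPoints.okPt table 12 fast d = true :=
  FastPoints.okPts_sound table 12 pts1160_ok (points1159)

theorem points1161 : ∀ d < 290500, FastPoints.okPt table 12 fast d = true :=
  FastPoints.okPts_sound table 12 pts1161_ok (points1160)

theorem points1162 : ∀ d < 290750, FastPoints.okPt table 12 fast d = true :=
  FastPoints.okPts_sound table 12 pts1162_ok (points1161)

theorem points1163 : ∀ d < 291000, FastPoints.okPt table 12 fast d = true :=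
  FastPoints.okPts_sound table 12 pts1163_ok (points1162)

theorem points1164 : ∀ d < 291250, FastPoints.okPt table 12 fast d = true :=
  FastPoints.okPts_sound table 12 pts1164_ok (points1163)

theorem points1165 : ∀ d < 291500, FastPoints.okPt table 12 fast d = true :=
  FastPoints.okPts_sound table 12 pts1165_ok (points1164)

theorem points1166 : ∀ d < 291750, FastPoints.okPt table 12 fast d = true :=
  FastPoints.okPts_sound table 12 pts1166_ok (points1165)

theorem points1167 : ∀ d < 292000, FastPoints.okPt table 12 fast d = true :=
  FastPoints.okPts_sound table 12 pts1167_ok (points1166)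

theorem points1168 : ∀ d < 292250, FastPoints.okPt table 12 fast d = true :=
  FastPoints.okPts_sound table 12 pts1168_ok (points1167)

theorem points1169 : ∀ d < 292500, FastPoints.okPt table 12 fast d = true :=
  FastPoints.okPts_sound table 12 pts1169_ok (points1168)

theorem points1170 : ∀ d < 292750, FastPoints.okPt table 12 fast d = true :=
  FastPoints.okPts_sound table 12 pts1170_ok (points1169)

theorem points1171 : ∀ d < 293000, FastPoints.okPt table 12 fast d = true :=
  FastPoints.okPts_sound table 12 pts1171_ok (points1170)

theorem points1172 : ∀ d < 293250, FastPoints.okPt table 12 fast d = true :=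
  FastPoints.okPts_sound table 12 pts1172_ok (points1171)

theorem points1173 : ∀ d < 293500, FastPoints.okPt table 12 fast d = true :=
  FastPoints.okPts_sound table 12 pts1173_ok (points1172)

theorem points1174 : ∀ d < 293750, FastPoints.okPt table 12 fast d = true :=
  FastPoints.okPts_sound table 12 pts1174_ok (points1173)

theorem points1175 : ∀ d < 294000, FastPoints.okPt table 12 fast d = true :=
  FastPoints.okPts_sound table 12 pts1175_ok (points1174)

theorem points1176 : ∀ d < 294250, FastPoints.okPt table 12 fast d = true :=
  FastPoints.okPts_sound table 12 pts1176_ok (points1175)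

theorem points1177 : ∀ d < 294500, FastPoints.okPt table 12 fast d = true :=
  FastPoints.okPts_sound table 12 pts1177_ok (points1176)

theorem points1178 : ∀ d < 294750, FastPoints.okPt table 12 fast d = true :=
  FastPoints.okPts_sound table 12 pts1178_ok (points1177)

theorem points1179 : ∀ d < 295000, FastPoints.okPt table 12 fast d = true :=
  FastPoints.okPts_sound table 12 pts1179_ok (points1178)

theorem points1180 : ∀ d < 295250, FastPoints.okPt table 12 fast d = true :=
  FastPoints.okPts_sound table 12 pts1180_ok (points1179)

theorem points1181 : ∀ d < 295500, FastPoints.okPt table 12 fast d = true :=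
  FastPoints.okPts_sound table 12 pts1181_ok (points1180)

theorem points1182 : ∀ d < 295750, FastPoints.okPt table 12 fast d = true :=
  FastPoints.okPts_sound table 12 pts1182_ok (points1181)

theorem points1183 : ∀ d < 296000, FastPoints.okPt table 12 fast d = true :=
  FastPoints.okPts_sound table 12 pts1183_ok (points1182)

theorem points1184 : ∀ d < 296250, FastPoints.okPt table 12 fast d = true :=
  FastPoints.okPts_sound table 12 pts1184_ok (points1183)

theorem points1185 : ∀ d < 296500, FastPoints.okPt table 12 fast d = true :=
  FastPoints.okPts_sound table 12 pts1185_ok (points1184)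

theorem points1186 : ∀ d < 296750, FastPoints.okPt table 12 fast d = true :=
  FastPoints.okPts_sound table 12 pts1186_ok (points1185)

theorem points1187 : ∀ d < 297000, FastPoints.okPt table 12 fast d = true :=
  FastPoints.okPts_sound table 12 pts1187_ok (points1186)

theorem points1188 : ∀ d < 297250, FastPoints.okPt table 12 fast d = true :=
  FastPoints.okPts_sound table 12 pts1188_ok (points1187)

theorem points1189 : ∀ d < 297500, FastPoints.okPt table 12 fast d = true :=
  FastPoints.okPts_sound table 12 pts1189_ok (points1188)

theorem points1190 : ∀ d < 297750, FastPoints.okPt table 12 fast d = true :=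
  FastPoints.okPts_sound table 12 pts1190_ok (points1189)

theorem points1191 : ∀ d < 298000, FastPoints.okPt table 12 fast d = true :=
  FastPoints.okPts_sound table 12 pts1191_ok (points1190)

theorem points1192 : ∀ d < 298250, FastPoints.okPt table 12 fast d = true :=
  FastPoints.okPts_sound table 12 pts1192_ok (points1191)

theorem points1193 : ∀ d < 298500, FastPoints.okPt table 12 fast d = true :=
  FastPoints.okPts_sound table 12 pts1193_ok (points1192)

theorem points1194 : ∀ d < 298750, FastPoints.okPt table 12 fast d = true :=
  FastPoints.okPts_sound table 12 pts1194_ok (points1193)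

theorem points1195 : ∀ d < 299000, FastPoints.okPt table 12 fast d = true :=
  FastPoints.okPts_sound table 12 pts1195_ok (points1194)

theorem points1196 : ∀ d < 299250, FastPoints.okPt table 12 fast d = true :=
  FastPoints.okPts_sound table 12 pts1196_ok (points1195)

theorem points1197 : ∀ d < 299500, FastPoints.okPt table 12 fast d = true :=
  FastPoints.okPts_sound table 12 pts1197_ok (points1196)

theorem points1198 : ∀ d < 299750, FastPoints.okPt table 12 fast d = true :=
  FastPoints.okPts_sound table 12 pts1198_ok (points1197)

theorem points1199 : ∀ d < 300000, FastPoints.okPt table 12 fast d = true :=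
  FastPoints.okPts_sound table 12 pts1199_ok (points1198)

theorem points1200 : ∀ d < 300250, FastPoints.okPt table 12 fast d = true :=
  FastPoints.okPts_sound table 12 pts1200_ok (points1199)

theorem points1201 : ∀ d < 300500, FastPoints.okPt table 12 fast d = true :=
  FastPoints.okPts_sound table 12 pts1201_ok (points1200)

theorem points1202 : ∀ d < 300750, FastPoints.okPt table 12 fast d = true :=
  FastPoints.okPts_sound table 12 pts1202_ok (points1201)

theorem points1203 : ∀ d < 301000, FastPoints.okPt table 12 fast d = true :=
  FastPoints.okPts_sound table 12 pts1203_ok (points1202)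

theorem points1204 : ∀ d < 301250, FastPoints.okPt table 12 fast d = true :=
  FastPoints.okPts_sound table 12 pts1204_ok (points1203)

theorem points1205 : ∀ d < 301500, FastPoints.okPt table 12 fast d = true :=
  FastPoints.okPts_sound table 12 pts1205_ok (points1204)

theorem points1206 : ∀ d < 301750, FastPoints.okPt table 12 fast d = true :=
  FastPoints.okPts_sound table 12 pts1206_ok (points1205)

theorem points1207 : ∀ d < 302000, FastPoints.okPt table 12 fast d = true :=
  FastPoints.okPts_sound table 12 pts1207_ok (points1206)

theorem points1208 : ∀ d < 302250, FastPoints.okPt table 12 fast d = true :=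
  FastPoints.okPts_sound table 12 pts1208_ok (points1207)

theorem points1209 : ∀ d < 302500, FastPoints.okPt table 12 fast d = true :=
  FastPoints.okPts_sound table 12 pts1209_ok (points1208)

theorem points1210 : ∀ d < 302750, FastPoints.okPt table 12 fast d = true :=
  FastPoints.okPts_sound table 12 pts1210_ok (points1209)

theorem points1211 : ∀ d < 303000, FastPoints.okPt table 12 fast d = true :=
  FastPoints.okPts_sound table 12 pts1211_ok (points1210)

theorem points1212 : ∀ d < 303250, FastPoints.okPt table 12 fast d = true :=
  FastPoints.okPts_sound table 12 pts1212_ok (points1211)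

theorem points1213 : ∀ d < 303500, FastPoints.okPt table 12 fast d = true :=
  FastPoints.okPts_sound table 12 pts1213_ok (points1212)

theorem points1214 : ∀ d < 303750, FastPoints.okPt table 12 fast d = true :=
  FastPoints.okPts_sound table 12 pts1214_ok (points1213)

theorem points1215 : ∀ d < 304000, FastPoints.okPt table 12 fast d = true :=
  FastPoints.okPts_sound table 12 pts1215_ok (points1214)

theorem points1216 : ∀ d < 304250, FastPoints.okPt table 12 fast d = true :=
  FastPoints.okPts_sound table 12 pts1216_ok (points1215)

theorem points1217 : ∀ d < 304500, FastPoints.okPt table 12 fast d = true :=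
  FastPoints.okPts_sound table 12 pts1217_ok (points1216)

theorem points1218 : ∀ d < 304750, FastPoints.okPt table 12 fast d = true :=
  FastPoints.okPts_sound table 12 pts1218_ok (points1217)

theorem points1219 : ∀ d < 305000, FastPoints.okPt table 12 fast d = true :=
  FastPoints.okPts_sound table 12 pts1219_ok (points1218)

theorem points1220 : ∀ d < 305250, FastPoints.okPt table 12 fast d = true :=
  FastPoints.okPts_sound table 12 pts1220_ok (points1219)

theorem points1221 : ∀ d < 305500, FastPoints.okPt table 12 fast d = true :=
  FastPoints.okPts_sound table 12 pts1221_ok (points1220)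

theorem points1222 : ∀ d < 305750, FastPoints.okPt table 12 fast d = true :=
  FastPoints.okPts_sound table 12 pts1222_ok (points1221)

theorem points1223 : ∀ d < 306000, FastPoints.okPt table 12 fast d = true :=
  FastPoints.okPts_sound table 12 pts1223_ok (points1222)

theorem points1224 : ∀ d < 306250, FastPoints.okPt table 12 fast d = true :=
  FastPoints.okPts_sound table 12 pts1224_ok (points1223)

theorem points1225 : ∀ d < 306500, FastPoints.okPt table 12 fast d = true :=
  FastPoints.okPts_sound table 12 pts1225_ok (points1224)

theorem points1226 : ∀ d < 306750, FastPoints.okPt table 12 fast d = true :=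
  FastPoints.okPts_sound table 12 pts1226_ok (points1225)

theorem points1227 : ∀ d < 306936, FastPoints.okPt table 12 fast d = true :=
  FastPoints.okPts_sound table 12 pts1227_ok (points1226)

theorem point_ok : ∀ d < table.n, FastPoints.okPt table 12 fast d = true := points1227

end CfsgLib.CosetEnum.Fi24Table
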