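/-
The certified coset enumeration of Fi24 on 306936 points.
-/
import Cfsg.Agent.Lib.CosetEnum.Fi24Table.EdgesAll
import Cfsg.Agent.Lib.CosetEnum.Fi24Table.PointsAll
import Cfsg.Agent.Lib.CosetEnum.Fi24Table.Ids
import Cfsg.Agent.Lib.CosetEnum.Fi24Table.Seed.Main

set_option autoImplicit false
set_option maxRecDepth 1000000

namespace CfsgLib.CosetEnum.Fi24Table

open CfsgLib.CosetEnum

theorem run_rotate {Ω : Type*} {s : ℕ → Ω → Ω} (hinv : ∀ x v, s x (s x v) = v) {r : List ℕ}
    (h : ∀ v, run s r v = v) (m : ℕ) : ∀ v, run s (r.rotate m) v = v := by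
  intro v
  rw [List.rotate_eq_drop_append_take_mod, run_append]
  set t := r.take (m % r.length)
  set d := r.drop (m % r.length)
  refine run_injective hinv d ?_
  have := h (run s d v)
  rwa [← List.take_append_drop (m % r.length) r, run_append] at this

theorem hlt : ∀ d < table.n, ∀ x < 12, table.act 12 d x < table.n := by
  intro d hd x hx
  obtain ⟨j, hj⟩ := edge_ok d hd x hx
  simp only [Edge.okEdge, force_eq, Bool.and_eq_true, blt_iff] at hj
  exact hj.1.1.1

theorem hinvol : ∀ d < table.n, ∀ x < 12, table.act 12 (table.act 12 d x) x = d := by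
  intro d hd x hx
  obtain ⟨j, hj⟩ := edge_ok d hd x hx
  simp only [Edge.okEdge, force_eq, Bool.and_eq_true] at hj
  exact Nat.eq_of_beq_eq_true hj.1.1.2

/-- The relators as they are checked. -/
noncomputable def relList : List (List ℕ) :=
  (List.range 12).map (fun x => [x, x]) ++ fast.cps.map (fun p => [p / 16, p % 16, p / 16, p % 16]) ++
    fast.bps.map (fun p => [p / 16, p % 16, p / 16, p % 16, p / 16, p % 16]) ++ extraWFi24

theorem rels_mem : ∀ r ∈ presFi24.rels, r ∈ relList := by decide +kernel

theorem pairs_lt : ∀ p ∈ fast.cps ++ fast.bps, p / 16 < 12 ∧ p % 16 < 12 := by decide +kernel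

theorem w₁_lt : ∀ x ∈ fast.w₁, x < 12 ∧ x < 16 ∧ fast.l₁ * 16 + x ∈ fast.cps := by decide +kernel

theorem w₂_lt : ∀ x ∈ fast.w₂, x < 12 := by decide +kernel

theorem rels_fix {r : List ℕ} (hr : r ∈ presFi24.rels) :
    ∀ d < table.n, run (fun x e => table.act 12 e x) r d = d := by
  intro d hd
  have h := rels_mem r hr
  simp only [relList, List.mem_append, List.mem_map, List.mem_range] at h
  rcases h with ((⟨x, hx, rfl⟩ | ⟨p, hp, rfl⟩) | ⟨p, hp, rfl⟩) | h
  · exact hinvol d hd x hx
  · obtain ⟨hx, hy⟩ := pairs_lt p (List.mem_append_left _ hp)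
    exact FastPoints.cox_two hlt hinvol point_ok
      (by rw [Nat.div_add_mod' p 16]; exact hp) hx hy (Nat.mod_lt _ (by omega)) hd
  · obtain ⟨hx, hy⟩ := pairs_lt p (List.mem_append_right _ hp)
    exact FastPoints.cox_three hlt hinvol point_ok
      (by rw [Nat.div_add_mod' p 16]; exact hp) hx hy (Nat.mod_lt _ (by omega)) hd
  · rw [extraWFi24, List.mem_cons, List.mem_singleton] at h
    rcases h with rfl | rfl
    · exact FastPoints.rel_one hlt hinvol point_ok w₁_lt (show fast.l₁ < 12 by decide +kernel) hd
    · exact FastPoints.rel_two hlt hinvol point_ok w₂_lt d hd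

theorem up_ok : ∀ d < table.n, d ≠ 0 → ∃ a x, a < d ∧ x < 12 ∧ table.act 12 a x = d := by
  intro d hd h0
  have h := point_ok d hd
  simp only [FastPoints.okPt, force_eq, Bool.and_eq_true] at h
  have h3 := h.2
  have hb : Nat.beq d 0 = false := by
    cases hb : Nat.beq d 0
    · rfl
    · exact absurd (Nat.eq_of_beq_eq_true hb) h0
  rw [hb] at h3
  simp only [Bool.and_eq_true, blt_iff] at h3
  exact ⟨_, _, h3.1.1, h3.1.2, Nat.eq_of_beq_eq_true h3.2⟩

theorem words_ok : okWords data presFi24.rels hw rots = true := by decide +kernel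

/-- A relator of the small enumeration is trivial in the large one. -/
noncomputable def okSeedRel (r : List ℕ) : Bool :=
  (List.range 12).any (fun x => r == [x, x]) ||
    (List.range (data.nw - data.nh)).any fun i => r == wordOf (data.words.get (data.nh + i))

theorem seedRels_ok : Seed.rels.all okSeedRel = true := by decide +kernel

theorem seedHw_ok : ((List.range Seed.data.nh).all fun w =>
    Nat.blt w data.nh && Nat.beq (Seed.data.words.get w) (data.words.get w)) = true := by decide +kernel

/-- The definition of a coset is followed by the nodes `L` from `a`. -/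
noncomputable def okChain : List ℕ → ℕ → Bool :=
  fun L => List.rec (motive := fun _ => ℕ → Bool) (fun _ => true)
    (fun b _ ih a => Nat.blt a b && Nat.beq (Nat.div (data.parent b) (nat_lit 16)) a && ih b) L

theorem okChain_sound {Ω : Type*} {base : Ω} {s : ℕ → Ω → Ω} : ∀ (L : List ℕ) (a : ℕ), okChain L a = true →
    run s (L.map fun b => data.parent b % 16) (data.val base s a) = data.val base s (L.getLastD a) := by
  intro L
  induction L with
  | nil => intro a _; rfl
  | cons b L ih =>
    intro a h
    simp only [okChain, Bool.and_eq_true, blt_iff] at h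
    have e : data.parent b / 16 = a := Nat.eq_of_beq_eq_true h.1.2
    have hv : data.val base s b = s (data.parent b % 16) (data.val base s a) := by
      conv_lhs => rw [Data.val]
      rw [if_neg (by omega : ¬ b = 0), dif_pos (by omega : data.parent b / 16 < b), e]
    show run s (L.map fun b => data.parent b % 16) (s (data.parent b % 16) (data.val base s a)) = _
    rw [← hv, ih b h.2, List.getLastD_cons]

/-- The path to the first end of the seed edge. -/
noncomputable def chainA : List ℕ := [1, 2, 4, 6, 9, 12, 17, 24, 36, 54, 84, 130, 204, 312]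

/-- The path to the second end of the seed edge. -/
noncomputable def chainB : List ℕ := [1, 2, 4, 6, 9, 12, 17, 24, 36, 54, 84, 129, 201, 305, 453]

theorem seed_good {Ω : Type} {base : Ω} {s : ℕ → Ω → Ω} (hinv : ∀ x v, s x (s x v) = v)
    (hk : ∀ v, s data.k v = v) (hwh : ∀ w < data.nh, run s (wordOf (data.words.get w)) base = base)
    (hwr : ∀ w, data.nh ≤ w → w < data.nw → ∀ v, run s (wordOf (data.words.get w)) v = v) :
    Edge.Good data table base s (seed / 16) (seed % 16) := by
  have hh : ∀ w < Seed.data.nh, run s (wordOf (Seed.data.words.get w)) base = base := by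
    intro w hw
    have h := List.all_eq_true.mp seedHw_ok w (List.mem_range.mpr hw)
    rw [Bool.and_eq_true, blt_iff] at h
    rw [Nat.eq_of_beq_eq_true h.2]
    exact hwh w h.1
  have hrel : ∀ r ∈ Seed.rels, ∀ v, run s r v = v := by
    intro r hr v
    have h := List.all_eq_true.mp seedRels_ok r hr
    simp only [okSeedRel, Bool.or_eq_true, List.any_eq_true, List.mem_range, beq_iff_eq] at h
    rcases h with ⟨x, -, rfl⟩ | ⟨i, hi, rfl⟩
    · exact hinv x v
    · exact hwr _ (Nat.le_add_right _ _) (by omega) v
  have hr : ∀ w, Seed.data.nh ≤ w → w < Seed.data.nw → ∀ v, run s (wordOf (Seed.data.words.get w)) v = v := by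
    intro w hw hw' v
    have h := List.all_eq_true.mp Seed.words_ok w (List.mem_range.mpr hw')
    rw [if_neg (not_lt.mpr hw), beq_iff_eq] at h
    rw [h]
    refine run_rotate hinv (fun v => ?_) _ v
    set r := (Seed.rots.getD w (0, 0)).1
    by_cases hlen : r < Seed.rels.length
    · rw [List.getD_eq_getElem _ _ hlen]; exact hrel _ (List.getElem_mem hlen) v
    · rw [List.getD_eq_default _ _ (not_lt.mp hlen)]; rfl
  have h := Seed.fix0 base s hinv hk hh hr
  have ea := okChain_sound (base := base) (s := s) chainA 0 (by decide +kernel)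
  have eb := okChain_sound (base := base) (s := s) chainB 0 (by decide +kernel)
  rw [Data.val, if_pos rfl] at ea eb
  rw [show wordOf Seed.tw0 = ((chainA.map fun b => data.parent b % 16) ++ [seed % 16]) ++
      (chainB.map fun b => data.parent b % 16).reverse by decide +kernel, run_append, run_append, ea] at h
  refine run_injective hinv (chainB.map fun b => data.parent b % 16).reverse ?_
  rw [show table.act data.k (seed / 16) (seed % 16) = chainB.getLastD 0 by decide +kernel, ← eb, run_cancel hinv,
    show seed / 16 = chainA.getLastD 0 by decide +kernel]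
  exact h

theorem facts_ok {Ω : Type} (base : Ω) (s : ℕ → Ω → Ω) (hinv : ∀ x v, s x (s x v) = v)
    (hk : ∀ v, s data.k v = v) (hwh : ∀ w < data.nh, run s (wordOf (data.words.get w)) base = base)
    (hwr : ∀ w, data.nh ≤ w → w < data.nw → ∀ v, run s (wordOf (data.words.get w)) v = v) :
    ∀ d < table.n, RowOK data table base s d :=
  Edge.rows_of_edges hinv hwh hwr repr_id (show 12 < 16 by decide) edge_ok
    fun _ => seed_good hinv hk hwh hwr

/-- The certified enumeration. -/
noncomputable def cert : Cert presFi24 where
  D := data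
  T := table
  hw := hw
  rots := rots
  nf := 0
  hk := rfl
  hk16 := show 12 < 16 by decide
  nh_le := show 12 ≤ 208 by decide
  hn := show 0 < 306936 by decide
  hrep := repr_id 0 (show 0 < 306936 by decide)
  words_ok := words_ok
  facts_ok := facts_ok
  points_ok := fun d hd => ⟨fun x hx => ⟨hlt d hd x hx, hinvol d hd x hx⟩, fun _ hw => rels_fix hw d hd, up_ok d hd⟩
  base_ok := by decide +kernel

theorem hltRels : ∀ w ∈ presFi24.rels, ∀ x ∈ w, x < presFi24.k := by decide +kernel

theorem hhw : ∀ w ∈ hw, ∀ x ∈ w, x < 12 := by decide +kernel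

end CfsgLib.CosetEnum.Fi24Table
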