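/-
The order of the presented group Fi24 and the structure of the subgroup of index 306936.
-/
import Cfsg.Agent.Lib.CosetEnum.Fi24Table.Main
import Cfsg.Agent.Lib.CosetEnum.PointClass
import Cfsg.Agent.Lib.CosetEnum.Fi23Mult.Main
import Mathlib.GroupTheory.Schreier
import Mathlib.GroupTheory.QuotientGroup.Basic

set_option autoImplicit false
set_option maxRecDepth 1000000

open scoped commutatorElement

namespace CfsgLib.CosetEnum.Fi24Table

open CfsgLib.CosetEnum

local notation "P" => presFi24.Grp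
local notation "σ" => presFi24.σ

/-- The product of a word. -/
noncomputable abbrev W (w : List ℕ) : P := (w.map presFi24.σ).prod

theorem hhw' : ∀ w ∈ cert.hw, ∀ x ∈ w, x < presFi24.k := hhw

theorem base_lt : 0 < table.n := cert.hn

/-- Membership in the subgroup is read from the base point. -/
theorem mem_sub_iff {g : P} : g ∈ cert.sub ↔ cert.hom hltRels g ⟨0, cert.hn⟩ = ⟨0, cert.hn⟩ := by
  refine ⟨fun h => cert.sub_fix hltRels hidFi24 hhw' h, fun hg => ?_⟩
  obtain ⟨e, -⟩ := cert.exists_equiv hltRels hidFi24 hhw'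
  let act : MulAction P (Fin cert.T.n) := MulAction.compHom (Fin cert.T.n) (cert.hom hltRels)
  set S := MulAction.stabilizer P (⟨0, cert.hn⟩ : Fin cert.T.n)
  have hle : cert.sub ≤ S := fun h hh => cert.sub_fix hltRels hidFi24 hhw' hh
  have : MulAction.IsPretransitive P (Fin cert.T.n) := by
    refine ⟨fun a b => ?_⟩
    obtain ⟨x, hx⟩ := cert.exists_hom_zero hltRels hidFi24 a
    obtain ⟨y, hy⟩ := cert.exists_hom_zero hltRels hidFi24 b
    refine ⟨y * x⁻¹, ?_⟩
    show cert.hom hltRels (y * x⁻¹) a = b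
    rw [← hx, ← Equiv.Perm.mul_apply, ← map_mul, inv_mul_cancel_right, hy]
  have h1 : S.index = cert.T.n := by
    rw [MulAction.index_stabilizer_of_transitive, Nat.card_eq_fintype_card, Fintype.card_fin]
  have h2 : cert.sub.index = cert.T.n := index_eq_of_equiv e
  have h3 := Subgroup.relIndex_mul_index hle
  rw [h1, h2] at h3
  have h4 : cert.sub.relIndex S = 1 := by
    have := Nat.eq_of_mul_eq_mul_right cert.hn (h3.trans (one_mul _).symm)
    exact this
  exact (Subgroup.relIndex_eq_one.mp h4) hg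

theorem word_mem_sub (w : List ℕ) (hw : ∀ x ∈ w, x < presFi24.k)
    (h : runT table 12 w.reverse 0 = 0) : W w ∈ cert.sub :=
  mem_sub_iff.mpr (Fin.ext ((cert.hom_word_run' hltRels hidFi24 w hw ⟨0, cert.hn⟩).trans h))

theorem rel_W {w : List ℕ} (hw : w ∈ presFi24.rels) : W w = 1 := presFi24.rels_one hw

theorem inv_σ (x : ℕ) : (σ x)⁻¹ = σ x := inv_eq_of_mul_eq_one_right (presFi24.σ_sq x)

theorem braid {x y : ℕ} (h : [x, y, x, y, x, y] ∈ presFi24.rels) : σ x * σ y * σ x = σ y * σ x * σ y := by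
  have h1 := rel_W h
  simp only [W, List.map_cons, List.map_nil, List.prod_cons, List.prod_nil, mul_one] at h1
  have h2 : σ x * σ y * σ x * (σ y * σ x * σ y) = 1 := by rw [← h1]; group
  calc σ x * σ y * σ x = (σ y * σ x * σ y)⁻¹ := eq_inv_of_mul_eq_one_left h2
    _ = σ y * σ x * σ y := by rw [mul_inv_rev, mul_inv_rev, inv_σ, inv_σ, mul_assoc]

theorem comm {x y : ℕ} (h : [x, y, x, y] ∈ presFi24.rels) : Commute (σ x) (σ y) := by
  have h1 := rel_W h
  simp only [W, List.map_cons, List.map_nil, List.prod_cons, List.prod_nil, mul_one] at h1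
  have h2 : σ x * σ y * (σ x * σ y) = 1 := by rw [← h1]; group
  calc σ x * σ y = (σ x * σ y)⁻¹ := eq_inv_of_mul_eq_one_left h2
    _ = σ y * σ x := by rw [mul_inv_rev, inv_σ, inv_σ]

theorem prod_commute {u : P} : ∀ w : List ℕ, (∀ x ∈ w, Commute u (σ x)) → Commute u (W w) := by
  intro w hw
  exact Commute.list_prod_right _ _ fun v hv => by
    obtain ⟨x, hx, rfl⟩ := List.mem_map.mp hv
    exact hw x hx

theorem conj_step {x y : ℕ} (h : σ x * σ y * σ x = σ y * σ x * σ y) :
    σ x * σ y * σ x * (σ x * σ y)⁻¹ = σ y := by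
  rw [h, mul_inv_rev, inv_σ, inv_σ]
  calc σ y * σ x * σ y * (σ y * σ x) = σ y * σ x * (σ y * σ y) * σ x := by group
    _ = σ y := by rw [presFi24.σ_sq, mul_one, mul_assoc, presFi24.σ_sq, mul_one]

/-- The word conjugating the first letter of a path to the last one. -/
def gw : List ℕ → List ℕ
  | x :: y :: p => gw (y :: p) ++ [x, y]
  | _ => []

theorem gw_conj : ∀ (p : List ℕ) (x : ℕ),
    (∀ e ∈ (x :: p).zip p, [e.1, e.2, e.1, e.2, e.1, e.2] ∈ presFi24.rels) →
      W (gw (x :: p)) * σ x * (W (gw (x :: p)))⁻¹ = σ (p.getLastD x) := by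
  intro p
  induction p with
  | nil => intro x _; simp [gw, W]
  | cons y p ih =>
    intro x h
    have h1 := ih y fun e he => h e (by simp [List.zip_cons_cons, he])
    have h2 := conj_step (braid (h (x, y) (by simp [List.zip_cons_cons])))
    rw [show W (gw (x :: y :: p)) = W (gw (y :: p)) * (σ x * σ y) by
      simp [W, gw, List.map_append, List.prod_append], List.getLastD_cons, ← h1]
    calc W (gw (y :: p)) * (σ x * σ y) * σ x * (W (gw (y :: p)) * (σ x * σ y))⁻¹
        = W (gw (y :: p)) * (σ x * σ y * σ x * (σ x * σ y)⁻¹) * (W (gw (y :: p)))⁻¹ := by group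
      _ = _ := by rw [h2]

/-- The paths from the first generator. -/
noncomputable def paths : List (List ℕ) :=
  [[1, 2], [1, 2, 3], [1, 2, 3, 4], [1, 2, 3, 4, 5], [1, 2, 3, 4, 5, 6], [1, 2, 3, 4, 5, 6, 7],
    [1, 2, 3, 4, 5, 6, 7, 8], [1, 2, 3, 4, 5, 6, 7, 8, 9], [1, 2, 3, 4, 5, 10], [1, 2, 3, 4, 5, 10, 11]]

theorem paths_ok : ∀ p ∈ paths, ∀ e ∈ (0 :: p).zip p, [e.1, e.2, e.1, e.2, e.1, e.2] ∈ presFi24.rels := by
  decide +kernel

/-- The spider word. -/
noncomputable def spiderW : List ℕ := (List.replicate 10 [5, 4, 3, 5, 6, 7, 5, 10, 11]).flatten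

theorem path_fix : ∀ p ∈ paths, (∀ x ∈ (gw (0 :: p)).reverse ++ spiderW ++ gw (0 :: p), x < 12) ∧
    runT table 12 ((gw (0 :: p)).reverse ++ spiderW ++ gw (0 :: p)).reverse 0 = 0 := by decide +kernel

theorem comm_l : ∀ x ∈ [0, 2, 3, 4, 5, 6, 7, 8, 9, 10, 11], x = 0 ∨ [0, x, 0, x] ∈ presFi24.rels := by decide +kernel

theorem zW_one : W ((List.replicate 17 zWFi24).flatten) = 1 :=
  rel_W (List.mem_append_right _ (by simp [extraWFi24]))

theorem hw_cases : ∀ w ∈ cert.hw, (∃ x ∈ [0, 2, 3, 4, 5, 6, 7, 8, 9, 10, 11], w = [x]) ∨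
    w = (List.replicate 17 zWFi24).flatten := by
  show ∀ w ∈ hw, _
  decide +kernel

/-- The first generator is central in the subgroup. -/
theorem l_central {g : P} (hg : g ∈ cert.sub) : Commute g (σ 0) := by
  induction hg using Subgroup.closure_induction with
  | mem g hg =>
    obtain ⟨w, hw, rfl⟩ := hg
    rcases hw_cases w hw with ⟨x, hx, rfl⟩ | rfl
    · rw [List.map_singleton, List.prod_singleton]
      rcases comm_l x hx with rfl | h
      · exact Commute.refl _
      · exact (comm h).symm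
    · rw [show ((List.replicate 17 zWFi24).flatten.map presFi24.σ).prod = 1 from zW_one]
      exact Commute.one_left _
  | one => exact Commute.one_left _
  | mul a b _ _ ha hb => exact ha.mul_left hb
  | inv a _ ha => exact ha.inv_left

theorem σ_mem {x : ℕ} (hx : x ∈ [0, 2, 3, 4, 5, 6, 7, 8, 9, 10, 11]) : σ x ∈ cert.sub :=
  Subgroup.subset_closure ⟨[x], (show ∀ x ∈ [0, 2, 3, 4, 5, 6, 7, 8, 9, 10, 11], [x] ∈ hw by decide +kernel) x hx,
    by simp⟩

theorem spider_mem : W spiderW ∈ cert.sub :=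
  word_mem_sub spiderW (by decide +kernel) (by decide +kernel)

/-- The spider element is central. -/
theorem spider_central (g : P) : Commute g (W spiderW) := by
  have key : ∀ x < 12, Commute (σ x) (W spiderW) := by
    intro x hx
    by_cases h0 : x = 0
    · subst h0; exact (l_central spider_mem).symm
    by_cases h1 : x = 1
    · subst h1
      refine prod_commute spiderW fun y hy => comm ?_
      revert y
      decide +kernel
    have hp : ∀ x < 12, x ≠ 0 → x ≠ 1 → ∃ p ∈ paths, p.getLastD 0 = x := by decide +kernel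
    obtain ⟨p, hp, rfl⟩ := hp x hx h0 h1
    obtain ⟨hlt', hrun⟩ := path_fix p hp
    have hm := word_mem_sub _ hlt' hrun
    have hc := l_central hm
    rw [← gw_conj p 0 (paths_ok p hp)]
    set g := W (gw (0 :: p))
    have e : W ((gw (0 :: p)).reverse ++ spiderW ++ gw (0 :: p)) = g⁻¹ * W spiderW * g := by
      simp only [g, W, List.map_append, List.prod_append, prod_reverse_inv presFi24.σ presFi24.σ_sq]
    rw [e] at hc
    have := (Commute.conj_iff g).mpr hc.symm
    simpa [mul_assoc] using this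
  have : g ∈ Subgroup.centralizer ({W spiderW} : Set P) := by
    refine (Subgroup.closure_le _).mpr ?_ (presFi24.gen_closure ▸ Subgroup.mem_top g)
    rintro _ ⟨x, hx, rfl⟩
    exact Subgroup.mem_centralizer_singleton_iff.mpr (key x hx).eq
  exact Subgroup.mem_centralizer_singleton_iff.mp this

/-- The sign of the presented group. -/
noncomputable def sgn : P →* ℤˣ :=
  PresentedGroup.toGroup (f := fun _ : presFi24.α => (-1 : ℤˣ)) <| by
    refine presFi24.lift_rel (τ := fun _ => (-1 : ℤˣ)) (fun _ => by decide) fun w hw => ?_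
    have he : ∀ w ∈ presFi24.rels, w.length % 2 = 0 := by decide +kernel
    rw [show (w.map fun _ => (-1 : ℤˣ)) = List.replicate w.length (-1) from List.map_const', List.prod_replicate]
    exact Even.neg_one_pow (Nat.even_iff.mpr (he w hw))

theorem sgn_σ {x : ℕ} (hx : x < 12) : sgn (σ x) = -1 := by
  rw [Pres.σ, if_pos hx]
  exact PresentedGroup.toGroup.of _

end CfsgLib.CosetEnum.Fi24Table
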