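/-
The subgroup of index 306936 in Fi24 is a direct product of Fi23 and a group of order two.
-/
import Cfsg.Agent.Lib.CosetEnum.Fi24Table.Order
import Cfsg.Agent.S1697

set_option autoImplicit false
set_option maxRecDepth 1000000

open scoped commutatorElement

namespace CfsgLib.CosetEnum

/-- A group with a centre of finite index has a finite commutator subgroup. -/
theorem finite_commutator_of_center {G : Type*} [Group G] [Finite (G ⧸ Subgroup.center G)] :
    Finite (commutator G) := by
  have key : ∀ (a b z : G), z ∈ Subgroup.center G → ⁅a * z, b⁆ = ⁅a, b⁆ ∧ ⁅a, b * z⁆ = ⁅a, b⁆ := by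
    intro a b z hz
    have h := fun g => Subgroup.mem_center_iff.mp hz g
    constructor
    · rw [commutatorElement_def, commutatorElement_def]
      calc a * z * b * (a * z)⁻¹ * b⁻¹ = a * (z * b) * z⁻¹ * a⁻¹ * b⁻¹ := by group
        _ = a * (b * z) * z⁻¹ * a⁻¹ * b⁻¹ := by rw [h b]
        _ = _ := by group
    · rw [commutatorElement_def, commutatorElement_def]
      calc a * (b * z) * a⁻¹ * (b * z)⁻¹ = a * b * (z * a⁻¹) * z⁻¹ * b⁻¹ := by group
        _ = a * b * (a⁻¹ * z) * z⁻¹ * b⁻¹ := by rw [h a⁻¹]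
        _ = _ := by group
  have : Finite (commutatorSet G) := by
    refine Set.finite_coe_iff.mpr ((Set.finite_range
      (fun p : (G ⧸ Subgroup.center G) × (G ⧸ Subgroup.center G) => ⁅p.1.out, p.2.out⁆)).subset ?_)
    rintro _ ⟨a, b, rfl⟩
    refine ⟨(QuotientGroup.mk a, QuotientGroup.mk b), ?_⟩
    obtain ⟨z, hz⟩ := QuotientGroup.mk_out_eq_mul (Subgroup.center G) a
    obtain ⟨z', hz'⟩ := QuotientGroup.mk_out_eq_mul (Subgroup.center G) b
    dsimp only
    rw [hz, hz', (key a _ z z.2).1, (key a b z' z'.2).2]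
  infer_instance

namespace Fi24Table

open CfsgLib.CosetEnum

/-- The subgroup of index 306936. -/
abbrev Sub : Type := cert.sub

/-- The generators of the subgroup; the others are trivial. -/
noncomputable def gS (x : ℕ) : cert.sub :=
  if h : x ∈ [0, 2, 3, 4, 5, 6, 7, 8, 9, 10, 11] then ⟨presFi24.σ x, σ_mem h⟩ else 1

theorem gS_val {x : ℕ} (h : x ∈ [0, 2, 3, 4, 5, 6, 7, 8, 9, 10, 11]) : (gS x : presFi24.Grp) = presFi24.σ x := by
  rw [gS, dif_pos h]

theorem gS_closure : Subgroup.closure (gS '' {x | x ∈ [0, 2, 3, 4, 5, 6, 7, 8, 9, 10, 11]}) = ⊤ := by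
  refine eq_top_iff.mpr fun g _ => ?_
  have : (g : presFi24.Grp) ∈ (Subgroup.closure (gS '' {x | x ∈ [0, 2, 3, 4, 5, 6, 7, 8, 9, 10, 11]})).map
      cert.sub.subtype := by
    refine (Subgroup.closure_le _).mpr ?_ g.2
    rintro _ ⟨w, hw, rfl⟩
    rcases hw_cases w hw with ⟨x, hx, rfl⟩ | rfl
    · exact ⟨gS x, Subgroup.subset_closure ⟨x, hx, rfl⟩, by simp [gS_val hx]⟩
    · exact ⟨1, one_mem _, by rw [map_one]; exact zW_one.symm⟩
  obtain ⟨g', hg', e⟩ := this
  rwa [← Subtype.ext e]

/-- The central elements killed in the map from Fi23. -/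
noncomputable def N0 : Subgroup cert.sub := Subgroup.closure {gS 0, ⟨W spiderW, spider_mem⟩}

theorem N0_le : N0 ≤ Subgroup.center cert.sub := by
  refine (Subgroup.closure_le _).mpr ?_
  rintro x (rfl | rfl)
  · refine Subgroup.mem_center_iff.mpr fun g => Subtype.ext ?_
    show (g : presFi24.Grp) * (gS 0 : presFi24.Grp) = (gS 0 : presFi24.Grp) * g
    rw [gS_val (by decide)]
    exact (l_central g.2).eq
  · exact Subgroup.mem_center_iff.mpr fun g => Subtype.ext (spider_central (g : presFi24.Grp)).eq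

instance : N0.Normal := ⟨fun n hn g => by
  rw [Subgroup.mem_center_iff.mp (N0_le hn) g, mul_inv_cancel_right]; exact hn⟩

/-- The images of the generators of Fi23. -/
noncomputable def τq (x : ℕ) : cert.sub ⧸ N0 := if x < 10 then QuotientGroup.mk (gS (x + 2)) else 1

theorem τq_sq (x : ℕ) : τq x * τq x = 1 := by
  unfold τq
  split
  · rename_i h
    rw [← QuotientGroup.mk_mul]
    have hm : x + 2 ∈ [0, 2, 3, 4, 5, 6, 7, 8, 9, 10, 11] := by
      revert h; revert x; exact fun x h => (show ∀ x < 10, x + 2 ∈ [0, 2, 3, 4, 5, 6, 7, 8, 9, 10, 11] by decide) x h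
    rw [show gS (x + 2) * gS (x + 2) = 1 from Subtype.ext (by
      show (gS (x + 2) : presFi24.Grp) * gS (x + 2) = 1
      rw [gS_val hm, presFi24.σ_sq])]
    rfl
  · exact one_mul 1

theorem τq_word : ∀ w : List ℕ, (∀ x ∈ w, x < 10) → ∃ g : cert.sub,
    (g : presFi24.Grp) = W (w.map (· + 2)) ∧ (w.map τq).prod = QuotientGroup.mk g := by
  intro w
  induction w with
  | nil => intro _; exact ⟨1, rfl, rfl⟩
  | cons x w ih =>
    intro h
    obtain ⟨g, hg, e⟩ := ih fun y hy => h y (List.mem_cons_of_mem _ hy)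
    have hx := h x List.mem_cons_self
    refine ⟨gS (x + 2) * g, ?_, ?_⟩
    · rw [Subgroup.coe_mul, gS_val ((show ∀ x < 10, x + 2 ∈ [0, 2, 3, 4, 5, 6, 7, 8, 9, 10, 11] by decide) x hx), hg]
      simp [W]
    · rw [List.map_cons, List.prod_cons, e, τq, if_pos hx, QuotientGroup.mk_mul]

theorem e7_eq_l : W (List.replicate 9 e7Fi24).flatten = presFi24.σ 0 := by
  have h := rel_W (w := [0] ++ (List.replicate 9 e7Fi24).flatten.reverse)
    (List.mem_append_right _ (by simp [extraWFi24]))
  rw [W, List.map_append, List.prod_append, prod_reverse_inv presFi24.σ presFi24.σ_sq] at h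
  simp only [List.map_cons, List.map_nil, List.prod_cons, List.prod_nil, mul_one] at h
  exact (mul_inv_eq_one.mp h).symm

theorem rel23 : ∀ r ∈ presFi23.rels, (∀ x ∈ r, x < 10) ∧ (r.map (· + 2) ∈ presFi24.rels ∨
    r.map (· + 2) = spiderW ∨ r.map (· + 2) = (List.replicate 9 e7Fi24).flatten) := by
  decide +kernel

theorem τq_rel : ∀ r ∈ presFi23.rels, (r.map τq).prod = 1 := by
  intro r hr
  obtain ⟨hlt', h⟩ := rel23 r hr
  obtain ⟨g, hg, e⟩ := τq_word r hlt'
  rw [e, QuotientGroup.eq_one_iff]
  rcases h with h | h | h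
  · rw [show g = 1 from Subtype.ext (hg.trans (rel_W h))]
    exact one_mem _
  · exact Subgroup.subset_closure (Or.inr (Subtype.ext (hg.trans (by rw [h]))))
  · refine Subgroup.subset_closure (Or.inl (Subtype.ext ?_))
    rw [hg, h, e7_eq_l, gS_val (by decide)]

/-- Fi23 maps onto the quotient of the subgroup. -/
noncomputable def ψ : presFi23.Grp →* cert.sub ⧸ N0 :=
  PresentedGroup.toGroup (f := τq ∘ presFi23.idx) (presFi23.lift_rel τq_sq τq_rel)

theorem ψ_surj : Function.Surjective ψ := by
  rw [← MonoidHom.range_eq_top, eq_top_iff]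
  intro q _
  induction q using QuotientGroup.induction_on with
  | H g =>
    have h : g ∈ (ψ.range).comap (QuotientGroup.mk' N0) := by
      refine (Subgroup.closure_le _).mpr ?_ (gS_closure ▸ Subgroup.mem_top g)
      rintro _ ⟨x, hx, rfl⟩
      by_cases h0 : x = 0
      · subst h0
        rw [SetLike.mem_coe, Subgroup.mem_comap, QuotientGroup.mk'_apply,
          (QuotientGroup.eq_one_iff (N := N0) (gS 0)).mpr (Subgroup.subset_closure (Or.inl rfl))]
        exact one_mem _
      have hx' : 2 ≤ x ∧ x - 2 < 10 :=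
        (show ∀ x ∈ [0, 2, 3, 4, 5, 6, 7, 8, 9, 10, 11], x ≠ 0 → 2 ≤ x ∧ x - 2 < 10 by decide) x hx h0
      refine ⟨PresentedGroup.of (presFi23.gen (x - 2)), ?_⟩
      refine (PresentedGroup.toGroup.of _).trans ?_
      show τq (presFi23.idx (presFi23.gen (x - 2))) = QuotientGroup.mk (gS x)
      rw [(show ∀ i < 10, presFi23.idx (presFi23.gen i) = i by decide) _ hx'.2, τq, if_pos hx'.2,
        Nat.sub_add_cancel hx'.1]
    exact h

theorem act_ne : runT table 12 [3, 2] 0 = 0 ∧ runT table 12 [2] 1 ≠ runT table 12 [2, 2] 1 ∧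
    runT table 12 [0] 1 ≠ 1 := by decide +kernel

theorem not_commute {x y : ℕ} (hx : x < 12) (hy : y < 12) {d : ℕ} (hd : d < table.n)
    (h : runT table 12 [y, x] d ≠ runT table 12 [x, y] d) : ¬ Commute (presFi24.σ x) (presFi24.σ y) := by
  intro hc
  have hw : ∀ a b : ℕ, a < 12 → b < 12 → ∀ z ∈ [a, b], z < 12 := by
    intro a b ha hb z hz
    rcases List.mem_cons.mp hz with rfl | hz
    · exact ha
    · rw [List.mem_singleton.mp hz]; exact hb
  have h1 := cert.hom_word_run' hltRels hidFi24 [x, y] (hw x y hx hy) ⟨d, hd⟩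
  have h2 := cert.hom_word_run' hltRels hidFi24 [y, x] (hw y x hy hx) ⟨d, hd⟩
  simp only [List.map_cons, List.map_nil, List.prod_cons, List.prod_nil, mul_one, List.reverse_cons, List.reverse_nil,
    List.nil_append, List.singleton_append, List.cons_append] at h1 h2
  rw [hc.eq] at h1
  exact h (h1.symm.trans h2)

theorem ab_move : ∃ d ∈ [0, 1, 2, 4, 6, 9, 12, 17, 24, 36], runT table 12 [3, 2] d ≠ runT table 12 [2, 3] d := by
  decide +kernel

theorem quot_nontrivial : Nontrivial (cert.sub ⧸ N0) := by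
  obtain ⟨d, hd, h⟩ := ab_move
  refine ⟨⟨QuotientGroup.mk (gS 2), 1, fun e => ?_⟩⟩
  have hc := Subgroup.mem_center_iff.mp (N0_le ((QuotientGroup.eq_one_iff _).mp e)) (gS 3)
  have hc' := congrArg Subtype.val hc
  rw [Subgroup.coe_mul, Subgroup.coe_mul, gS_val (by decide), gS_val (by decide)] at hc'
  exact not_commute (x := 2) (y := 3) (by decide) (by decide)
    ((show ∀ d ∈ [0, 1, 2, 4, 6, 9, 12, 17, 24, 36], d < 306936 by decide) d hd) h hc'.symm

theorem ψ_bij : Function.Bijective ψ := by
  have := Cfsg.Agent.S1697.result.1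
  have := quot_nontrivial
  refine ⟨(MonoidHom.ker_eq_bot_iff _).mp ?_, ψ_surj⟩
  rcases (inferInstance : ψ.ker.Normal).eq_bot_or_eq_top with h | h
  · exact h
  · obtain ⟨a, ha⟩ := exists_ne (1 : cert.sub ⧸ N0)
    obtain ⟨g, rfl⟩ := ψ_surj a
    exact absurd (MonoidHom.mem_ker.mp (h ▸ Subgroup.mem_top g)) ha

/-- The projection of the subgroup onto Fi23. -/
noncomputable def proj : cert.sub →* presFi23.Grp :=
  (MulEquiv.ofBijective ψ ψ_bij).symm.toMonoidHom.comp (QuotientGroup.mk' N0)

theorem proj_surj : Function.Surjective proj :=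
  (MulEquiv.ofBijective ψ ψ_bij).symm.surjective.comp (QuotientGroup.mk'_surjective N0)

theorem proj_ker : proj.ker = N0 := by
  ext g
  rw [MonoidHom.mem_ker]
  show (MulEquiv.ofBijective ψ ψ_bij).symm (QuotientGroup.mk g) = 1 ↔ g ∈ N0
  rw [map_eq_one_iff _ (MulEquiv.ofBijective ψ ψ_bij).symm.injective, QuotientGroup.eq_one_iff]

instance : Finite (cert.sub ⧸ Subgroup.center cert.sub) := by
  have := Cfsg.Agent.S1697.upper.1
  have : Finite (cert.sub ⧸ N0) := Finite.of_equiv _ (MulEquiv.ofBijective ψ ψ_bij).toEquiv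
  exact Finite.of_surjective (Subgroup.quotientMapOfLE N0_le) fun q => by
    induction q using QuotientGroup.induction_on with
    | H g => exact ⟨QuotientGroup.mk g, rfl⟩

instance : Finite (commutator cert.sub) := finite_commutator_of_center

/-- The projection restricted to the derived subgroup. -/
noncomputable def projD : commutator cert.sub →* presFi23.Grp := proj.comp (commutator cert.sub).subtype

theorem projD_surj : Function.Surjective projD := by
  have := Cfsg.Agent.S1697.result.1
  have hne : commutator presFi23.Grp = ⊤ := by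
    rcases (inferInstance : (commutator presFi23.Grp).Normal).eq_bot_or_eq_top with h | h
    · exfalso
      have hab : ∀ a b : presFi23.Grp, a * b = b * a := fun a b => by
        have hm : ⁅a, b⁆ ∈ commutator presFi23.Grp :=
          Subgroup.commutator_mem_commutator (Subgroup.mem_top a) (Subgroup.mem_top b)
        rw [h, Subgroup.mem_bot] at hm
        exact commutatorElement_eq_one_iff_mul_comm.mp hm
      obtain ⟨d, hd, hne⟩ := ab_move
      have hc : (QuotientGroup.mk (gS 2 * gS 3) : cert.sub ⧸ N0) = QuotientGroup.mk (gS 3 * gS 2) := by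
        obtain ⟨a, ha⟩ := ψ_surj (QuotientGroup.mk (gS 2))
        obtain ⟨b, hb⟩ := ψ_surj (QuotientGroup.mk (gS 3))
        rw [QuotientGroup.mk_mul, QuotientGroup.mk_mul, ← ha, ← hb, ← map_mul, ← map_mul, hab]
      rw [QuotientGroup.eq] at hc
      have hz := fun g => congrArg Subtype.val (Subgroup.mem_center_iff.mp (N0_le hc) g)
      have h3 := hz (gS 2)
      simp only [Subgroup.coe_mul, Subgroup.coe_inv, gS_val (show (2 : ℕ) ∈ [0, 2, 3, 4, 5, 6, 7, 8, 9, 10, 11] by decide),
        gS_val (show (3 : ℕ) ∈ [0, 2, 3, 4, 5, 6, 7, 8, 9, 10, 11] by decide), mul_inv_rev, inv_σ] at h3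
      have hb := braid (x := 2) (y := 3) (by decide +kernel)
      refine not_commute (x := 2) (y := 3) (by decide) (by decide)
        ((show ∀ d ∈ [0, 1, 2, 4, 6, 9, 12, 17, 24, 36], d < 306936 by decide) d hd) hne ?_
      have s2 := presFi24.σ_sq 2
      have s3 := presFi24.σ_sq 3
      show presFi24.σ 2 * presFi24.σ 3 = presFi24.σ 3 * presFi24.σ 2
      generalize presFi24.σ 2 = u at h3 hb s2 ⊢
      generalize presFi24.σ 3 = v at h3 hb s3 ⊢
      grind
    · exact h
  intro q
  have hq : q ∈ (commutator cert.sub).map proj := by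
    rw [map_commutator_eq, MonoidHom.range_eq_top.mpr proj_surj]
    show q ∈ commutator presFi23.Grp
    rw [hne]
    exact Subgroup.mem_top q
  obtain ⟨g, hg, rfl⟩ := hq
  exact ⟨⟨g, hg⟩, rfl⟩

theorem exists_decomp (g : cert.sub) : ∃ d ∈ commutator cert.sub, ∃ z ∈ Subgroup.center cert.sub, g = d * z := by
  obtain ⟨d, hd⟩ := projD_surj (proj g)
  refine ⟨d, d.2, (d : cert.sub)⁻¹ * g, N0_le ?_, by group⟩
  rw [← proj_ker, MonoidHom.mem_ker, map_mul, map_inv, show proj (d : cert.sub) = projD d from rfl, hd, inv_mul_cancel]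

theorem derived_perfect : commutator (commutator cert.sub) = ⊤ := by
  rw [eq_top_iff]
  intro g _
  have : (g : cert.sub) ∈ (commutator (commutator cert.sub)).map (commutator cert.sub).subtype := by
    have h : (g : cert.sub) ∈ Subgroup.closure (commutatorSet cert.sub) := by
      rw [← commutator_eq_closure]; exact g.2
    refine (Subgroup.closure_le _).mpr ?_ h
    rintro _ ⟨a, b, rfl⟩
    obtain ⟨a', ha', z, hz, rfl⟩ := exists_decomp a
    obtain ⟨b', hb', z', hz', rfl⟩ := exists_decomp b
    refine ⟨⁅(⟨a', ha'⟩ : commutator cert.sub), ⟨b', hb'⟩⁆,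
      Subgroup.commutator_mem_commutator (Subgroup.mem_top _) (Subgroup.mem_top _), ?_⟩
    have hc := fun x => Subgroup.mem_center_iff.mp hz x
    have hc' := fun x => Subgroup.mem_center_iff.mp hz' x
    rw [map_commutatorElement]
    show ⁅a', b'⁆ = ⁅a' * z, b' * z'⁆
    rw [commutatorElement_def, commutatorElement_def]
    calc a' * b' * a'⁻¹ * b'⁻¹ = a' * b' * a'⁻¹ * (z' * b'⁻¹ * z'⁻¹) := by rw [← hc' b'⁻¹]; group
      _ = a' * b' * (a'⁻¹ * z') * b'⁻¹ * z'⁻¹ := by group
      _ = a' * (z * b') * z⁻¹ * (z' * a'⁻¹) * b'⁻¹ * z'⁻¹ := by rw [hc' a'⁻¹, ← hc b']; group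
      _ = a' * z * b' * (z⁻¹ * z') * a'⁻¹ * b'⁻¹ * z'⁻¹ := by group
      _ = a' * z * b' * (z' * z⁻¹) * a'⁻¹ * b'⁻¹ * z'⁻¹ := by rw [hc' z⁻¹]
      _ = a' * z * (b' * z') * (a' * z)⁻¹ * (b'⁻¹ * z'⁻¹) := by group
      _ = _ := by
        rw [show b'⁻¹ * z'⁻¹ = (b' * z')⁻¹ by rw [mul_inv_rev, ← inv_inj, mul_inv_rev, inv_inv, inv_inv,
          mul_inv_rev, inv_inv, inv_inv, hc' b']]
  obtain ⟨g', hg', e⟩ := this
  rwa [← Subtype.ext e]

theorem projD_inj : Function.Injective projD := by
  have hker : projD.ker ≤ Subgroup.center (commutator cert.sub) := by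
    intro g hg
    have h : (g : cert.sub) ∈ N0 := by rw [← proj_ker]; exact hg
    exact Subgroup.mem_center_iff.mpr fun a => Subtype.ext (Subgroup.mem_center_iff.mp (N0_le h) a)
  exact (MonoidHom.ker_eq_bot_iff _).mp
    (Fi23Mult.ker_eq_bot (π := projD) ⟨projD_surj, hker, derived_perfect ▸ le_top⟩)

/-- The derived subgroup of the subgroup is Fi23. -/
noncomputable def derivedEquiv : commutator cert.sub ≃* presFi23.Grp :=
  MulEquiv.ofBijective projD ⟨projD_inj, projD_surj⟩

theorem card_derived : Nat.card (commutator cert.sub) = 4089470473293004800 :=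
  (Nat.card_congr derivedEquiv.toEquiv).trans Cfsg.Agent.S1697.result.2

/-- The sign on the subgroup. -/
noncomputable def sgnS : cert.sub →* ℤˣ := sgn.comp cert.sub.subtype

theorem commutator_le_sgn : commutator cert.sub ≤ sgnS.ker :=
  Abelianization.commutator_subset_ker sgnS

theorem class_eq : ∀ x ∈ [0, 2, 3, 4, 5, 6, 7, 8, 9, 10, 11],
    (QuotientGroup.mk (gS x) : cert.sub ⧸ commutator cert.sub) = QuotientGroup.mk (gS 0) := by
  let A := cert.sub ⧸ commutator cert.sub
  have hcomm : ∀ a b : A, a * b = b * a := by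
    intro a b
    induction a using QuotientGroup.induction_on with
    | H a =>
      induction b using QuotientGroup.induction_on with
      | H b =>
        rw [← QuotientGroup.mk_mul, ← QuotientGroup.mk_mul, QuotientGroup.eq]
        have : (a * b)⁻¹ * (b * a) = ⁅b⁻¹, a⁻¹⁆ := by rw [commutatorElement_def]; group
        rw [this]
        exact Subgroup.commutator_mem_commutator (Subgroup.mem_top _) (Subgroup.mem_top _)
  let c : ℕ → A := fun x => QuotientGroup.mk (gS x)
  have step : ∀ x y : ℕ, x ∈ [0, 2, 3, 4, 5, 6, 7, 8, 9, 10, 11] → y ∈ [0, 2, 3, 4, 5, 6, 7, 8, 9, 10, 11] →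
      [x, y, x, y, x, y] ∈ presFi24.rels → c y = c x := by
    intro x y hx hy hr
    have e : gS x * gS y * gS x = gS y * gS x * gS y := Subtype.ext (by
      simp only [Subgroup.coe_mul, gS_val hx, gS_val hy]; exact braid hr)
    have e' : c x * c y * c x = c y * c x * c y := congrArg (QuotientGroup.mk' _) e
    rw [hcomm (c y) (c x)] at e'
    exact (mul_left_cancel e').symm
  have hbr : ∀ e ∈ [(2, 3), (3, 4), (4, 5), (5, 6), (6, 7), (7, 8), (8, 9), (5, 10), (10, 11)],
      [e.1, e.2, e.1, e.2, e.1, e.2] ∈ presFi24.rels := by decide +kernel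
  have q := fun a b ha hb h => step a b ha hb (hbr (a, b) h)
  have q3 : c 3 = c 2 := q 2 3 (by decide) (by decide) (by decide)
  have q4 : c 4 = c 2 := (q 3 4 (by decide) (by decide) (by decide)).trans q3
  have q5 : c 5 = c 2 := (q 4 5 (by decide) (by decide) (by decide)).trans q4
  have q6 : c 6 = c 2 := (q 5 6 (by decide) (by decide) (by decide)).trans q5
  have q7 : c 7 = c 2 := (q 6 7 (by decide) (by decide) (by decide)).trans q6
  have q8 : c 8 = c 2 := (q 7 8 (by decide) (by decide) (by decide)).trans q7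
  have q9 : c 9 = c 2 := (q 8 9 (by decide) (by decide) (by decide)).trans q8
  have q10 : c 10 = c 2 := (q 5 10 (by decide) (by decide) (by decide)).trans q5
  have q11 : c 11 = c 2 := (q 10 11 (by decide) (by decide) (by decide)).trans q10
  have hsq : c 2 * c 2 = 1 := by
    rw [← QuotientGroup.mk_mul]
    exact congrArg (QuotientGroup.mk' _) (show gS 2 * gS 2 = 1 from Subtype.ext (by
      simp only [Subgroup.coe_mul, gS_val (show (2 : ℕ) ∈ [0, 2, 3, 4, 5, 6, 7, 8, 9, 10, 11] by decide)]
      exact presFi24.σ_sq 2))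
  have h0 : c 0 = c 2 := by
    have hg : gS 0 = (List.map gS (List.replicate 9 e7Fi24).flatten).prod := Subtype.ext (by
      rw [gS_val (by decide), ← e7_eq_l, SubmonoidClass.coe_list_prod, List.map_map]
      refine congrArg List.prod (List.map_congr_left fun x hx => (gS_val ?_).symm)
      revert x; decide +kernel)
    have := congrArg (QuotientGroup.mk' (commutator cert.sub)) hg
    rw [map_list_prod, List.map_map] at this
    refine this.trans ?_
    have hl : ∀ x ∈ (List.replicate 9 e7Fi24).flatten, (QuotientGroup.mk' (commutator cert.sub) ∘ gS) x = c 2 := by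
      intro x hx
      have hx' : x ∈ [2, 3, 4, 5, 6, 7, 10] := by revert x; decide +kernel
      simp only [List.mem_cons, List.not_mem_nil, or_false] at hx'
      rcases hx' with rfl | rfl | rfl | rfl | rfl | rfl | rfl <;> first | rfl | assumption
    rw [List.map_congr_left hl, List.map_const', List.prod_replicate,
      show (List.replicate 9 e7Fi24).flatten.length = 2 * 31 + 1 by decide +kernel, pow_succ, pow_mul, pow_two, hsq,
      one_pow, one_mul]
  intro x hx
  show c x = c 0
  rw [h0]
  simp only [List.mem_cons, List.not_mem_nil, or_false] at hx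
  rcases hx with rfl | rfl | rfl | rfl | rfl | rfl | rfl | rfl | rfl | rfl | rfl <;> first | rfl | exact h0 | assumption

theorem card_sub : Nat.card cert.sub = 2 * 4089470473293004800 := by
  have hidx : (commutator cert.sub).index = 2 := by
    rw [Subgroup.index_eq_two_iff]
    refine ⟨gS 0, fun b => ?_⟩
    have hl : sgnS (gS 0) = -1 := by
      show sgn (gS 0 : presFi24.Grp) = -1
      rw [gS_val (by decide)]
      exact sgn_σ (by decide)
    have hout : gS 0 ∉ commutator cert.sub := fun h => by
      have := commutator_le_sgn h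
      rw [MonoidHom.mem_ker, hl] at this
      exact absurd this (by decide)
    have hin : gS 0 * gS 0 = 1 := Subtype.ext (by
      simp only [Subgroup.coe_mul, gS_val (show (0 : ℕ) ∈ [0, 2, 3, 4, 5, 6, 7, 8, 9, 10, 11] by decide)]
      exact presFi24.σ_sq 0)
    have hall : b ∈ commutator cert.sub ∨ b * gS 0 ∈ commutator cert.sub := by
      have hb : b ∈ Subgroup.closure (gS '' {x | x ∈ [0, 2, 3, 4, 5, 6, 7, 8, 9, 10, 11]}) :=
        gS_closure ▸ Subgroup.mem_top b
      have hmk : (QuotientGroup.mk b : cert.sub ⧸ commutator cert.sub) ∈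
          Subgroup.zpowers (QuotientGroup.mk (gS 0) : cert.sub ⧸ commutator cert.sub) := by
        show b ∈ (Subgroup.zpowers (QuotientGroup.mk (gS 0) : cert.sub ⧸ commutator cert.sub)).comap
          (QuotientGroup.mk' _)
        refine (Subgroup.closure_le _).mpr ?_ hb
        rintro _ ⟨x, hx, rfl⟩
        exact ⟨1, by show _ ^ (1 : ℤ) = _; rw [zpow_one]; exact (class_eq x hx).symm⟩
      obtain ⟨m, hm⟩ := hmk
      simp only at hm
      rcases Int.even_or_odd' m with ⟨q, rfl | rfl⟩
      · left
        rw [← QuotientGroup.eq_one_iff, ← hm, zpow_mul, zpow_two, ← QuotientGroup.mk_mul, hin, QuotientGroup.mk_one,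
          one_zpow]
      · right
        rw [← QuotientGroup.eq_one_iff, QuotientGroup.mk_mul, ← hm, zpow_add, zpow_mul, zpow_two,
          ← QuotientGroup.mk_mul, hin, QuotientGroup.mk_one, one_zpow, one_mul, zpow_one, ← QuotientGroup.mk_mul, hin,
          QuotientGroup.mk_one]
    rcases hall with h | h
    · exact Or.inr ⟨h, fun h' => hout ((Subgroup.mul_mem_cancel_left _ h).mp h')⟩
    · exact Or.inl ⟨h, fun h' => hout ((Subgroup.mul_mem_cancel_left _ h').mp h)⟩
  have h := (commutator cert.sub).card_mul_index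
  rw [hidx, card_derived, mul_comm] at h
  exact h.symm

instance : Finite cert.sub :=
  Nat.finite_of_card_ne_zero (by rw [card_sub]; decide)

theorem card_grp : Nat.card presFi24.Grp = 306936 * (2 * 4089470473293004800) := by
  obtain ⟨e, -⟩ := cert.exists_equiv hltRels hidFi24 hhw'
  rw [← cert.sub.card_mul_index, index_eq_of_equiv e, card_sub, mul_comm]
  rfl

theorem spider_one : W spiderW = 1 := by
  set n : cert.sub := ⟨W spiderW, spider_mem⟩ with hn
  have hw : ∀ x ∈ spiderW, x ∈ [0, 2, 3, 4, 5, 6, 7, 8, 9, 10, 11] := by decide +kernel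
  have hg : n = (spiderW.map gS).prod := Subtype.ext (by
    rw [SubmonoidClass.coe_list_prod, List.map_map]
    exact congrArg List.prod (List.map_congr_left fun x hx => (gS_val (hw x hx)).symm))
  have hmk : (QuotientGroup.mk' (commutator cert.sub)) n = 1 := by
    rw [hg, map_list_prod, List.map_map]
    rw [List.map_congr_left (f := ⇑(QuotientGroup.mk' (commutator cert.sub)) ∘ gS) (g := fun _ => (QuotientGroup.mk (gS 0) : cert.sub ⧸ commutator cert.sub))
      (fun x hx => class_eq x (hw x hx)), List.map_const', List.prod_replicate,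
      show spiderW.length = 2 * 45 by decide +kernel, pow_mul, pow_two, ← QuotientGroup.mk_mul,
      show gS 0 * gS 0 = 1 from Subtype.ext (by
        simp only [Subgroup.coe_mul, gS_val (show (0 : ℕ) ∈ [0, 2, 3, 4, 5, 6, 7, 8, 9, 10, 11] by decide)]
        exact presFi24.σ_sq 0), QuotientGroup.mk_one, one_pow]
  have hD : n ∈ commutator cert.sub := (QuotientGroup.eq_one_iff n).mp hmk
  have h1 : projD ⟨n, hD⟩ = 1 := by
    show proj n = 1
    rw [← MonoidHom.mem_ker, proj_ker]
    exact Subgroup.subset_closure (Or.inr rfl)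
  exact congrArg (fun g : commutator cert.sub => ((g : cert.sub) : presFi24.Grp))
    (projD_inj (h1.trans (map_one projD).symm))

instance finite_grp : Finite presFi24.Grp :=
  Nat.finite_of_card_ne_zero (by rw [card_grp]; decide)

end Fi24Table

end CfsgLib.CosetEnum
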