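/-
Every point of the table of Fi24 is reached from three roots by the generators of the subgroup.
-/
import Cfsg.Agent.Lib.CosetEnum.Fi24Table.Data
import Cfsg.Agent.Lib.CosetEnum.Fi24Table.For0
import Cfsg.Agent.Lib.CosetEnum.Fi24Table.For1
import Cfsg.Agent.Lib.CosetEnum.Fi24Table.For2
import Cfsg.Agent.Lib.CosetEnum.Fi24Table.For3

set_option autoImplicit false
set_option Elab.async false
set_option maxRecDepth 1000000

namespace CfsgLib.CosetEnum.Fi24Table

open CfsgLib.CosetEnum

/-- The forest: predecessor, letter and depth. -/
noncomputable def forest : Tree := (.node (.node for0 for2) (.node for1 for3))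

/-- The entry of a point. -/
noncomputable def fent (d : ℕ) : ℕ := force d fun d' => entry forest (nat_lit 64) (nat_lit 32) d'

/-- The depth of a point. -/
noncomputable def fdep (d : ℕ) : ℕ := fld (fent d) (nat_lit 24) (nat_lit 8)

/-- The predecessor of a point is correct. -/
noncomputable def okFor (d : ℕ) : Bool :=
  Nat.beq d (nat_lit 0) || Nat.beq d (nat_lit 1) || Nat.beq d (nat_lit 8) ||
    force (fent d) fun e => force (fld e (nat_lit 0) (nat_lit 20)) fun p => force (fld e (nat_lit 20) (nat_lit 4)) fun x =>
      Nat.blt p (nat_lit 306936) && Nat.blt (fdep p) (fld e (nat_lit 24) (nat_lit 8)) && Nat.blt x (nat_lit 12) &&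
        Bool.rec true false (Nat.beq x (nat_lit 1)) && Nat.beq (table.act (nat_lit 12) p x) d

/-- The predecessors from `lo` on are correct. -/
noncomputable def okFors (lo m : ℕ) : Bool := allN m fun i => force (Nat.add lo i) okFor

theorem okFors_sound {lo m : ℕ} (h : okFors lo m = true) (hlo : ∀ d < lo, okFor d = true) :
    ∀ d < lo + m, okFor d = true := by
  intro d hd
  by_cases hd' : d < lo
  · exact hlo d hd'
  · have := allN_spec (f := fun i => force (Nat.add lo i) okFor) h (d - lo) (by omega)
    rwa [force_eq, show Nat.add lo (d - lo) = d by show lo + (d - lo) = d; omega] at this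

theorem fors0 : ∀ d < 20000, okFor d = true :=
  okFors_sound (lo := 0) (m := 20000) (by decide +kernel) (fun d hd => absurd hd (Nat.not_lt_zero d))

theorem fors1 : ∀ d < 40000, okFor d = true :=
  okFors_sound (lo := 20000) (m := 20000) (by decide +kernel) (fors0)

theorem fors2 : ∀ d < 60000, okFor d = true :=
  okFors_sound (lo := 40000) (m := 20000) (by decide +kernel) (fors1)

theorem fors3 : ∀ d < 80000, okFor d = true :=
  okFors_sound (lo := 60000) (m := 20000) (by decide +kernel) (fors2)

theorem fors4 : ∀ d < 100000, okFor d = true :=
  okFors_sound (lo := 80000) (m := 20000) (by decide +kernel) (fors3)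

theorem fors5 : ∀ d < 120000, okFor d = true :=
  okFors_sound (lo := 100000) (m := 20000) (by decide +kernel) (fors4)

theorem fors6 : ∀ d < 140000, okFor d = true :=
  okFors_sound (lo := 120000) (m := 20000) (by decide +kernel) (fors5)

theorem fors7 : ∀ d < 160000, okFor d = true :=
  okFors_sound (lo := 140000) (m := 20000) (by decide +kernel) (fors6)

theorem fors8 : ∀ d < 180000, okFor d = true :=
  okFors_sound (lo := 160000) (m := 20000) (by decide +kernel) (fors7)

theorem fors9 : ∀ d < 200000, okFor d = true :=
  okFors_sound (lo := 180000) (m := 20000) (by decide +kernel) (fors8)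

theorem fors10 : ∀ d < 220000, okFor d = true :=
  okFors_sound (lo := 200000) (m := 20000) (by decide +kernel) (fors9)

theorem fors11 : ∀ d < 240000, okFor d = true :=
  okFors_sound (lo := 220000) (m := 20000) (by decide +kernel) (fors10)

theorem fors12 : ∀ d < 260000, okFor d = true :=
  okFors_sound (lo := 240000) (m := 20000) (by decide +kernel) (fors11)

theorem fors13 : ∀ d < 280000, okFor d = true :=
  okFors_sound (lo := 260000) (m := 20000) (by decide +kernel) (fors12)

theorem fors14 : ∀ d < 300000, okFor d = true :=
  okFors_sound (lo := 280000) (m := 20000) (by decide +kernel) (fors13)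

theorem fors15 : ∀ d < 306936, okFor d = true :=
  okFors_sound (lo := 300000) (m := 6936) (by decide +kernel) (fors14)

theorem forest_ok : ∀ d < table.n, okFor d = true := fors15

end CfsgLib.CosetEnum.Fi24Table
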