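/-
The 3-transpositions of the presented Fi24, maximality of the subgroup of index 306936, and the normal subgroups.
-/
import Cfsg.Agent.Lib.CosetEnum.Fi24Table.Card
import Cfsg.Agent.Lib.CosetEnum.Fi24Table.Forest
import Cfsg.Prelude.Def_FischerSpaces

set_option autoImplicit false
set_option maxRecDepth 1000000

open Cfsg
open scoped commutatorElement

namespace CfsgLib.CosetEnum.Fi24Table

open CfsgLib.CosetEnum

/-- The class of transpositions. -/
noncomputable def Dset : Set presFi24.Grp := conjugatesOf (presFi24.σ 0)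

/-- The elements moving the base point to the three roots. -/
noncomputable def root : ℕ → presFi24.Grp
  | 0 => 1
  | 1 => presFi24.σ 1
  | _ => W (gw [0, 1, 2])

theorem root_pt : ∀ r, r = 0 ∨ r = 1 ∨ r = 8 →
    (cert.hom hltRels (root r) ⟨0, cert.hn⟩ : ℕ) = r := by
  rintro r (rfl | rfl | rfl)
  · rw [show root 0 = 1 from rfl, map_one]; rfl
  · rw [show root 1 = W [1] by simp [root, W],
      cert.hom_word_run' hltRels hidFi24 [1] (by decide) ⟨0, cert.hn⟩]
    show runT table 12 [1] 0 = 1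
    decide +kernel
  · rw [show root 8 = W (gw [0, 1, 2]) from rfl,
      cert.hom_word_run' hltRels hidFi24 (gw [0, 1, 2]) (by decide) ⟨0, cert.hn⟩]
    show runT table 12 (gw [0, 1, 2]).reverse 0 = 8
    decide +kernel

/-- Every point is reached from one of three roots inside the subgroup. -/
theorem reach (d : Fin cert.T.n) : ∃ r, (r = 0 ∨ r = 1 ∨ r = 8) ∧ ∃ h ∈ cert.sub,
    cert.hom hltRels (h * root r) ⟨0, cert.hn⟩ = d := by
  suffices H : ∀ (m : ℕ) (d : Fin cert.T.n), fdep d = m → ∃ r, (r = 0 ∨ r = 1 ∨ r = 8) ∧ ∃ h ∈ cert.sub,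
      cert.hom hltRels (h * root r) ⟨0, cert.hn⟩ = d from H _ d rfl
  intro m
  induction m using Nat.strong_induction_on with
  | _ m ih =>
    intro d hm
    by_cases hr : (d : ℕ) = 0 ∨ (d : ℕ) = 1 ∨ (d : ℕ) = 8
    · exact ⟨d, hr, 1, one_mem _, by rw [one_mul]; exact Fin.ext (root_pt _ hr)⟩
    have h := forest_ok d d.2
    simp only [okFor, force_eq, Bool.or_eq_true, Bool.and_eq_true, blt_iff] at h
    rcases h with ((h | h) | h) | h
    · exact absurd (Or.inl (Nat.eq_of_beq_eq_true h)) hr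
    · exact absurd (Or.inr (Or.inl (Nat.eq_of_beq_eq_true h))) hr
    · exact absurd (Or.inr (Or.inr (Nat.eq_of_beq_eq_true h))) hr
    obtain ⟨⟨⟨⟨hp, hlt'⟩, hx⟩, hx1⟩, hact⟩ := h
    set p := fld (fent d) (nat_lit 0) (nat_lit 20)
    set x := fld (fent d) (nat_lit 20) (nat_lit 4)
    have hx1' : x ≠ 1 := fun e => by rw [e] at hx1; exact absurd hx1 (by decide)
    obtain ⟨r, hr', h', hh', e⟩ := ih (fdep p) (by rw [← hm]; exact hlt') ⟨p, hp⟩ rfl
    have hxm : x ∈ [0, 2, 3, 4, 5, 6, 7, 8, 9, 10, 11] :=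
      (show ∀ x < 12, x ≠ 1 → x ∈ [0, 2, 3, 4, 5, 6, 7, 8, 9, 10, 11] by decide) x hx hx1'
    refine ⟨r, hr', presFi24.σ x * h', mul_mem (σ_mem hxm) hh', ?_⟩
    rw [mul_assoc, map_mul, Equiv.Perm.mul_apply, e]
    refine Fin.ext ?_
    rw [cert.hom_σ hltRels hidFi24 hx, cert.perm_val (show x < cert.D.k from hx)]
    exact Nat.eq_of_beq_eq_true hact

/-- Every element is a product of the shape `h r k` with `h, k` in the subgroup. -/
theorem double_coset (g : presFi24.Grp) : ∃ r, (r = 0 ∨ r = 1 ∨ r = 8) ∧ ∃ h ∈ cert.sub, ∃ k ∈ cert.sub,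
    g = h * root r * k := by
  obtain ⟨r, hr, h, hh, e⟩ := reach (cert.hom hltRels g ⟨0, cert.hn⟩)
  refine ⟨r, hr, h, hh, (h * root r)⁻¹ * g, mem_sub_iff.mpr ?_, by group⟩
  rw [map_mul, Equiv.Perm.mul_apply, ← e, map_inv]
  exact Equiv.symm_apply_apply _ _

/-- The transpositions at the roots. -/
noncomputable def rootT (r : ℕ) : presFi24.Grp := root r * presFi24.σ 0 * (root r)⁻¹

theorem rootT_eight : rootT 8 = presFi24.σ 2 :=
  gw_conj [1, 2] 0 (by decide +kernel)

theorem braid01 : presFi24.σ 0 * presFi24.σ 1 * presFi24.σ 0 = presFi24.σ 1 * presFi24.σ 0 * presFi24.σ 1 :=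
  braid (by decide +kernel)

theorem rootT_one : rootT 1 = presFi24.σ 0 * presFi24.σ 1 * presFi24.σ 0 := by
  rw [braid01, rootT, show root 1 = presFi24.σ 1 from rfl, inv_σ]

theorem rootT_cases {r : ℕ} (hr : r = 0 ∨ r = 1 ∨ r = 8) :
    (rootT r * presFi24.σ 0) ^ 2 = 1 ∨ (rootT r * presFi24.σ 0) ^ 3 = 1 := by
  rcases hr with rfl | rfl | rfl
  · left
    rw [show rootT 0 = presFi24.σ 0 by simp [rootT, root], presFi24.σ_sq, one_pow]
  · right
    rw [rootT_one]
    have h := rel_W (w := [0, 1, 0, 1, 0, 1]) (by decide +kernel)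
    simp only [W, List.map_cons, List.map_nil, List.prod_cons, List.prod_nil, mul_one] at h
    have e : presFi24.σ 0 * presFi24.σ 1 * presFi24.σ 0 * presFi24.σ 0 = presFi24.σ 0 * presFi24.σ 1 := by
      rw [mul_assoc _ (presFi24.σ 0) (presFi24.σ 0), presFi24.σ_sq, mul_one]
    rw [e, ← h, pow_succ, pow_two]
    group
  · left
    rw [rootT_eight, pow_two]
    have h := rel_W (w := [0, 2, 0, 2]) (by decide +kernel)
    simp only [W, List.map_cons, List.map_nil, List.prod_cons, List.prod_nil, mul_one] at h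
    have hc := comm (x := 0) (y := 2) (by decide +kernel)
    rw [← hc.eq, ← h]
    group

theorem move_facts : runT table 12 [0] 1 ≠ 1 ∧ runT table 12 [2] 1 ≠ runT table 12 [0] 1 ∧
    runT table 12 [0, 1, 0] 0 ≠ runT table 12 [0] 0 := by decide +kernel

theorem σ_apply {x : ℕ} (hx : x < 12) (d : Fin cert.T.n) :
    (cert.hom hltRels (presFi24.σ x) d : ℕ) = runT table 12 [x] d := by
  have := cert.hom_word_run' hltRels hidFi24 [x] (fun y hy => by rw [List.mem_singleton.mp hy]; exact hx) d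
  simp only [List.map_singleton, List.prod_singleton, List.reverse_singleton] at this
  exact this

theorem rootT_ne {r : ℕ} (hr : r = 1 ∨ r = 8) : rootT r ≠ presFi24.σ 0 := by
  intro e
  rcases hr with rfl | rfl
  · rw [rootT_one] at e
    have hh := congrArg (fun g => (cert.hom hltRels g ⟨0, cert.hn⟩ : ℕ)) e
    have h1 := cert.hom_word_run' hltRels hidFi24 [0, 1, 0] (by decide) ⟨0, cert.hn⟩
    simp only [List.map_cons, List.map_nil, List.prod_cons, List.prod_nil, mul_one, ← mul_assoc] at h1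
    rw [h1, σ_apply (by decide)] at hh
    exact move_facts.2.2 hh
  · rw [rootT_eight] at e
    have hh := σ_apply (x := 2) (by decide) (⟨1, by decide⟩ : Fin cert.T.n)
    rw [e, σ_apply (by decide)] at hh
    exact move_facts.2.1 hh.symm

theorem sgn_σ0 : sgn (presFi24.σ 0) = -1 := sgn_σ (by decide)

theorem l_ne_one : presFi24.σ 0 ≠ 1 := fun h => by
  have := sgn_σ0
  rw [h, map_one] at this
  exact absurd this (by decide)

/-- A conjugate of the transposition, written from a root inside the subgroup. -/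
theorem conj_form (g : presFi24.Grp) : ∃ r, (r = 0 ∨ r = 1 ∨ r = 8) ∧ ∃ h ∈ cert.sub,
    g * presFi24.σ 0 * g⁻¹ = h * rootT r * h⁻¹ ∧ ((g ∈ cert.sub) ↔ r = 0) := by
  obtain ⟨r, hr, h, hh, k, hk, e⟩ := double_coset g
  refine ⟨r, hr, h, hh, ?_, ?_⟩
  · have hc := (l_central hk).eq
    rw [e, rootT]
    calc h * root r * k * presFi24.σ 0 * (h * root r * k)⁻¹
        = h * root r * (k * presFi24.σ 0) * k⁻¹ * (root r)⁻¹ * h⁻¹ := by group
      _ = _ := by rw [hc]; group
  · constructor
    · intro hg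
      by_contra h0
      have h1 : root r ∈ cert.sub := by
        have : root r = h⁻¹ * g * k⁻¹ := by rw [e]; group
        rw [this]
        exact mul_mem (mul_mem (inv_mem hh) hg) (inv_mem hk)
      have h2 := congrArg Fin.val (mem_sub_iff.mp h1)
      rw [root_pt r hr] at h2
      exact h0 h2
    · rintro rfl
      rw [e, show root 0 = 1 from rfl, mul_one]
      exact mul_mem hh hk

theorem centralizer_eq : Subgroup.centralizer ({presFi24.σ 0} : Set presFi24.Grp) = cert.sub := by
  refine le_antisymm (fun g hg => ?_) fun g hg => Subgroup.mem_centralizer_singleton_iff.mpr (l_central hg).eq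
  obtain ⟨r, hr, h, hh, e, hiff⟩ := conj_form g
  by_contra hns
  have hr' : r = 1 ∨ r = 8 := hr.resolve_left fun h0 => hns (hiff.mpr h0)
  refine rootT_ne hr' ?_
  have e' : g * presFi24.σ 0 * g⁻¹ = presFi24.σ 0 := by
    rw [Subgroup.mem_centralizer_singleton_iff.mp hg, mul_inv_cancel_right]
  rw [e'] at e
  have hc := (l_central hh).eq
  calc rootT r = h⁻¹ * (h * rootT r * h⁻¹) * h := by group
    _ = h⁻¹ * (presFi24.σ 0 * h) := by rw [← e, mul_assoc]
    _ = _ := by rw [← hc]; group

theorem braid_conj_mem {x y : ℕ} (h : [x, y, x, y, x, y] ∈ presFi24.rels) (hx : presFi24.σ x ∈ Dset) :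
    presFi24.σ y ∈ Dset := by
  obtain ⟨g, hg⟩ := isConj_iff.mp hx
  refine isConj_iff.mpr ⟨presFi24.σ x * presFi24.σ y * g, ?_⟩
  calc presFi24.σ x * presFi24.σ y * g * presFi24.σ 0 * (presFi24.σ x * presFi24.σ y * g)⁻¹
      = presFi24.σ x * presFi24.σ y * (g * presFi24.σ 0 * g⁻¹) * (presFi24.σ x * presFi24.σ y)⁻¹ := by group
    _ = presFi24.σ y := by rw [hg]; exact conj_step (braid h)

theorem σ_mem_D : ∀ x < 12, presFi24.σ x ∈ Dset := by
  have h0 : presFi24.σ 0 ∈ Dset := mem_conjugatesOf_self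
  have hb : ∀ e ∈ [(0, 1), (1, 2), (2, 3), (3, 4), (4, 5), (5, 6), (6, 7), (7, 8), (8, 9), (5, 10), (10, 11)],
      [e.1, e.2, e.1, e.2, e.1, e.2] ∈ presFi24.rels := by decide +kernel
  have q := fun a b h => braid_conj_mem (x := a) (y := b) (hb (a, b) h)
  have q1 := q 0 1 (by decide) h0
  have q2 := q 1 2 (by decide) q1
  have q3 := q 2 3 (by decide) q2
  have q4 := q 3 4 (by decide) q3
  have q5 := q 4 5 (by decide) q4
  have q6 := q 5 6 (by decide) q5
  have q7 := q 6 7 (by decide) q6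
  have q8 := q 7 8 (by decide) q7
  have q9 := q 8 9 (by decide) q8
  have q10 := q 5 10 (by decide) q5
  have q11 := q 10 11 (by decide) q10
  intro x hx
  interval_cases x <;> assumption

theorem closure_D : Subgroup.closure Dset = ⊤ := by
  rw [eq_top_iff, ← presFi24.gen_closure]
  refine Subgroup.closure_mono ?_
  rintro _ ⟨x, hx, rfl⟩
  exact σ_mem_D x hx

/-- The conjugates of the first generator are a class of 3-transpositions. -/
theorem threeTransposition : IsThreeTranspositionClass Dset := by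
  refine ⟨⟨?_, ?_⟩, ⟨_, mem_conjugatesOf_self, rfl⟩, closure_D⟩
  · intro d hd
    obtain ⟨g, rfl⟩ := isConj_iff.mp hd
    rw [orderOf_eq_prime_iff]
    refine ⟨by rw [conj_pow, pow_two, presFi24.σ_sq, mul_one, mul_inv_cancel], fun h => l_ne_one ?_⟩
    rw [show presFi24.σ 0 = g⁻¹ * (g * presFi24.σ 0 * g⁻¹) * g by group, h]
    group
  · intro d hd e he
    obtain ⟨u, rfl⟩ := isConj_iff.mp hd
    obtain ⟨v, rfl⟩ := isConj_iff.mp he
    obtain ⟨r, hr, h, hh, e', -⟩ := conj_form (v⁻¹ * u)
    have hl := (l_central hh).eq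
    have key : u * presFi24.σ 0 * u⁻¹ * (v * presFi24.σ 0 * v⁻¹) =
        v * h * (rootT r * presFi24.σ 0) * (v * h)⁻¹ := by
      have e1 : u * presFi24.σ 0 * u⁻¹ = v * (h * rootT r * h⁻¹) * v⁻¹ := by rw [← e']; group
      have e2 : h * presFi24.σ 0 * h⁻¹ = presFi24.σ 0 := by rw [hl, mul_inv_cancel_right]
      calc u * presFi24.σ 0 * u⁻¹ * (v * presFi24.σ 0 * v⁻¹)
          = v * (h * rootT r * h⁻¹) * v⁻¹ * (v * (h * presFi24.σ 0 * h⁻¹) * v⁻¹) := by rw [e1, e2]
        _ = _ := by group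
    rcases rootT_cases hr with h2 | h2
    · left; rw [key, conj_pow, h2, mul_one, mul_inv_cancel]
    · right; rw [key, conj_pow, h2, mul_one, mul_inv_cancel]

theorem card_D : Dset.ncard = 306936 := by
  obtain ⟨e, -⟩ := cert.exists_equiv hltRels hidFi24 hhw'
  have h1 : cert.sub.index = 306936 := index_eq_of_equiv e
  rw [← h1, ← centralizer_eq]
  have h2 : Dset = MulAction.orbit (ConjAct presFi24.Grp) (presFi24.σ 0) := by
    rw [Dset, ConjAct.orbit_eq_carrier_conjClasses, ConjClasses.carrier_eq_preimage_mk]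
    ext z
    simp only [conjugatesOf, Set.mem_preimage, Set.mem_singleton_iff, ConjClasses.mk_eq_mk_iff_isConj]
    exact ⟨IsConj.symm, IsConj.symm⟩
  rw [h2, ← MulAction.index_stabilizer (ConjAct presFi24.Grp) (presFi24.σ 0)]
  rw [ConjAct.stabilizer_eq_centralizer]
  rfl

/-- The subgroup is maximal. -/
theorem maximal {K : Subgroup presFi24.Grp} (hle : cert.sub ≤ K) : K = cert.sub ∨ K = ⊤ := by
  by_cases h : K ≤ cert.sub
  · exact Or.inl (le_antisymm h hle)
  right
  obtain ⟨g, hg, hgn⟩ := Set.not_subset.mp h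
  obtain ⟨r, hr, u, hu, v, hv, e⟩ := double_coset g
  have hr0 : root r ∈ K := by
    rw [show root r = u⁻¹ * g * v⁻¹ by rw [e]; group]
    exact mul_mem (mul_mem (inv_mem (hle hu)) hg) (inv_mem (hle hv))
  have hk : presFi24.σ 1 ∈ K := by
    rcases hr with rfl | rfl | rfl
    · exact absurd (show g ∈ cert.sub by rw [e, show root 0 = 1 from rfl, mul_one]; exact mul_mem hu hv) hgn
    · exact hr0
    · have hK : ∀ x ∈ [0, 2, 3, 4, 5, 6, 7, 8, 9, 10, 11], presFi24.σ x ∈ K := fun x hx => hle (σ_mem hx)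
      have s := presFi24.σ_sq
      have c03 := comm (x := 0) (y := 3) (by decide +kernel)
      have c13 := comm (x := 1) (y := 3) (by decide +kernel)
      have b23 := braid (x := 2) (y := 3) (by decide +kernel)
      have b12 := braid (x := 1) (y := 2) (by decide +kernel)
      have hg8 : root 8 = presFi24.σ 1 * presFi24.σ 2 * (presFi24.σ 0 * presFi24.σ 1) := by
        simp [root, gw, W, mul_assoc]
      have m1 : root 8 * presFi24.σ 3 * (root 8)⁻¹ ∈ K :=
        mul_mem (mul_mem hr0 (hK 3 (by decide))) (inv_mem hr0)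
      have e1 : root 8 * presFi24.σ 3 * (root 8)⁻¹ =
          presFi24.σ 3 * (presFi24.σ 1 * presFi24.σ 2 * presFi24.σ 1) * presFi24.σ 3 := by
        rw [hg8, mul_inv_rev, mul_inv_rev, mul_inv_rev, inv_σ, inv_σ, inv_σ]
        calc presFi24.σ 1 * presFi24.σ 2 * (presFi24.σ 0 * presFi24.σ 1) * presFi24.σ 3 *
              (presFi24.σ 1 * presFi24.σ 0 * (presFi24.σ 2 * presFi24.σ 1))
            = presFi24.σ 1 * presFi24.σ 2 * presFi24.σ 0 * (presFi24.σ 1 * presFi24.σ 3) * presFi24.σ 1 *
              presFi24.σ 0 * presFi24.σ 2 * presFi24.σ 1 := by group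
          _ = presFi24.σ 1 * presFi24.σ 2 * presFi24.σ 0 * presFi24.σ 3 * (presFi24.σ 1 * presFi24.σ 1) *
              presFi24.σ 0 * presFi24.σ 2 * presFi24.σ 1 := by rw [c13.eq]; group
          _ = presFi24.σ 1 * presFi24.σ 2 * (presFi24.σ 0 * presFi24.σ 3) * presFi24.σ 0 * presFi24.σ 2 *
              presFi24.σ 1 := by rw [s 1]; group
          _ = presFi24.σ 1 * (presFi24.σ 2 * presFi24.σ 3 * presFi24.σ 2) * presFi24.σ 1 := by
            rw [c03.eq, mul_assoc _ (presFi24.σ 3 * presFi24.σ 0) (presFi24.σ 0), mul_assoc (presFi24.σ 3), s 0,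
              mul_one]
            group
          _ = presFi24.σ 1 * presFi24.σ 3 * presFi24.σ 2 * (presFi24.σ 3 * presFi24.σ 1) := by rw [b23]; group
          _ = presFi24.σ 3 * presFi24.σ 1 * presFi24.σ 2 * (presFi24.σ 1 * presFi24.σ 3) := by rw [c13.eq]
          _ = _ := by group
      have m2 : presFi24.σ 1 * presFi24.σ 2 * presFi24.σ 1 ∈ K := by
        have := mul_mem (mul_mem (hK 3 (by decide)) (e1 ▸ m1)) (hK 3 (by decide))
        rw [show presFi24.σ 3 * (presFi24.σ 3 * (presFi24.σ 1 * presFi24.σ 2 * presFi24.σ 1) * presFi24.σ 3) *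
          presFi24.σ 3 = presFi24.σ 3 * presFi24.σ 3 * (presFi24.σ 1 * presFi24.σ 2 * presFi24.σ 1) *
            (presFi24.σ 3 * presFi24.σ 3) by group, s 3, one_mul, mul_one] at this
        exact this
      rw [b12] at m2
      have := mul_mem (mul_mem (hK 2 (by decide)) m2) (hK 2 (by decide))
      rw [show presFi24.σ 2 * (presFi24.σ 2 * presFi24.σ 1 * presFi24.σ 2) * presFi24.σ 2 =
        presFi24.σ 2 * presFi24.σ 2 * presFi24.σ 1 * (presFi24.σ 2 * presFi24.σ 2) by group, s 2, one_mul,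
        mul_one] at this
      exact this
  rw [eq_top_iff, ← presFi24.gen_closure, Subgroup.closure_le]
  rintro _ ⟨x, hx, rfl⟩
  by_cases h1 : x = 1
  · subst h1; exact hk
  · exact hle (σ_mem ((show ∀ x < 12, x ≠ 1 → x ∈ [0, 2, 3, 4, 5, 6, 7, 8, 9, 10, 11] by decide) x hx h1))

theorem center_eq_bot : Subgroup.center presFi24.Grp = ⊥ := by
  rw [Subgroup.eq_bot_iff_forall]
  intro z hz
  have hzs : z ∈ cert.sub := by
    rw [← centralizer_eq]
    exact Subgroup.mem_centralizer_singleton_iff.mpr (Subgroup.mem_center_iff.mp hz _).symm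
  have hproj : proj ⟨z, hzs⟩ = 1 := by
    have := Cfsg.Agent.S1697.result.1
    have hc : proj ⟨z, hzs⟩ ∈ Subgroup.center presFi23.Grp := Subgroup.mem_center_iff.mpr fun q => by
      obtain ⟨g, rfl⟩ := proj_surj q
      rw [← map_mul, ← map_mul]
      exact congrArg proj (Subtype.ext (Subgroup.mem_center_iff.mp hz _))
    rcases (inferInstance : (Subgroup.center presFi23.Grp).Normal).eq_bot_or_eq_top with h | h
    · rw [h] at hc; exact hc
    · exfalso
      have hcm : commutator presFi23.Grp = ⊥ := by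
        rw [eq_bot_iff, _root_.commutator_def, Subgroup.commutator_le]
        intro a _ b _
        rw [Subgroup.mem_bot, commutatorElement_eq_one_iff_mul_comm]
        exact (Subgroup.mem_center_iff.mp (h ▸ Subgroup.mem_top a) b).symm
      obtain ⟨⟨g, hg⟩, hg'⟩ := projD_surj (proj (gS 2))
      have hm : proj g ∈ (commutator cert.sub).map proj := Subgroup.mem_map_of_mem _ hg
      have hle : (commutator cert.sub).map proj ≤ commutator presFi23.Grp := by
        rw [map_commutator_eq, MonoidHom.range_eq_top.mpr proj_surj]; rfl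
      have h2 := hle hm
      rw [hcm, Subgroup.mem_bot, show proj g = projD ⟨g, hg⟩ from rfl, hg', ← MonoidHom.mem_ker, proj_ker] at h2
      have hn := Subgroup.mem_center_iff.mp (N0_le h2) (gS 3)
      have hn' := congrArg Subtype.val hn
      rw [Subgroup.coe_mul, Subgroup.coe_mul, gS_val (by decide), gS_val (by decide)] at hn'
      obtain ⟨d, hd, hne⟩ := ab_move
      exact not_commute (x := 2) (y := 3) (by decide) (by decide)
        ((show ∀ d ∈ [0, 1, 2, 4, 6, 9, 12, 17, 24, 36], d < 306936 by decide) d hd) hne hn'.symm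
  rw [← MonoidHom.mem_ker, proj_ker] at hproj
  have hN : N0 ≤ Subgroup.zpowers (gS 0) := by
    refine (Subgroup.closure_le _).mpr ?_
    rintro x (rfl | rfl)
    · exact Subgroup.mem_zpowers _
    · have hs : W spiderW = 1 := spider_one
      rw [show (⟨W spiderW, spider_mem⟩ : cert.sub) = 1 from Subtype.ext hs]
      exact one_mem _
  obtain ⟨m, hm⟩ := hN hproj
  have hz' := congrArg Subtype.val hm
  simp only [Subgroup.coe_zpow, gS_val (show (0 : ℕ) ∈ [0, 2, 3, 4, 5, 6, 7, 8, 9, 10, 11] by decide)] at hz'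
  rcases Int.even_or_odd' m with ⟨q, rfl | rfl⟩
  · rw [← hz', zpow_mul, zpow_two, presFi24.σ_sq, one_zpow]
  · exfalso
    rw [zpow_add, zpow_mul, zpow_two, presFi24.σ_sq, one_zpow, one_mul, zpow_one] at hz'
    refine not_commute (x := 0) (y := 1) (d := 0) (by decide) (by decide) (by decide)
      (show runT table 12 [1, 0] 0 ≠ runT table 12 [0, 1] 0 by decide +kernel) ?_
    rw [hz']
    exact (Subgroup.mem_center_iff.mp hz _).symm

end CfsgLib.CosetEnum.Fi24Table
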