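/-
An element of the presented Fi24 fixing the points of the twelve generators is trivial.
-/
import Cfsg.Agent.Lib.CosetEnum.Fi24Table.Structure

set_option autoImplicit false
set_option maxRecDepth 1000000

namespace CfsgLib.CosetEnum.Fi24Table

open CfsgLib.CosetEnum

/-- The points of the twelve generators. -/
def genPts24 : List ℕ := [0, 3, 8, 16, 34, 75, 169, 360, 706, 1307, 165, 316]

/-- The paths of the generators from the first one. -/
def genPath : List (List ℕ) :=
  [[], [1], [1, 2], [1, 2, 3], [1, 2, 3, 4], [1, 2, 3, 4, 5], [1, 2, 3, 4, 5, 6], [1, 2, 3, 4, 5, 6, 7],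
    [1, 2, 3, 4, 5, 6, 7, 8], [1, 2, 3, 4, 5, 6, 7, 8, 9], [1, 2, 3, 4, 5, 10], [1, 2, 3, 4, 5, 10, 11]]

theorem genPath_ok : ∀ y < 12, (∀ e ∈ (0 :: genPath.getD y []).zip (genPath.getD y []),
      [e.1, e.2, e.1, e.2, e.1, e.2] ∈ presFi24.rels) ∧ (genPath.getD y []).getLastD 0 = y ∧
    (∀ x ∈ gw (0 :: genPath.getD y []), x < 12) ∧
    runT table 12 (gw (0 :: genPath.getD y [])).reverse 0 = genPts24.getD y 0 := by
  decide +kernel

theorem genPts24_lt : ∀ y < 12, genPts24.getD y 0 < 306936 := by decide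

/-- An element fixing the points of the generators is trivial. -/
theorem one_of_fix_gens {g : presFi24.Grp}
    (h : ∀ d : Fin cert.T.n, (d : ℕ) ∈ genPts24 → cert.hom hltRels g d = d) : g = 1 := by
  have hc : ∀ y < 12, Commute g (presFi24.σ y) := by
    intro y hy
    obtain ⟨h1, h2, h3, h4⟩ := genPath_ok y hy
    rw [← h2, ← gw_conj _ 0 h1]
    set u := W (gw (0 :: genPath.getD y []))
    have hu : (cert.hom hltRels u ⟨0, cert.hn⟩ : ℕ) = genPts24.getD y 0 := by
      rw [cert.hom_word_run' hltRels hidFi24 _ h3]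
      exact h4
    have hf := h (cert.hom hltRels u ⟨0, cert.hn⟩) (hu ▸ by
      rw [List.getD_eq_getElem _ _ (show y < genPts24.length from hy)]; exact List.getElem_mem _)
    have h0 : cert.hom hltRels (u⁻¹ * g * u) ⟨0, cert.hn⟩ = ⟨0, cert.hn⟩ := by
      rw [map_mul, map_mul, Equiv.Perm.mul_apply, Equiv.Perm.mul_apply, hf, map_inv]
      exact Equiv.symm_apply_apply _ _
    have h5 := (Commute.conj_iff u).mpr (l_central (mem_sub_iff.mpr h0))
    rwa [show u * (u⁻¹ * g * u) * u⁻¹ = g by group] at h5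
  have hz : g ∈ Subgroup.center presFi24.Grp := by
    rw [Subgroup.mem_center_iff]
    intro z
    have hz' : z ∈ Subgroup.centralizer ({g} : Set presFi24.Grp) := by
      refine (Subgroup.closure_le _).mpr ?_ (presFi24.gen_closure ▸ Subgroup.mem_top z)
      rintro _ ⟨y, hy, rfl⟩
      exact Subgroup.mem_centralizer_singleton_iff.mpr (hc y hy).eq.symm
    exact Subgroup.mem_centralizer_singleton_iff.mp hz'
  rw [center_eq_bot] at hz
  exact Subgroup.mem_bot.mp hz

end CfsgLib.CosetEnum.Fi24Table
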