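/-
The normal subgroups of the presented Fi24 and the simplicity of its derived subgroup.
-/
import Cfsg.Agent.Lib.CosetEnum.Fi24Table.Structure

set_option autoImplicit false
set_option maxRecDepth 1000000

open Cfsg
open scoped commutatorElement Pointwise

namespace CfsgLib.CosetEnum.Fi24Table

open CfsgLib.CosetEnum

local notation "P" => presFi24.Grp

theorem simple23 : IsSimpleGroup presFi23.Grp := Cfsg.Agent.S1697.result.1

/-- The derived subgroup of the subgroup is simple. -/
theorem derived_simple : IsSimpleGroup (commutator cert.sub) := by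
  have := simple23
  have := derivedEquiv.toEquiv.nontrivial
  exact IsSimpleGroup.isSimpleGroup_of_surjective derivedEquiv.symm.toMonoidHom derivedEquiv.symm.surjective

theorem gS_mul_mem {x : ℕ} (hx : x ∈ [0, 2, 3, 4, 5, 6, 7, 8, 9, 10, 11]) :
    gS x * gS 0 ∈ commutator cert.sub := by
  rw [← QuotientGroup.eq_one_iff, QuotientGroup.mk_mul, class_eq x hx, ← QuotientGroup.mk_mul,
    show gS 0 * gS 0 = 1 from Subtype.ext (by
      simp only [Subgroup.coe_mul, gS_val (show (0 : ℕ) ∈ [0, 2, 3, 4, 5, 6, 7, 8, 9, 10, 11] by decide)]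
      exact presFi24.σ_sq 0), QuotientGroup.mk_one]

theorem commutator_le_sgn_ker : commutator P ≤ sgn.ker := Abelianization.commutator_subset_ker sgn

/-- A normal subgroup is trivial or contains the derived subgroup. -/
theorem normal_cases (N : Subgroup P) [hN : N.Normal] : N = ⊥ ∨ commutator P ≤ N := by
  by_cases hsub : N ≤ cert.sub
  · left
    rw [Subgroup.eq_bot_iff_forall]
    intro z hz
    rw [← Subgroup.mem_bot, ← center_eq_bot, Subgroup.mem_center_iff]
    intro g
    have : g ∈ Subgroup.centralizer ({z} : Set P) := by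
      refine (closure_D ▸ (Subgroup.closure_le _).mpr ?_) (Subgroup.mem_top g)
      intro d hd
      obtain ⟨u, rfl⟩ := isConj_iff.mp hd
      have hc := (l_central (hsub (hN.conj_mem z hz u⁻¹))).eq
      rw [inv_inv] at hc
      refine Subgroup.mem_centralizer_singleton_iff.mpr ?_
      calc u * presFi24.σ 0 * u⁻¹ * z = u * (presFi24.σ 0 * (u⁻¹ * z * u)) * u⁻¹ := by group
        _ = z * (u * presFi24.σ 0 * u⁻¹) := by rw [← hc]; group
    exact Subgroup.mem_centralizer_singleton_iff.mp this
  have htop : cert.sub ⊔ N = ⊤ :=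
    (maximal le_sup_left).resolve_left fun h => hsub (le_sup_right.trans h.le)
  have := derived_simple
  right
  have hnorm : (((N.subgroupOf cert.sub).subgroupOf (commutator cert.sub))).Normal := inferInstance
  rcases hnorm.eq_bot_or_eq_top with h | h
  · exfalso
    -- a retraction onto the subgroup would identify two generators
    have hcap : ∀ g : cert.sub, (g : P) ∈ N → g ∈ Subgroup.center cert.sub := by
      intro g hg
      have hd : ∀ d ∈ commutator cert.sub, g * d = d * g := by
        intro d hd
        have h1 : ⁅g, d⁆ ∈ commutator cert.sub :=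
          Subgroup.commutator_mem_commutator (Subgroup.mem_top _) (Subgroup.mem_top _)
        have h2 : ((⁅g, d⁆ : cert.sub) : P) ∈ N := by
          show (g : P) * d * (g : P)⁻¹ * (d : P)⁻¹ ∈ N
          rw [show (g : P) * d * (g : P)⁻¹ * (d : P)⁻¹ = (g : P) * ((d : P) * (g : P)⁻¹ * (d : P)⁻¹) by group]
          exact mul_mem hg (hN.conj_mem _ (inv_mem hg) d)
        have h3 : (⟨⁅g, d⁆, h1⟩ : commutator cert.sub) ∈ (⊥ : Subgroup (commutator cert.sub)) :=
          h ▸ (show _ ∈ (N.subgroupOf cert.sub).subgroupOf (commutator cert.sub) from h2)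
        exact commutatorElement_eq_one_iff_mul_comm.mp (congrArg Subtype.val (Subgroup.mem_bot.mp h3))
      refine Subgroup.mem_center_iff.mpr fun y => ?_
      have hy : y ∈ Subgroup.centralizer ({g} : Set cert.sub) := by
        refine (Subgroup.closure_le _).mpr ?_ (gS_closure ▸ Subgroup.mem_top y)
        rintro _ ⟨x, hx, rfl⟩
        refine Subgroup.mem_centralizer_singleton_iff.mpr ?_
        have h0 : gS 0 * g = g * gS 0 := (Subgroup.mem_center_iff.mp
          (N0_le (Subgroup.subset_closure (Or.inl rfl))) g).symm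
        have h1 := hd _ (gS_mul_mem hx)
        refine mul_right_cancel (b := gS 0) ?_
        calc gS x * g * gS 0 = gS x * gS 0 * g := by rw [mul_assoc, ← h0, ← mul_assoc]
          _ = g * gS x * gS 0 := by rw [← h1, mul_assoc g]
      exact Subgroup.mem_centralizer_singleton_iff.mp hy
    have hmk : Function.Surjective ((QuotientGroup.mk' N).comp cert.sub.subtype) := by
      intro q
      obtain ⟨g, rfl⟩ := QuotientGroup.mk'_surjective N q
      have hg : g ∈ ((cert.sub ⊔ N : Subgroup P) : Set P) := htop ▸ Subgroup.mem_top g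
      rw [Subgroup.mul_normal] at hg
      obtain ⟨u, hu, v, hv, rfl⟩ := hg
      exact ⟨⟨u, hu⟩, QuotientGroup.eq.mpr (by simpa [mul_assoc] using hv)⟩
    obtain ⟨u, hu⟩ := hmk (QuotientGroup.mk (presFi24.σ 1))
    have hc : ∀ g : cert.sub, Commute ((QuotientGroup.mk' N) (g : P)) (QuotientGroup.mk' N (presFi24.σ 0)) :=
      fun g => (l_central g.2).map (QuotientGroup.mk' N)
    have h01 := congrArg (QuotientGroup.mk' N) braid01
    simp only [map_mul] at h01
    have c1 : Commute (QuotientGroup.mk' N (presFi24.σ 1)) (QuotientGroup.mk' N (presFi24.σ 0)) := by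
      have := hc u
      rwa [show (QuotientGroup.mk' N) (u : P) = QuotientGroup.mk' N (presFi24.σ 1) from hu] at this
    have e10 : QuotientGroup.mk' N (presFi24.σ 1) = QuotientGroup.mk' N (presFi24.σ 0) := by
      rw [c1.eq] at h01
      exact (mul_left_cancel h01).symm
    have h12 := congrArg (QuotientGroup.mk' N) (braid (x := 1) (y := 2) (by decide +kernel))
    simp only [map_mul] at h12
    rw [e10] at h12
    have c2 := (comm (x := 0) (y := 2) (by decide +kernel)).map (QuotientGroup.mk' N)
    rw [← c2.eq] at h12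
    have e20 : QuotientGroup.mk' N (presFi24.σ 2) = QuotientGroup.mk' N (presFi24.σ 0) :=
      (mul_left_cancel h12).symm
    have hm : (presFi24.σ 2)⁻¹ * presFi24.σ 0 ∈ N := QuotientGroup.eq.mp e20
    have hz := hcap ⟨_, mul_mem (inv_mem (σ_mem (x := 2) (by decide))) (σ_mem (x := 0) (by decide))⟩ hm
    have hz' := congrArg Subtype.val (Subgroup.mem_center_iff.mp hz (gS 3))
    simp only [Subgroup.coe_mul, gS_val (show (3 : ℕ) ∈ [0, 2, 3, 4, 5, 6, 7, 8, 9, 10, 11] by decide)] at hz'
    have c3 := comm (x := 0) (y := 3) (by decide +kernel)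
    obtain ⟨d, hd, hne⟩ := ab_move
    refine not_commute (x := 2) (y := 3) (by decide) (by decide)
      ((show ∀ d ∈ [0, 1, 2, 4, 6, 9, 12, 17, 24, 36], d < 306936 by decide) d hd) hne ?_
    rw [inv_σ, mul_assoc (presFi24.σ 2), c3.eq, ← mul_assoc, ← mul_assoc] at hz'
    exact (mul_right_cancel hz').symm
  · -- the subgroup contains products of pairs of generators
    have hD : ∀ g ∈ commutator cert.sub, (g : P) ∈ N := fun g hg => by
      have : (⟨g, hg⟩ : commutator cert.sub) ∈ (N.subgroupOf cert.sub).subgroupOf (commutator cert.sub) :=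
        h ▸ Subgroup.mem_top _
      exact this
    have hxl : ∀ x ∈ [0, 2, 3, 4, 5, 6, 7, 8, 9, 10, 11],
        (QuotientGroup.mk (presFi24.σ x) : P ⧸ N) = QuotientGroup.mk (presFi24.σ 0) := by
      intro x hx
      rw [QuotientGroup.eq, inv_σ]
      have := hD _ (gS_mul_mem hx)
      rwa [Subgroup.coe_mul, gS_val hx, gS_val (by decide)] at this
    have h1 : (QuotientGroup.mk (presFi24.σ 1) : P ⧸ N) = QuotientGroup.mk (presFi24.σ 0) := by
      have h12 := congrArg (QuotientGroup.mk' N) (braid (x := 1) (y := 3 - 1) (by decide +kernel))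
      have c13 := (comm (x := 1) (y := 3) (by decide +kernel)).map (QuotientGroup.mk' N)
      simp only [map_mul] at h12
      rw [show QuotientGroup.mk' N (presFi24.σ 3) = QuotientGroup.mk' N (presFi24.σ 0) from hxl 3 (by decide)] at c13
      rw [show QuotientGroup.mk' N (presFi24.σ (3 - 1)) = QuotientGroup.mk' N (presFi24.σ 0) from hxl 2 (by decide),
        c13.eq] at h12
      exact mul_left_cancel h12
    have hgen : ∀ g : P, (QuotientGroup.mk g : P ⧸ N) ∈ Subgroup.zpowers (QuotientGroup.mk (presFi24.σ 0) : P ⧸ N) := by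
      intro g
      have : g ∈ (Subgroup.zpowers (QuotientGroup.mk (presFi24.σ 0) : P ⧸ N)).comap (QuotientGroup.mk' N) := by
        refine (Subgroup.closure_le _).mpr ?_ (presFi24.gen_closure ▸ Subgroup.mem_top g)
        rintro _ ⟨x, hx, rfl⟩
        refine ⟨1, ?_⟩
        show _ ^ (1 : ℤ) = _
        rw [zpow_one]
        by_cases hx1 : x = 1
        · subst hx1; exact h1.symm
        · exact (hxl x ((show ∀ x < 12, x ≠ 1 → x ∈ [0, 2, 3, 4, 5, 6, 7, 8, 9, 10, 11] by decide) x hx hx1)).symm
      exact this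
    rw [commutator_eq_closure, Subgroup.closure_le]
    rintro _ ⟨a, b, rfl⟩
    rw [SetLike.mem_coe, ← QuotientGroup.eq_one_iff, ← QuotientGroup.mk'_apply, map_commutatorElement,
      commutatorElement_eq_one_iff_mul_comm]
    obtain ⟨i, hi⟩ := hgen a
    obtain ⟨j, hj⟩ := hgen b
    rw [QuotientGroup.mk'_apply, QuotientGroup.mk'_apply, ← hi, ← hj]
    exact (Commute.zpow_zpow_self _ i j).eq

theorem index_commutator : (commutator P).index = 2 := by
  rw [Subgroup.index_eq_two_iff]
  refine ⟨presFi24.σ 0, fun b => ?_⟩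
  have hout : presFi24.σ 0 ∉ commutator P := fun h => by
    have := commutator_le_sgn_ker h
    rw [MonoidHom.mem_ker, sgn_σ0] at this
    exact absurd this (by decide)
  have hgen : ∀ g : P, g ∈ commutator P ∨ g * presFi24.σ 0 ∈ commutator P := by
    let A := P ⧸ commutator P
    have hc : ∀ d ∈ Dset, (QuotientGroup.mk d : A) = QuotientGroup.mk (presFi24.σ 0) := by
      intro d hd
      obtain ⟨u, rfl⟩ := isConj_iff.mp hd
      rw [QuotientGroup.eq]
      have : (u * presFi24.σ 0 * u⁻¹)⁻¹ * presFi24.σ 0 = ⁅u, (presFi24.σ 0)⁻¹⁆ := by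
        rw [commutatorElement_def]; group
      rw [this]
      exact Subgroup.commutator_mem_commutator (Subgroup.mem_top _) (Subgroup.mem_top _)
    intro g
    have : g ∈ (Subgroup.zpowers (QuotientGroup.mk (presFi24.σ 0) : A)).comap (QuotientGroup.mk' (commutator P)) := by
      refine (closure_D ▸ (Subgroup.closure_le _).mpr ?_) (Subgroup.mem_top g)
      intro d hd
      exact ⟨1, by show _ ^ (1 : ℤ) = _; rw [zpow_one]; exact (hc d hd).symm⟩
    obtain ⟨m, hm⟩ := this
    simp only at hm
    rcases Int.even_or_odd' m with ⟨q, rfl | rfl⟩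
    · left
      rw [← QuotientGroup.eq_one_iff, ← QuotientGroup.mk'_apply, ← hm, zpow_mul, zpow_two, ← QuotientGroup.mk_mul,
        presFi24.σ_sq, QuotientGroup.mk_one, one_zpow]
    · right
      rw [← QuotientGroup.eq_one_iff, QuotientGroup.mk_mul, ← QuotientGroup.mk'_apply (commutator P) g, ← hm, zpow_add,
        zpow_mul, zpow_two, ← QuotientGroup.mk_mul, presFi24.σ_sq, QuotientGroup.mk_one, one_zpow, one_mul, zpow_one,
        ← QuotientGroup.mk_mul, presFi24.σ_sq, QuotientGroup.mk_one]
  rcases hgen b with h | h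
  · exact Or.inr ⟨h, fun h' => hout ((Subgroup.mul_mem_cancel_left _ h).mp h')⟩
  · exact Or.inl ⟨h, fun h' => hout ((Subgroup.mul_mem_cancel_left _ h').mp h)⟩

theorem card_prime : Nat.card (commutator P) = 1255205709190661721292800 := by
  have h := (commutator P).card_mul_index
  rw [index_commutator, card_grp] at h
  omega

theorem not_square_prime (a : ℕ) : a * a ≠ 1255205709190661721292800 := by
  intro h
  rcases Nat.lt_or_ge a 1120359633864 with ha | ha
  · have h2 : a * a ≤ 1120359633863 * 1120359633863 := Nat.mul_le_mul (by omega) (by omega)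
    omega
  · have h2 : 1120359633864 * 1120359633864 ≤ a * a := Nat.mul_le_mul ha ha
    omega

/-- The derived subgroup of the presented Fi24 is the simple group Fi24'. -/
theorem isFi24' : IsFi24' (commutator P) := by
  refine ⟨?_, card_prime⟩
  have : Nontrivial (commutator P) :=
    Finite.one_lt_card_iff_nontrivial.mp (by rw [card_prime]; norm_num)
  refine ⟨fun M hM => ?_⟩
  set M' := M.map (commutator P).subtype with hM'
  have hle : M' ≤ commutator P := Subgroup.map_subtype_le M
  have hnorm : ∀ m ∈ M', ∀ c ∈ commutator P, c * m * c⁻¹ ∈ M' := by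
    rintro _ ⟨m, hm, rfl⟩ c hc
    exact ⟨⟨c, hc⟩ * m * ⟨c, hc⟩⁻¹, hM.conj_mem m hm ⟨c, hc⟩, rfl⟩
  set l := presFi24.σ 0
  set Ml := M'.map (MulAut.conj l).toMonoidHom with hMl
  have hlinv : l⁻¹ = l := inv_σ 0
  have hMl_mem : ∀ g, g ∈ Ml ↔ l * g * l ∈ M' := by
    intro g
    constructor
    · rintro ⟨m, hm, rfl⟩
      show l * (l * m * l⁻¹) * l ∈ M'
      rwa [hlinv, show l * (l * m * l) * l = l * l * m * (l * l) by group, presFi24.σ_sq, one_mul, mul_one]
    · intro hg
      refine ⟨_, hg, ?_⟩
      show l * (l * g * l) * l⁻¹ = g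
      rw [hlinv, show l * (l * g * l) * l = l * l * g * (l * l) by group, presFi24.σ_sq, one_mul, mul_one]
  have hnl : ∀ m ∈ Ml, ∀ c ∈ commutator P, c * m * c⁻¹ ∈ Ml := by
    intro m hm c hc
    rw [hMl_mem] at hm ⊢
    have hc' : l * c * l ∈ commutator P := by
      have := (inferInstance : (commutator P).Normal).conj_mem c hc l
      rwa [hlinv] at this
    have e : l * (c * m * c⁻¹) * l = l * c * l * (l * m * l) * (l * c * l)⁻¹ := by
      rw [mul_inv_rev, mul_inv_rev, hlinv]
      calc l * (c * m * c⁻¹) * l = l * c * 1 * m * 1 * c⁻¹ * l := by group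
        _ = l * c * (l * l) * m * (l * l) * c⁻¹ * l := by rw [presFi24.σ_sq]
        _ = _ := by group
    rw [e]
    exact hnorm _ hm _ hc'
  have hl_mem : ∀ g : P, g ∈ commutator P ∨ ∃ c ∈ commutator P, g = c * l := by
    intro g
    by_cases hg : g ∈ commutator P
    · exact Or.inl hg
    · right
      refine ⟨g * l, ?_, by rw [mul_assoc, presFi24.σ_sq, mul_one]⟩
      have hout : l ∉ commutator P := fun h => by
        have := commutator_le_sgn_ker h
        rw [MonoidHom.mem_ker, sgn_σ0] at this
        exact absurd this (by decide)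
      rw [Subgroup.mul_mem_iff_of_index_two index_commutator]
      exact iff_of_false hg hout
  have hswap : ∀ g ∈ M', l * g * l ∈ Ml := by
    intro g hg
    rw [hMl_mem, show l * (l * g * l) * l = l * l * g * (l * l) by group, presFi24.σ_sq, one_mul, mul_one]
    exact hg
  have hI : (M' ⊓ Ml).Normal := ⟨fun m hm g => by
    obtain ⟨h1, h2⟩ := Subgroup.mem_inf.mp hm
    rcases hl_mem g with hg | ⟨c, hc, rfl⟩
    · exact Subgroup.mem_inf.mpr ⟨hnorm m h1 g hg, hnl m h2 g hg⟩
    · have e : c * l * m * (c * l)⁻¹ = c * (l * m * l) * c⁻¹ := by rw [mul_inv_rev, hlinv]; group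
      rw [e]
      exact Subgroup.mem_inf.mpr ⟨hnorm _ ((hMl_mem m).mp h2) c hc, hnl _ (hswap m h1) c hc⟩⟩
  rcases normal_cases (M' ⊓ Ml) with hb | ht
  · have hJ : (M' ⊔ Ml).Normal := by
      refine ⟨fun m hm g => ?_⟩
      have key : M' ⊔ Ml ≤ (M' ⊔ Ml).comap (MulAut.conj g).toMonoidHom := by
        rcases hl_mem g with hg | ⟨c, hc, rfl⟩
        · exact sup_le (fun x hx => Subgroup.mem_sup_left (hnorm x hx g hg))
            fun x hx => Subgroup.mem_sup_right (hnl x hx g hg)
        · refine sup_le (fun x hx => ?_) fun x hx => ?_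
          · show c * l * x * (c * l)⁻¹ ∈ M' ⊔ Ml
            rw [mul_inv_rev, hlinv, show c * l * x * (l * c⁻¹) = c * (l * x * l) * c⁻¹ by group]
            exact Subgroup.mem_sup_right (hnl _ (hswap x hx) c hc)
          · show c * l * x * (c * l)⁻¹ ∈ M' ⊔ Ml
            rw [mul_inv_rev, hlinv, show c * l * x * (l * c⁻¹) = c * (l * x * l) * c⁻¹ by group]
            exact Subgroup.mem_sup_left (hnorm _ ((hMl_mem x).mp hx) c hc)
      exact key hm
    rcases normal_cases (M' ⊔ Ml) with hb' | ht'
    · left
      have : M' = ⊥ := le_bot_iff.mp (le_sup_left.trans hb'.le)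
      exact Subgroup.map_eq_bot_iff_of_injective _ (Subgroup.subtype_injective _) |>.mp this
    · exfalso
      have hMle : Ml ≤ commutator P := by
        rintro _ ⟨m, hm, rfl⟩
        exact (inferInstance : (commutator P).Normal).conj_mem m (hle hm) l
      have hcomm : M' ≤ Subgroup.normalizer (Ml : Set P) := fun m hm => by
        rw [Subgroup.mem_normalizer_iff]
        intro x
        constructor
        · exact fun hx => hnl x hx m (hle hm)
        · intro hx
          have := hnl _ hx m⁻¹ (inv_mem (hle hm))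
          rwa [inv_inv, show m⁻¹ * (m * x * m⁻¹) * m = x by group] at this
      have hprod : Nat.card (M' ⊔ Ml : Subgroup P) = Nat.card M' * Nat.card Ml := by
        have hset : ((M' ⊔ Ml : Subgroup P) : Set P) = (M' : Set P) * (Ml : Set P) :=
          (Subgroup.coe_mul_of_left_le_normalizer_right M' Ml hcomm)
        have hinj : Set.InjOn (fun x : P × P => x.1 * x.2) ((M' : Set P) ×ˢ (Ml : Set P)) := by
          rintro ⟨a, b⟩ ⟨ha, hb1⟩ ⟨a', b'⟩ ⟨ha', hb2⟩ e
          have e' : a'⁻¹ * a = b' * b⁻¹ := by
            have := congrArg (fun y => a'⁻¹ * y * b⁻¹) e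
            simpa [mul_assoc] using this
          have : a'⁻¹ * a ∈ M' ⊓ Ml :=
            Subgroup.mem_inf.mpr ⟨mul_mem (inv_mem ha') ha, e' ▸ mul_mem hb2 (inv_mem hb1)⟩
          rw [hb, Subgroup.mem_bot, inv_mul_eq_one] at this
          subst this
          exact Prod.ext rfl (mul_left_cancel e)
        show Nat.card ((M' ⊔ Ml : Subgroup P) : Set P) = Nat.card (M' : Set P) * Nat.card (Ml : Set P)
        rw [Nat.card_coe_set_eq, Nat.card_coe_set_eq, Nat.card_coe_set_eq, hset, ← Set.image_mul_prod,
          Set.ncard_image_of_injOn hinj, Set.ncard_prod]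
      have hM : Nat.card Ml = Nat.card M' :=
        Nat.card_congr (M'.equivMapOfInjective _ (MulAut.conj l).injective).symm.toEquiv
      have heq : M' ⊔ Ml = commutator P := le_antisymm (sup_le hle hMle) ht'
      rw [hM, heq, card_prime] at hprod
      exact absurd hprod.symm (not_square_prime _)
  · right
    have : commutator P ≤ M' := ht.trans inf_le_left
    rw [eq_top_iff]
    intro c _
    obtain ⟨m, hm, e⟩ := this c.2
    rwa [← Subtype.ext e]

end CfsgLib.CosetEnum.Fi24Table
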