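/-
Certificate data of the coset table of Fi24.
-/
import Cfsg.Agent.Lib.CosetEnum.Fi24Table.Data

set_option autoImplicit false
set_option Elab.async false
set_option maxRecDepth 1000000

namespace CfsgLib.CosetEnum.Fi24Table

open CfsgLib.CosetEnum

theorem pts160_ok : FastPoints.okPts table 12 fast 40000 250 = true := by decide +kernel

theorem pts161_ok : FastPoints.okPts table 12 fast 40250 250 = true := by decide +kernel

theorem pts162_ok : FastPoints.okPts table 12 fast 40500 250 = true := by decide +kernel

theorem pts163_ok : FastPoints.okPts table 12 fast 40750 250 = true := by decide +kernel

theorem pts164_ok : FastPoints.okPts table 12 fast 41000 250 = true := by decide +kernel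

theorem pts165_ok : FastPoints.okPts table 12 fast 41250 250 = true := by decide +kernel

theorem pts166_ok : FastPoints.okPts table 12 fast 41500 250 = true := by decide +kernel

theorem pts167_ok : FastPoints.okPts table 12 fast 41750 250 = true := by decide +kernel

theorem pts168_ok : FastPoints.okPts table 12 fast 42000 250 = true := by decide +kernel

theorem pts169_ok : FastPoints.okPts table 12 fast 42250 250 = true := by decide +kernel

theorem pts170_ok : FastPoints.okPts table 12 fast 42500 250 = true := by decide +kernel

theorem pts171_ok : FastPoints.okPts table 12 fast 42750 250 = true := by decide +kernel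

theorem pts172_ok : FastPoints.okPts table 12 fast 43000 250 = true := by decide +kernel

theorem pts173_ok : FastPoints.okPts table 12 fast 43250 250 = true := by decide +kernel

theorem pts174_ok : FastPoints.okPts table 12 fast 43500 250 = true := by decide +kernel

theorem pts175_ok : FastPoints.okPts table 12 fast 43750 250 = true := by decide +kernel


end CfsgLib.CosetEnum.Fi24Table
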