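/-
Certificate data of the coset table of Fi24.
-/
import Cfsg.Agent.Lib.CosetEnum.Fi24Table.Data

set_option autoImplicit false
set_option Elab.async false
set_option maxRecDepth 1000000

namespace CfsgLib.CosetEnum.Fi24Table

open CfsgLib.CosetEnum

theorem pts352_ok : FastPoints.okPts table 12 fast 88000 250 = true := by decide +kernel

theorem pts353_ok : FastPoints.okPts table 12 fast 88250 250 = true := by decide +kernel

theorem pts354_ok : FastPoints.okPts table 12 fast 88500 250 = true := by decide +kernel

theorem pts355_ok : FastPoints.okPts table 12 fast 88750 250 = true := by decide +kernel

theorem pts356_ok : FastPoints.okPts table 12 fast 89000 250 = true := by decide +kernel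

theorem pts357_ok : FastPoints.okPts table 12 fast 89250 250 = true := by decide +kernel

theorem pts358_ok : FastPoints.okPts table 12 fast 89500 250 = true := by decide +kernel

theorem pts359_ok : FastPoints.okPts table 12 fast 89750 250 = true := by decide +kernel

theorem pts360_ok : FastPoints.okPts table 12 fast 90000 250 = true := by decide +kernel

theorem pts361_ok : FastPoints.okPts table 12 fast 90250 250 = true := by decide +kernel

theorem pts362_ok : FastPoints.okPts table 12 fast 90500 250 = true := by decide +kernel

theorem pts363_ok : FastPoints.okPts table 12 fast 90750 250 = true := by decide +kernel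

theorem pts364_ok : FastPoints.okPts table 12 fast 91000 250 = true := by decide +kernel

theorem pts365_ok : FastPoints.okPts table 12 fast 91250 250 = true := by decide +kernel

theorem pts366_ok : FastPoints.okPts table 12 fast 91500 250 = true := by decide +kernel

theorem pts367_ok : FastPoints.okPts table 12 fast 91750 250 = true := by decide +kernel


end CfsgLib.CosetEnum.Fi24Table
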