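/-
Certificate data of the coset table of Fi24.
-/
import Cfsg.Agent.Lib.CosetEnum.Fi24Table.Data

set_option autoImplicit false
set_option Elab.async false
set_option maxRecDepth 1000000

namespace CfsgLib.CosetEnum.Fi24Table

open CfsgLib.CosetEnum

theorem pts544_ok : FastPoints.okPts table 12 fast 136000 250 = true := by decide +kernel

theorem pts545_ok : FastPoints.okPts table 12 fast 136250 250 = true := by decide +kernel

theorem pts546_ok : FastPoints.okPts table 12 fast 136500 250 = true := by decide +kernel

theorem pts547_ok : FastPoints.okPts table 12 fast 136750 250 = true := by decide +kernel

theorem pts548_ok : FastPoints.okPts table 12 fast 137000 250 = true := by decide +kernel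

theorem pts549_ok : FastPoints.okPts table 12 fast 137250 250 = true := by decide +kernel

theorem pts550_ok : FastPoints.okPts table 12 fast 137500 250 = true := by decide +kernel

theorem pts551_ok : FastPoints.okPts table 12 fast 137750 250 = true := by decide +kernel

theorem pts552_ok : FastPoints.okPts table 12 fast 138000 250 = true := by decide +kernel

theorem pts553_ok : FastPoints.okPts table 12 fast 138250 250 = true := by decide +kernel

theorem pts554_ok : FastPoints.okPts table 12 fast 138500 250 = true := by decide +kernel

theorem pts555_ok : FastPoints.okPts table 12 fast 138750 250 = true := by decide +kernel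

theorem pts556_ok : FastPoints.okPts table 12 fast 139000 250 = true := by decide +kernel

theorem pts557_ok : FastPoints.okPts table 12 fast 139250 250 = true := by decide +kernel

theorem pts558_ok : FastPoints.okPts table 12 fast 139500 250 = true := by decide +kernel

theorem pts559_ok : FastPoints.okPts table 12 fast 139750 250 = true := by decide +kernel


end CfsgLib.CosetEnum.Fi24Table
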