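/-
Certificate data of the coset table of Fi24.
-/
import Cfsg.Agent.Lib.CosetEnum.Fi24Table.Data

set_option autoImplicit false
set_option Elab.async false
set_option maxRecDepth 1000000

namespace CfsgLib.CosetEnum.Fi24Table

open CfsgLib.CosetEnum

theorem pts736_ok : FastPoints.okPts table 12 fast 184000 250 = true := by decide +kernel

theorem pts737_ok : FastPoints.okPts table 12 fast 184250 250 = true := by decide +kernel

theorem pts738_ok : FastPoints.okPts table 12 fast 184500 250 = true := by decide +kernel

theorem pts739_ok : FastPoints.okPts table 12 fast 184750 250 = true := by decide +kernel

theorem pts740_ok : FastPoints.okPts table 12 fast 185000 250 = true := by decide +kernel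

theorem pts741_ok : FastPoints.okPts table 12 fast 185250 250 = true := by decide +kernel

theorem pts742_ok : FastPoints.okPts table 12 fast 185500 250 = true := by decide +kernel

theorem pts743_ok : FastPoints.okPts table 12 fast 185750 250 = true := by decide +kernel

theorem pts744_ok : FastPoints.okPts table 12 fast 186000 250 = true := by decide +kernel

theorem pts745_ok : FastPoints.okPts table 12 fast 186250 250 = true := by decide +kernel

theorem pts746_ok : FastPoints.okPts table 12 fast 186500 250 = true := by decide +kernel

theorem pts747_ok : FastPoints.okPts table 12 fast 186750 250 = true := by decide +kernel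

theorem pts748_ok : FastPoints.okPts table 12 fast 187000 250 = true := by decide +kernel

theorem pts749_ok : FastPoints.okPts table 12 fast 187250 250 = true := by decide +kernel

theorem pts750_ok : FastPoints.okPts table 12 fast 187500 250 = true := by decide +kernel

theorem pts751_ok : FastPoints.okPts table 12 fast 187750 250 = true := by decide +kernel


end CfsgLib.CosetEnum.Fi24Table
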