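/-
Certificate data of the coset table of Fi24.
-/
import Cfsg.Agent.Lib.CosetEnum.Fi24Table.Data

set_option autoImplicit false
set_option Elab.async false
set_option maxRecDepth 1000000

namespace CfsgLib.CosetEnum.Fi24Table

open CfsgLib.CosetEnum

theorem pts928_ok : FastPoints.okPts table 12 fast 232000 250 = true := by decide +kernel

theorem pts929_ok : FastPoints.okPts table 12 fast 232250 250 = true := by decide +kernel

theorem pts930_ok : FastPoints.okPts table 12 fast 232500 250 = true := by decide +kernel

theorem pts931_ok : FastPoints.okPts table 12 fast 232750 250 = true := by decide +kernel

theorem pts932_ok : FastPoints.okPts table 12 fast 233000 250 = true := by decide +kernel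

theorem pts933_ok : FastPoints.okPts table 12 fast 233250 250 = true := by decide +kernel

theorem pts934_ok : FastPoints.okPts table 12 fast 233500 250 = true := by decide +kernel

theorem pts935_ok : FastPoints.okPts table 12 fast 233750 250 = true := by decide +kernel

theorem pts936_ok : FastPoints.okPts table 12 fast 234000 250 = true := by decide +kernel

theorem pts937_ok : FastPoints.okPts table 12 fast 234250 250 = true := by decide +kernel

theorem pts938_ok : FastPoints.okPts table 12 fast 234500 250 = true := by decide +kernel

theorem pts939_ok : FastPoints.okPts table 12 fast 234750 250 = true := by decide +kernel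

theorem pts940_ok : FastPoints.okPts table 12 fast 235000 250 = true := by decide +kernel

theorem pts941_ok : FastPoints.okPts table 12 fast 235250 250 = true := by decide +kernel

theorem pts942_ok : FastPoints.okPts table 12 fast 235500 250 = true := by decide +kernel

theorem pts943_ok : FastPoints.okPts table 12 fast 235750 250 = true := by decide +kernel


end CfsgLib.CosetEnum.Fi24Table
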