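/-
Certificate data of the coset table of Fi24.
-/
import Cfsg.Agent.Lib.CosetEnum.Fi24Table.Data

set_option autoImplicit false
set_option Elab.async false
set_option maxRecDepth 1000000

namespace CfsgLib.CosetEnum.Fi24Table

open CfsgLib.CosetEnum

theorem pts1120_ok : FastPoints.okPts table 12 fast 280000 250 = true := by decide +kernel

theorem pts1121_ok : FastPoints.okPts table 12 fast 280250 250 = true := by decide +kernel

theorem pts1122_ok : FastPoints.okPts table 12 fast 280500 250 = true := by decide +kernel

theorem pts1123_ok : FastPoints.okPts table 12 fast 280750 250 = true := by decide +kernel

theorem pts1124_ok : FastPoints.okPts table 12 fast 281000 250 = true := by decide +kernel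

theorem pts1125_ok : FastPoints.okPts table 12 fast 281250 250 = true := by decide +kernel

theorem pts1126_ok : FastPoints.okPts table 12 fast 281500 250 = true := by decide +kernel

theorem pts1127_ok : FastPoints.okPts table 12 fast 281750 250 = true := by decide +kernel

theorem pts1128_ok : FastPoints.okPts table 12 fast 282000 250 = true := by decide +kernel

theorem pts1129_ok : FastPoints.okPts table 12 fast 282250 250 = true := by decide +kernel

theorem pts1130_ok : FastPoints.okPts table 12 fast 282500 250 = true := by decide +kernel

theorem pts1131_ok : FastPoints.okPts table 12 fast 282750 250 = true := by decide +kernel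

theorem pts1132_ok : FastPoints.okPts table 12 fast 283000 250 = true := by decide +kernel

theorem pts1133_ok : FastPoints.okPts table 12 fast 283250 250 = true := by decide +kernel

theorem pts1134_ok : FastPoints.okPts table 12 fast 283500 250 = true := by decide +kernel

theorem pts1135_ok : FastPoints.okPts table 12 fast 283750 250 = true := by decide +kernel


end CfsgLib.CosetEnum.Fi24Table
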